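import Mathlib
import Cfsg.Agent.Lib.RankThreeEss69.Basic
import Cfsg.Agent.Lib.FusionOrderFive.Transvection
import Cfsg.Agent.Lib.Fusion87.Stabilizer
import Cfsg.Agent.Lib.PGroup.ElemAbelian
import Cfsg.Agent.Lib.PGroup.NormalElem

/-!
A `p`-group with a set of distinguished normal maximal subgroups and groups of automorphisms of
them, behaving like the essential subgroups of a saturated fusion system: generalities.
-/

set_option autoImplicit false
set_option linter.unusedSectionVars false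

namespace Cfsg.Agent.Lib.RankThreeNormal61

open Cfsg Cfsg.Agent.Lib Cfsg.Agent.Lib.RankThreeEss69
open scoped commutatorElement

universe u

/-- The properties of the essential subgroups of a saturated system which are used, when all of them
are normal maximal subgroups. -/
structure NormalSys (p : ℕ) (G : Type u) [Group G] where
  IsEss : Subgroup G → Prop
  aut : (E : Subgroup G) → Subgroup (MulAut E)
  glob : Subgroup (MulAut G)
  pgroup : IsPGroup p G
  odd : p ≠ 2
  rank : Cfsg.SectionalPRankLE p 3 G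
  rank' : (∀ a b c : G, ⁅⁅a, b⁆, c⁆ = 1) → Cfsg.SectionalPRankLE p 2 G → False
  inn : ∀ g : G, MulAut.conj g ∈ glob
  normal : ∀ {E : Subgroup G}, IsEss E → E.Normal
  index : ∀ {E : Subgroup G}, IsEss E → E.index = p
  centric : ∀ {E : Subgroup G}, IsEss E → ∀ g : G, (∀ x ∈ E, Commute g x) → g ∈ E
  conj_mem : ∀ {E : Subgroup G}, IsEss E → ∀ (g : G) (α : MulAut E),
    (∀ x : E, (α x : G) = g * x * g⁻¹) → α ∈ aut E
  radical : ∀ {E : Subgroup G}, IsEss E → ∀ K : Subgroup (MulAut E), K ≤ aut E →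
    (∀ β ∈ aut E, ∀ k ∈ K, β * k * β⁻¹ ∈ K) → IsPGroup p K →
    ∀ (g : G), ∀ α ∈ K, (∀ x : E, (α x : G) = g * x * g⁻¹) → g ∈ E
  noInv : ∀ {E : Subgroup G}, IsEss E → ∀ W : Subgroup E, W.Normal → frattini E ≤ W → W.index ∣ p →
    (frattini E).relIndex W ∣ p → (∀ α ∈ aut E, ∀ w ∈ W, α w ∈ W) → False
  sylowConj : ∀ {E : Subgroup G}, IsEss E → ∀ T : Subgroup (MulAut E), T ≤ aut E → IsPGroup p T →
    ∃ β ∈ aut E, ∀ t ∈ T, ∃ g : G, ∀ x : E, ((β * t * β⁻¹) x : G) = g * x * g⁻¹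
  frattiniArg : ∀ {E : Subgroup G}, IsEss E → ∀ K : Subgroup (MulAut E), K ≤ aut E →
    (∀ β ∈ aut E, ∀ k ∈ K, β * k * β⁻¹ ∈ K) →
    (∀ (g : G) (α : MulAut E), (∀ x : E, (α x : G) = g * x * g⁻¹) → α ∈ K) →
    ∀ α ∈ aut E, ∃ β ∈ K, ∃ γ ∈ glob, ∀ x : E, (α x : G) = γ (β x)
  extend : ∀ {E : Subgroup G}, IsEss E → ∀ β ∈ aut E,
    (∀ g : G, ∃ h : G, ∀ x : E, ∀ hx : g * (β⁻¹ x : E) * g⁻¹ ∈ E,
      (β ⟨_, hx⟩ : G) = h * x * h⁻¹) → ∃ γ ∈ glob, ∀ x : E, γ x = (β x : G)
  restrict : ∀ {E : Subgroup G}, IsEss E → ∀ γ ∈ glob, (∀ x ∈ E, γ x ∈ E) →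
    ∃ α ∈ aut E, ∀ x : E, (α x : G) = γ x
  image : ∀ {E : Subgroup G}, IsEss E → ∀ σ ∈ glob, IsEss (E.map σ.toMonoidHom) ∧
    ∀ α ∈ aut E, ∃ α' ∈ aut (E.map σ.toMonoidHom), ∀ (x : E) (h : σ x ∈ E.map σ.toMonoidHom),
      (α' ⟨σ x, h⟩ : G) = σ (α x)
  shear : ∀ κ ∈ glob, ∀ w ∈ Subgroup.center G, ∀ d : G, κ d = d → d ^ p = 1 → κ w = w * d → d = 1

variable {G : Type u} [Group G] [Finite G] {p : ℕ} [hp : Fact p.Prime] (D : NormalSys p G)

/-- No non-trivial subgroup is kept by all the automorphisms. -/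
def NormalSys.CoreFree : Prop :=
  ∀ K : Subgroup G, K ≠ ⊥ → (∀ γ ∈ D.glob, ∀ x ∈ K, γ x ∈ K) →
    (∀ E, D.IsEss E → K ≤ E ∧ ∀ α ∈ D.aut E, ∀ x : E, (x : G) ∈ K → (α x : G) ∈ K) → False

/-- `K` is kept by the automorphisms of `E`. -/
def NormalSys.Inv (E K : Subgroup G) : Prop :=
  ∀ α ∈ D.aut E, ∀ x : E, (x : G) ∈ K → (α x : G) ∈ K

namespace NormalSys

variable {D} {E : Subgroup G} (hE : D.IsEss E)

/-- Conjugation by `g` as an automorphism of `E`. -/
noncomputable def cAut (g : G) : MulAut E :=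
  haveI := D.normal hE
  MulAut.conjNormal g

theorem cAut_apply (g : G) (x : E) : (cAut hE g x : G) = g * x * g⁻¹ :=
  haveI := D.normal hE
  MulAut.conjNormal_apply g x

theorem cAut_mem (g : G) : cAut hE g ∈ D.aut E := D.conj_mem hE g _ (cAut_apply hE g)

include hE

/-- A subgroup of `E` kept by its automorphisms is normal. -/
theorem normal_of_inv {K : Subgroup G} (hKE : K ≤ E) (hK : D.Inv E K) : K.Normal :=
  ⟨fun k hk g => by
    have h := hK _ (cAut_mem hE g) ⟨k, hKE hk⟩ hk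
    rwa [cAut_apply] at h⟩

theorem inv_eq {K : Subgroup G} (hK : D.Inv E K) {α : MulAut E} (hα : α ∈ D.aut E) (x : E) :
    (α x : G) ∈ K ↔ (x : G) ∈ K := by
  refine ⟨fun h => ?_, hK α hα x⟩
  have := hK α⁻¹ ((D.aut E).inv_mem hα) (α x) h
  rwa [MulAut.inv_apply_self] at this

theorem conj_mem_E {x : G} (hx : x ∈ E) (g : G) : g * x * g⁻¹ ∈ E := (D.normal hE).conj_mem x hx g

theorem card_E_mul : Nat.card E * p = Nat.card G := by
  rw [← E.card_mul_index, D.index hE]

theorem ne_top : E ≠ ⊤ := fun h => by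
  have := D.index hE
  rw [h, Subgroup.index_top] at this
  exact hp.out.ne_one this.symm

theorem sup_zpowers_eq_top {g : G} (hg : g ∉ E) : E ⊔ Subgroup.zpowers g = ⊤ := by
  haveI := D.normal hE
  refine (eq_sup_zpowers D.pgroup (le_top : E ≤ ⊤) ?_ (Subgroup.mem_top g) hg).symm
  rw [Subgroup.card_top, card_E_mul hE]

theorem pow_mem_E (g : G) : g ^ p ∈ E := by
  haveI := D.normal hE
  exact pow_mem_of_card_le D.pgroup (X := ⊤) le_top (by rw [Subgroup.card_top, card_E_mul hE])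
    (Subgroup.mem_top g)

theorem comm_mem_E (g h : G) : ⁅g, h⁆ ∈ E := by
  haveI := D.normal hE
  exact comm_le_of_card_le D.pgroup (X := ⊤) (M := E) le_top
    (by rw [Subgroup.card_top, card_E_mul hE])
    (Subgroup.commutator_mem_commutator (Subgroup.mem_top g) (Subgroup.mem_top h))

theorem exists_decomp {g : G} (hg : g ∉ E) (x : G) : ∃ e ∈ E, ∃ i : ℤ, x = e * g ^ i := by
  haveI := D.normal hE
  exact exists_of_mem_sup ((sup_zpowers_eq_top hE hg).ge (Subgroup.mem_top x))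

/-- Whatever commutes with `E` and with an element outside is central. -/
theorem mem_center_of {g : G} (hg : g ∉ E) {x : G} (h1 : ∀ e ∈ E, Commute e x) (h2 : Commute g x) :
    x ∈ Subgroup.center G := by
  refine Subgroup.mem_center_iff.2 fun y => ?_
  obtain ⟨e, he, i, rfl⟩ := exists_decomp hE hg y
  exact ((h1 e he).mul_left (h2.zpow_left i)).eq

theorem center_le : Subgroup.center G ≤ E := fun z hz =>
  D.centric hE z fun x _ => (Subgroup.mem_center_iff.1 hz x).symm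

end NormalSys

/-- The elements of order dividing `p` of the centre. -/
def zOne (p : ℕ) (G : Type u) [Group G] : Subgroup G where
  carrier := {x | x ∈ Subgroup.center G ∧ x ^ p = 1}
  one_mem' := ⟨one_mem _, one_pow p⟩
  mul_mem' := fun {a b} ha hb => ⟨mul_mem ha.1 hb.1, by
    rw [Commute.mul_pow (Subgroup.mem_center_iff.1 hb.1 a), ha.2, hb.2, one_mul]⟩
  inv_mem' := fun {a} ha => ⟨inv_mem ha.1, by rw [inv_pow, ha.2, inv_one]⟩

theorem zOne_commute {x : G} (hx : x ∈ zOne p G) (g : G) : Commute g x :=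
  Subgroup.mem_center_iff.1 hx.1 g

instance zOne_normal : (zOne p G).Normal :=
  ⟨fun x hx g => by rwa [(zOne_commute hx g).eq, mul_inv_cancel_right]⟩

theorem zOne_aut (γ : MulAut G) {x : G} (hx : x ∈ zOne p G) : γ x ∈ zOne p G := by
  refine ⟨Subgroup.mem_center_iff.2 fun g => ?_, by rw [← map_pow, hx.2, map_one]⟩
  obtain ⟨g, rfl⟩ := γ.surjective g
  rw [← map_mul, ← map_mul, Subgroup.mem_center_iff.1 hx.1 g]

/-- A non-trivial normal subgroup meets `zOne`. -/
theorem exists_mem_zOne (hG : IsPGroup p G) {N : Subgroup G} [N.Normal] (hN : N ≠ ⊥) :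
    ∃ z ∈ N, z ∈ zOne p G ∧ z ≠ 1 := by
  haveI : Nontrivial N := N.nontrivial_iff_ne_bot.2 hN
  obtain ⟨k, hk⟩ := IsPGroup.iff_card.1 (hG.to_subgroup N)
  have hk0 : k ≠ 0 := fun h => by
    rw [h, pow_zero, Subgroup.card_eq_one] at hk
    exact hN hk
  have hdvd : p ∣ Nat.card N := by rw [hk]; exact dvd_pow_self p hk0
  classical
  have hA : IsPGroup p (ConjAct G) := hG
  obtain ⟨⟨b, hb⟩, hfix, hb1⟩ := hA.exists_fixed_point_of_prime_dvd_card_of_fixed_point N hdvd
    (a := 1) (fun g => smul_one g)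
  have hbc : b ∈ Subgroup.center G := Subgroup.mem_center_iff.2 fun g => by
    have h2 : g * b * g⁻¹ = b := congrArg Subtype.val (hfix (ConjAct.toConjAct g))
    exact (mul_inv_eq_iff_eq_mul.1 h2)
  have hb1' : b ≠ 1 := fun h => hb1 (Subtype.ext h.symm)
  obtain ⟨j, hj⟩ := hG b
  have hex : ∃ i, b ^ p ^ i = 1 := ⟨j, hj⟩
  obtain ⟨i, hi⟩ : ∃ i, Nat.find hex = i + 1 := Nat.exists_eq_succ_of_ne_zero fun h => hb1' (by
    simpa [h] using Nat.find_spec hex)
  refine ⟨b ^ p ^ i, N.pow_mem hb _, ⟨Subgroup.pow_mem _ hbc _, ?_⟩, Nat.find_min hex (by omega)⟩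
  rw [← pow_mul, ← pow_succ, ← hi]
  exact Nat.find_spec hex

namespace NormalSys

variable {D}

theorem zOne_ne_bot (D : NormalSys p G) : zOne p G ≠ ⊥ := by
  intro h
  haveI : Nontrivial G := by
    refine not_subsingleton_iff_nontrivial.1 fun hs =>
      D.rank' (fun a b c => Subsingleton.elim _ _) ?_
    intro H N _ A _ _
    haveI : Subsingleton (H ⧸ N) := Quotient.instSubsingletonQuotient _
    rw [Nat.card_eq_one_iff_unique.2 ⟨inferInstance, ⟨1⟩⟩]
    exact Nat.one_le_pow _ _ hp.out.pos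
  obtain ⟨z, -, hz, hz1⟩ := exists_mem_zOne D.pgroup (N := (⊤ : Subgroup G)) top_ne_bot
  rw [h, Subgroup.mem_bot] at hz
  exact hz1 hz

theorem le_card_zOne (D : NormalSys p G) : p ≤ Nat.card (zOne p G) := by
  obtain ⟨k, hk⟩ := IsPGroup.iff_card.1 (D.pgroup.to_subgroup (zOne p G))
  rw [hk]
  refine Nat.le_self_pow (fun h => zOne_ne_bot D ?_) p
  rw [h, pow_zero, Subgroup.card_eq_one] at hk
  exact hk

/-- The rank bounds the order of an elementary abelian subgroup. -/
theorem card_elem_le (D : NormalSys p G) {A : Subgroup G} (hA : IsElementaryAbelian p A) : Nat.card A ≤ p ^ 3 := by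
  have h : SectRank.IsElemSection p (⊥ : Subgroup G) A :=
    ⟨bot_le, fun a ha b hb => by
      rw [Subgroup.mem_bot, ElemAbelian.comm hA ha hb]; group,
     fun a ha => Subgroup.mem_bot.2 (hA.2 a ha)⟩
  simpa using card_le_of_rank D.pgroup D.rank h

variable {E : Subgroup G} (hE : D.IsEss E)
include hE

theorem zOne_le : zOne p G ≤ E := fun _ hx => center_le hE hx.1

omit hE in
/-- The centre is not kept by the automorphisms of `E`. -/
def Moved (D : NormalSys p G) (E : Subgroup G) : Prop := ¬ D.Inv E (zOne p G)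

omit hE in
/-- The subgroup generated by the images of `zOne` in `E`. -/
def vSub (D : NormalSys p G) (E : Subgroup G) : Subgroup G :=
  Subgroup.closure {y | ∃ α ∈ D.aut E, ∃ x : E, (x : G) ∈ zOne p G ∧ (α x : G) = y}

omit hE in
theorem vSub_le_E (D : NormalSys p G) (E : Subgroup G) : vSub D E ≤ E :=
  (Subgroup.closure_le E).2 fun _ ⟨α, _, x, _, h⟩ => h ▸ (α x).2

theorem zOne_le_vSub : zOne p G ≤ vSub D E := fun x hx =>
  Subgroup.subset_closure ⟨1, one_mem _, ⟨x, zOne_le hE hx⟩, hx, rfl⟩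

omit hE in
theorem vSub_commute {y e : G} (hy : y ∈ vSub D E) (he : e ∈ E) : Commute e y := by
  refine (Subgroup.mem_centralizer_iff.1 ((Subgroup.closure_le (Subgroup.centralizer {e})).2 ?_ hy) e
    rfl : _)
  rintro _ ⟨α, -, x, hx, rfl⟩
  rw [SetLike.mem_coe, Subgroup.mem_centralizer_iff]
  intro e' he'
  obtain rfl : e' = e := he'
  obtain ⟨w, hw⟩ := α.surjective ⟨e', he⟩
  rw [show e' = ((α w : E) : G) from (congrArg Subtype.val hw).symm, ← Subgroup.coe_mul,
    ← Subgroup.coe_mul, ← map_mul, ← map_mul]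
  exact congrArg Subtype.val (congrArg α (Subtype.ext (zOne_commute hx w)))

omit hE in
theorem vSub_elem : IsElementaryAbelian p (vSub D E) := by
  refine ElemAbelian.closure (fun a ha b hb => ?_) fun a ha => ?_
  · exact (vSub_commute (Subgroup.subset_closure hb)
      (vSub_le_E D E (Subgroup.subset_closure ha))).eq
  · obtain ⟨α, -, x, hx, rfl⟩ := ha
    rw [← SubmonoidClass.coe_pow, ← map_pow,
      show x ^ p = 1 from Subtype.ext (by rw [SubmonoidClass.coe_pow, hx.2, OneMemClass.coe_one]),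
      map_one, OneMemClass.coe_one]

omit hE in
theorem vSub_inv : D.Inv E (vSub D E) := by
  intro α hα x hx
  have hle : vSub D E ≤ (((vSub D E).subgroupOf E).comap α.toMonoidHom).map E.subtype := by
    refine (Subgroup.closure_le _).2 ?_
    rintro _ ⟨β, hβ, w, hw, rfl⟩
    exact ⟨β w, show (α (β w) : G) ∈ vSub D E from
      Subgroup.subset_closure ⟨α * β, mul_mem hα hβ, w, hw, rfl⟩, rfl⟩
  obtain ⟨y, hy, hyx⟩ := hle hx
  obtain rfl : y = x := Subtype.ext hyx
  exact hy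

theorem vSub_normal : (vSub D E).Normal := normal_of_inv hE (vSub_le_E D E) vSub_inv

omit hE in
theorem vSub_card_le : Nat.card (vSub D E) ≤ p ^ 3 := card_elem_le D vSub_elem

theorem lt_vSub (hm : Moved D E) : zOne p G < vSub D E := lt_of_le_of_ne (zOne_le_vSub hE) fun e =>
  hm (e ▸ vSub_inv)

theorem not_moved_iff : ¬ Moved D E ↔ D.Inv E (zOne p G) := not_not

theorem vSub_not_center (hm : Moved D E) : ¬ vSub D E ≤ Subgroup.center G := fun h =>
  (lt_vSub hE hm).not_ge fun _ hy => ⟨h hy, vSub_elem.2 _ hy⟩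

/-- The centralizer of the moved centre is `E`. -/
theorem mem_of_centralizes_vSub (hm : Moved D E) {g : G} (hg : ∀ y ∈ vSub D E, Commute g y) :
    g ∈ E :=
  by_contra fun hgE => vSub_not_center hE hm fun y hy =>
    mem_center_of hE hgE (fun _ he => vSub_commute hy he) (hg y hy)

/-- The automorphisms fixing `U` and moving along `U` form a normal `p`-subgroup. -/
theorem mem_of_stab {U : Subgroup G} (hU : D.Inv E U) {g : G}
    (hfix : ∀ x ∈ E, x ∈ U → Commute g x) (hmove : ∀ x ∈ E, x⁻¹ * (g * x * g⁻¹) ∈ U) : g ∈ E := by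
  have key : ∀ α ∈ D.aut E, ∀ x : E, (α x : G) ∈ U ↔ (x : G) ∈ U := fun α hα x => inv_eq hE hU hα x
  let K : Subgroup (MulAut E) :=
    { carrier := {β | β ∈ D.aut E ∧ (∀ x : E, (x : G) ∈ U → β x = x) ∧
        ∀ x : E, ((x⁻¹ * β x : E) : G) ∈ U}
      one_mem' := ⟨one_mem _, fun x _ => rfl, fun x => by simp⟩
      mul_mem' := fun {β γ} hβ hγ => ⟨mul_mem hβ.1 hγ.1,
        fun x hx => by rw [MulAut.mul_apply, hγ.2.1 x hx, hβ.2.1 x hx],
        fun x => by
          have h1 := U.mul_mem (hγ.2.2 x) (hβ.2.2 (γ x))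
          rwa [← Subgroup.coe_mul, mul_assoc, mul_inv_cancel_left] at h1⟩
      inv_mem' := fun {β} hβ => ⟨inv_mem hβ.1, fun x hx => β.injective (by
        rw [MulAut.apply_inv_self, hβ.2.1 x hx]), fun x => by
          have h1 := U.inv_mem (hβ.2.2 (β⁻¹ x))
          rwa [MulAut.apply_inv_self, ← Subgroup.coe_inv, mul_inv_rev, inv_inv] at h1⟩ }
  refine D.radical hE K (fun β h => h.1) (fun β hβ k hk => ⟨mul_mem (mul_mem hβ hk.1) (inv_mem hβ),
    fun x hx => ?_, fun x => ?_⟩) ?_ g _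
    ⟨cAut_mem hE g, fun x hx => ?_, fun x => ?_⟩ (cAut_apply hE g)
  · rw [MulAut.mul_apply, MulAut.mul_apply, hk.2.1 _ ((key _ (inv_mem hβ) x).2 hx),
      MulAut.apply_inv_self]
  · have h1 := (key β hβ _).2 (hk.2.2 (β⁻¹ x))
    rwa [map_mul, map_inv, MulAut.apply_inv_self] at h1
  · haveI : Finite (MulAut E) := Finite.of_injective (fun a : MulAut E => (a : E → E)) DFunLike.coe_injective
    refine Fusion87.isPGroup_of_coprime_trivial fun α hα => Subtype.ext (MulEquiv.ext fun x => ?_)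
    refine Fusion87.fix_of_step (α : MulAut E) (by rwa [Subgroup.orderOf_coe]) x
      (α.2.2.1 _ (α.2.2.2 x)) ?_
    obtain ⟨k, hk⟩ := (D.pgroup.to_subgroup E) (x⁻¹ * (α : MulAut E) x)
    exact ⟨k, hk⟩
  · refine Subtype.ext ?_
    rw [cAut_apply, (hfix x x.2 hx).eq, mul_inv_cancel_right]
  · rw [Subgroup.coe_mul, Subgroup.coe_inv, cAut_apply]
    exact hmove x x.2

omit hE in
/-- The restriction to a subgroup kept by the automorphisms. -/
noncomputable def resHom {U : Subgroup G} (hUE : U ≤ E) (hU : D.Inv E U) :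
    D.aut E →* MulAut U where
  toFun α :=
    { toFun := fun x => ⟨((α : MulAut E) ⟨x, hUE x.2⟩ : G), hU _ α.2 _ x.2⟩
      invFun := fun x => ⟨((α : MulAut E)⁻¹ ⟨x, hUE x.2⟩ : G), hU _ (inv_mem α.2) _ x.2⟩
      left_inv := fun x => Subtype.ext (show ((α.1⁻¹ (α.1 ⟨x, hUE x.2⟩) : E) : G) = x by
        rw [MulAut.inv_apply_self])
      right_inv := fun x => Subtype.ext (show ((α.1 (α.1⁻¹ ⟨x, hUE x.2⟩) : E) : G) = x by
        rw [MulAut.apply_inv_self])
      map_mul' := fun x y => Subtype.ext (show (((α : MulAut E) (⟨x, hUE x.2⟩ * ⟨y, hUE y.2⟩) : E) : G) =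
          ((α : MulAut E) ⟨x, hUE x.2⟩ : G) * ((α : MulAut E) ⟨y, hUE y.2⟩ : G) by
        rw [map_mul, Subgroup.coe_mul]) }
  map_one' := MulEquiv.ext fun _ => Subtype.ext rfl
  map_mul' _ _ := MulEquiv.ext fun _ => Subtype.ext rfl

omit hE in
theorem resHom_apply {U : Subgroup G} (hUE : U ≤ E) (hU : D.Inv E U) (α : D.aut E) (x : U) :
    (resHom hUE hU α x : G) = ((α : MulAut E) ⟨x, hUE x.2⟩ : G) := rfl

/-- On a central invariant subgroup the `p`-subgroups of the automorphisms have order at most `p`. -/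
theorem mem_zpowers_of_res {U : Subgroup G} (hUE : U ≤ E) (hU : D.Inv E U)
    (hcen : ∀ x ∈ U, ∀ e ∈ E, Commute e x) :
    ∀ a ∈ (resHom hUE hU).range, ∀ b ∈ (resHom hUE hU).range,
      a ^ p = 1 → b ^ p = 1 → Commute a b → a ≠ 1 → b ∈ Subgroup.zpowers a := by
  intro a ha b hb hap hbp hab ha1
  haveI : Finite (MulAut U) := Finite.of_injective (fun f : MulAut U => (f : U → U)) DFunLike.coe_injective
  haveI : Finite (MulAut E) := Finite.of_injective (fun f : MulAut E => (f : E → E)) DFunLike.coe_injective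
  set f := resHom hUE hU
  set T := Subgroup.closure ({a, b} : Set (MulAut U))
  have hab' : IsMulCommutative T := Subgroup.isMulCommutative_closure (by
    rintro x (rfl | rfl) y (rfl | rfl)
    exacts [rfl, hab.eq, hab.symm.eq, rfl])
  have hT : IsPGroup p T := by
    intro x
    refine ⟨1, Subtype.ext ?_⟩
    rw [pow_one, SubgroupClass.coe_pow, OneMemClass.coe_one]
    refine Subgroup.closure_induction (p := fun y _ => y ^ p = 1) ?_ (one_pow p) ?_ ?_ x.2
    · rintro y (rfl | rfl); exacts [hap, hbp]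
    · intro y y' hy hy' h h'
      have hc : Commute (⟨y, hy⟩ : T) ⟨y', hy'⟩ := hab'.is_comm.comm _ _
      rw [(show Commute y y' from congrArg Subtype.val hc).mul_pow, h, h', one_mul]
    · intro y _ h
      rw [inv_pow, h, inv_one]
  have hTr : T ≤ f.range := (Subgroup.closure_le _).2 (by rintro x (rfl | rfl); exacts [ha, hb])
  obtain ⟨Q⟩ : Nonempty (Sylow p (T.comap f)) := inferInstance
  have hTle : T ≤ ((Q : Subgroup (T.comap f)).map (T.comap f).subtype).map f := by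
    have hsurj : Function.Surjective (f.subgroupComap T) := by
      rintro ⟨t, ht⟩
      obtain ⟨q, hq⟩ := hTr ht
      exact ⟨⟨q, show f q ∈ T by rw [hq]; exact ht⟩, Subtype.ext hq⟩
    have hQ : ((Q.mapSurjective hsurj : Sylow p T) : Subgroup T) = ⊤ :=
      ((Q.mapSurjective hsurj).3 (hT.of_equiv Subgroup.topEquiv.symm) le_top).symm
    intro t ht
    obtain ⟨q, hq, hqt⟩ : (⟨t, ht⟩ : T) ∈ (Q : Subgroup (T.comap f)).map (f.subgroupComap T) := by
      rw [← Sylow.coe_mapSurjective hsurj, hQ]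
      exact Subgroup.mem_top _
    exact ⟨(q : D.aut E), ⟨q, hq, rfl⟩, congrArg Subtype.val hqt⟩
  set T0 := ((Q : Subgroup (T.comap f)).map (T.comap f).subtype).map (D.aut E).subtype
  obtain ⟨β, hβ, hβT⟩ := D.sylowConj hE T0 (by rintro _ ⟨q, -, rfl⟩; exact q.2)
    ((Q.2.map _).map _)
  obtain ⟨g0, hg0⟩ : ∃ g0 : G, g0 ∉ E :=
    (SetLike.exists_of_lt (ne_top hE).lt_top).imp fun _ h => h.2
  set t := f ⟨cAut hE g0, cAut_mem hE g0⟩
  have hle : T.map (MulAut.conj (f ⟨β, hβ⟩)).toMonoidHom ≤ Subgroup.zpowers t := by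
    rintro _ ⟨x, hx, rfl⟩
    obtain ⟨q, hq, rfl⟩ := hTle hx
    obtain ⟨g, hg⟩ := hβT q ⟨q, hq, rfl⟩
    obtain ⟨e, he, i, rfl⟩ := exists_decomp hE hg0 g
    refine Subgroup.mem_zpowers_iff.2 ⟨i, ?_⟩
    show t ^ i = f ⟨β, hβ⟩ * f q * (f ⟨β, hβ⟩)⁻¹
    rw [← map_zpow, ← map_inv, ← map_mul, ← map_mul]
    refine MulEquiv.ext fun x => Subtype.ext ?_
    rw [resHom_apply, resHom_apply]
    refine Eq.trans ?_ (hg ⟨x, hUE x.2⟩).symm
    have hzp : (((⟨cAut hE g0, cAut_mem hE g0⟩ : D.aut E) ^ i : D.aut E) : MulAut E) = cAut hE (g0 ^ i) := by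
      rw [SubgroupClass.coe_zpow]
      haveI := D.normal hE
      exact (map_zpow MulAut.conjNormal g0 i).symm
    rw [hzp, cAut_apply]
    have hy : Commute e (g0 ^ i * (x : G) * (g0 ^ i)⁻¹) :=
      hcen _ ((normal_of_inv hE hUE hU).conj_mem x x.2 _) e he
    calc g0 ^ i * (x : G) * (g0 ^ i)⁻¹ = e * (g0 ^ i * (x : G) * (g0 ^ i)⁻¹) * e⁻¹ := by
          rw [hy.eq, mul_inv_cancel_right]
      _ = _ := by group
  have htp : t ^ p = 1 := by
    refine MulEquiv.ext fun x => Subtype.ext ?_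
    rw [← map_pow, resHom_apply]
    have hzp : (((⟨cAut hE g0, cAut_mem hE g0⟩ : D.aut E) ^ p : D.aut E) : MulAut E) = cAut hE (g0 ^ p) := by
      rw [SubgroupClass.coe_pow]
      haveI := D.normal hE
      exact (map_pow MulAut.conjNormal g0 p).symm
    rw [hzp, cAut_apply, (hcen x x.2 _ (pow_mem_E hE g0)).eq, mul_inv_cancel_right, MulAut.one_apply]
  have hTc : Nat.card T ≤ p := by
    rw [← Subgroup.card_map_of_injective (f := (MulAut.conj (f ⟨β, hβ⟩)).toMonoidHom)
      (MulEquiv.injective _)]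
    refine (Subgroup.card_le_of_le hle).trans ?_
    rw [Nat.card_zpowers]
    exact orderOf_le_of_pow_eq_one hp.out.pos htp
  have haT : Subgroup.zpowers a ≤ T := Subgroup.zpowers_le.2 (Subgroup.subset_closure (Set.mem_insert _ _))
  rw [Subgroup.eq_of_le_of_card_ge haT (by rw [Nat.card_zpowers, orderOf_eq_prime hap ha1]; exact hTc)]
  exact Subgroup.subset_closure (Set.mem_insert_of_mem _ rfl)

end NormalSys

end Cfsg.Agent.Lib.RankThreeNormal61
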