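import Mathlib
import Cfsg.Agent.Lib.RankThreeNormal61.Sys
import Cfsg.Agent.Lib.RankThreeEss69.Setup
import Cfsg.Agent.Lib.FusionOrderFive.Tools

/-!
Automorphisms of a distinguished subgroup trivial on the layers of an invariant series.
-/

set_option autoImplicit false
set_option linter.unusedSectionVars false

namespace Cfsg.Agent.Lib.RankThreeNormal61

open Cfsg Cfsg.Agent.Lib Cfsg.Agent.Lib.RankThreeEss69
open scoped commutatorElement

universe u

variable {G : Type u} [Group G] [Finite G] {p : ℕ} [hp : Fact p.Prime] {D : NormalSys p G}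

theorem mem_fr_iff (hG : IsPGroup p G) {E : Subgroup G} (x : E) :
    (x : G) ∈ fr p E ↔ x ∈ frattini E := by
  have h : (fr p (⊤ : Subgroup E)).map E.subtype = fr p E := by
    rw [map_fr, ← MonoidHom.range_eq_map, Subgroup.range_subtype]
  rw [← fr_top_eq_frattini (p := p) (hG.to_subgroup E), ← h]
  exact Subgroup.mem_map_iff_mem E.subtype_injective

namespace NormalSys

theorem fr_inv {E : Subgroup G} : D.Inv E (fr p E) := fun α _ x hx => by
  rw [mem_fr_iff D.pgroup] at hx ⊢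
  exact (Subgroup.characteristic_iff_map_eq.1 frattini_characteristic α).le
    (Subgroup.mem_map_of_mem α.toMonoidHom hx)

theorem inf_inv {E A B : Subgroup G} (hA : D.Inv E A) (hB : D.Inv E B) : D.Inv E (A ⊓ B) :=
  fun α hα x hx => ⟨hA α hα x hx.1, hB α hα x hx.2⟩

theorem sup_inv {E A B : Subgroup G} (hAE : A ≤ E) (hBE : B ≤ E) (hA : D.Inv E A) (hB : D.Inv E B) :
    D.Inv E (A ⊔ B) := by
  intro α hα x hx
  have hle : A ⊔ B ≤ ((A ⊔ B).comap (E.subtype.comp α.toMonoidHom)).map E.subtype := sup_le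
    (fun a ha => ⟨⟨a, hAE ha⟩, show (α ⟨a, hAE ha⟩ : G) ∈ A ⊔ B from
      Subgroup.mem_sup_left (hA α hα _ ha), rfl⟩)
    (fun a ha => ⟨⟨a, hBE ha⟩, show (α ⟨a, hBE ha⟩ : G) ∈ A ⊔ B from
      Subgroup.mem_sup_right (hB α hα _ ha), rfl⟩)
  obtain ⟨y, hy, hyx⟩ := hle hx
  obtain rfl : y = x := Subtype.ext hyx
  exact hy

/-- The automorphisms moving the elements of `X` inside `Y`. -/
def trivOn (D : NormalSys p G) {E X Y : Subgroup G} (hX : D.Inv E X) (hY : D.Inv E Y) :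
    Subgroup (MulAut E) where
  carrier := {α | α ∈ D.aut E ∧ ∀ x : E, (x : G) ∈ X → ((x⁻¹ * α x : E) : G) ∈ Y}
  one_mem' := ⟨one_mem _, fun x _ => by simp⟩
  mul_mem' := fun {α β} hα hβ => ⟨mul_mem hα.1 hβ.1, fun x hx => by
    have h := mul_mem (hβ.2 x hx) (hα.2 (β x) (hX β hβ.1 x hx))
    rw [← Subgroup.coe_mul, mul_assoc, mul_inv_cancel_left] at h
    exact h⟩
  inv_mem' := fun {α} hα => ⟨inv_mem hα.1, fun x hx => by
    have h := inv_mem (hα.2 (α⁻¹ x) (hX _ (inv_mem hα.1) x hx))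
    rwa [MulAut.apply_inv_self, ← Subgroup.coe_inv, mul_inv_rev, inv_inv] at h⟩

theorem mem_trivOn {E X Y : Subgroup G} {hX : D.Inv E X} {hY : D.Inv E Y} {α : MulAut E} :
    α ∈ trivOn D hX hY ↔ α ∈ D.aut E ∧ ∀ x : E, (x : G) ∈ X → ((x⁻¹ * α x : E) : G) ∈ Y := Iff.rfl

theorem trivOn_conj {E X Y : Subgroup G} (hX : D.Inv E X) (hY : D.Inv E Y) {β k : MulAut E}
    (hβ : β ∈ D.aut E) (hk : k ∈ trivOn D hX hY) : β * k * β⁻¹ ∈ trivOn D hX hY :=
  ⟨mul_mem (mul_mem hβ hk.1) (inv_mem hβ), fun x hx => by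
    have h := hY β hβ _ (hk.2 (β⁻¹ x) (hX _ (inv_mem hβ) x hx))
    rwa [map_mul, map_inv, MulAut.apply_inv_self] at h⟩

theorem cAut_trivOn {E X Y : Subgroup G} (hE : D.IsEss E) (hX : D.Inv E X) (hY : D.Inv E Y) {g : G}
    (h : ∀ x ∈ X, x ∈ E → ⁅g, x⁆ ∈ Y) : cAut hE g ∈ trivOn D hX hY := by
  refine ⟨cAut_mem hE g, fun x hx => ?_⟩
  rw [Subgroup.coe_mul, Subgroup.coe_inv, cAut_apply]
  have h1 := inv_mem (h x⁻¹ (inv_mem hx) (inv_mem x.2))
  rwa [show (x : G)⁻¹ * (g * x * g⁻¹) = ⁅g, (x : G)⁻¹⁆⁻¹ by rw [commutatorElement_def]; group]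

/-- The stabiliser of a series with trivial action on the layers is a `p`-group. -/
theorem isPGroup_layers (D : NormalSys p G) {E X U : Subgroup G} (hUE : U ≤ E) {K : Subgroup (MulAut E)}
    (h0 : ∀ α ∈ K, ∀ x : E, ((x⁻¹ * α x : E) : G) ∈ X)
    (h1 : ∀ α ∈ K, ∀ x : E, (x : G) ∈ X → ((x⁻¹ * α x : E) : G) ∈ U)
    (h2 : ∀ α ∈ K, ∀ x : E, (x : G) ∈ U → ((x⁻¹ * α x : E) : G) ∈ fr p E) : IsPGroup p K := by
  have hE := D.pgroup.to_subgroup E
  haveI : Finite (MulAut E) := Finite.of_injective (fun a : MulAut E => (a : E → E)) DFunLike.coe_injective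
  set π := QuotientGroup.mk' (frattini E)
  refine Fusion87.isPGroup_of_coprime_trivial fun α hα => ?_
  set ā := FusionOrderFive.quotHom E (α : MulAut E)
  have hā : (orderOf ā).Coprime p := Nat.Coprime.coprime_dvd_left
    (by rw [← Subgroup.orderOf_coe]; exact orderOf_map_dvd _ _) hα
  have hfix : ∀ x : E, ∀ W : Subgroup G, (∀ y : E, (y : G) ∈ W → ā (π y) = π y) →
      ((x⁻¹ * (α : MulAut E) x : E) : G) ∈ W → ā (π x) = π x := by
    intro x W hW hx
    refine Fusion87.fix_of_step ā hā (π x) ?_ ?_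
    · rw [show (π x)⁻¹ * ā (π x) = π (x⁻¹ * (α : MulAut E) x) from by rw [map_mul, map_inv]; rfl]
      exact hW _ hx
    · obtain ⟨k, hk⟩ := hE.to_quotient (frattini E) ((π x)⁻¹ * ā (π x))
      exact ⟨k, hk⟩
  have hU : ∀ x : E, (x : G) ∈ U → ā (π x) = π x := fun x hx => by
    have := (mem_fr_iff D.pgroup _).1 (h2 _ α.2 x hx)
    exact (QuotientGroup.eq.2 this).symm
  have hX : ∀ x : E, (x : G) ∈ X → ā (π x) = π x := fun x hx => hfix x U hU (h1 _ α.2 x hx)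
  have hall : ∀ x : E, x⁻¹ * (α : MulAut E) x ∈ frattini E := fun x =>
    QuotientGroup.eq.1 (hfix x X hX (h0 _ α.2 x)).symm
  have hp' := RankTwoAut.isPGroup_of_trivial_on_frattini hE (Subgroup.zpowers (α : MulAut E)) (by
    intro β hβ x
    have hβ1 : FusionOrderFive.quotHom E β = 1 := by
      obtain ⟨i, rfl⟩ := Subgroup.mem_zpowers_iff.1 hβ
      rw [map_zpow, FusionOrderFive.quotHom_eq_one.2 hall, one_zpow]
    exact FusionOrderFive.quotHom_eq_one.1 hβ1 x)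
  obtain ⟨k, hk⟩ := hp' ⟨_, Subgroup.mem_zpowers _⟩
  have hd : orderOf (α : MulAut E) ∣ p ^ k := orderOf_dvd_of_pow_eq_one (congrArg Subtype.val hk)
  rw [Subgroup.orderOf_coe] at hd
  exact orderOf_eq_one_iff.1 ((hα.pow_right k).eq_one_of_dvd hd)

/-- An automorphism of order prime to `p` trivial on the layers is trivial. -/
theorem eq_one_of_layers {E X U : Subgroup G} (hUE : U ≤ E) {α : MulAut E}
    (hα : (orderOf α).Coprime p) (hX : D.Inv E X) (hU : D.Inv E U) (hαA : α ∈ D.aut E)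
    (h0 : ∀ x : E, ((x⁻¹ * α x : E) : G) ∈ X)
    (h1 : ∀ x : E, (x : G) ∈ X → ((x⁻¹ * α x : E) : G) ∈ U)
    (h2 : ∀ x : E, (x : G) ∈ U → ((x⁻¹ * α x : E) : G) ∈ fr p E) : α = 1 := by
  let hE : D.Inv E E := fun a _ x _ => (a x).2
  set K := trivOn D hE hX ⊓ trivOn D hX hU ⊓ trivOn D hU fr_inv
  have hK : IsPGroup p K := isPGroup_layers D hUE (fun a ha x => ha.1.1.2 x x.2)
    (fun a ha => ha.1.2.2) fun a ha => ha.2.2
  have hmem : α ∈ K := ⟨⟨⟨hαA, fun x _ => h0 x⟩, hαA, h1⟩, hαA, h2⟩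
  obtain ⟨k, hk⟩ := hK ⟨α, hmem⟩
  exact orderOf_eq_one_iff.1 ((hα.pow_right k).eq_one_of_dvd
    (orderOf_dvd_of_pow_eq_one (congrArg Subtype.val hk)))

variable {E : Subgroup G} (hE : D.IsEss E)
include hE

theorem fr_le_E : fr p E ≤ E := fr_le

theorem fr_normal : (fr p E).Normal := normal_of_inv hE fr_le fr_inv

/-- Conjugation by an element trivial on the layers of an invariant series is inner. -/
theorem mem_of_layers {X U : Subgroup G} (hUE : U ≤ E) (hX : D.Inv E X) (hU : D.Inv E U) {g : G}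
    (h0 : ∀ x ∈ E, ⁅g, x⁆ ∈ X) (h1 : ∀ x ∈ X, x ∈ E → ⁅g, x⁆ ∈ U)
    (h2 : ∀ x ∈ U, ⁅g, x⁆ ∈ fr p E) : g ∈ E := by
  let hI : D.Inv E E := fun a _ x _ => (a x).2
  refine D.radical hE (trivOn D hI hX ⊓ trivOn D hX hU ⊓ trivOn D hU fr_inv) (fun a ha => ha.2.1)
    (fun β hβ k hk => ⟨⟨trivOn_conj _ _ hβ hk.1.1, trivOn_conj _ _ hβ hk.1.2⟩, trivOn_conj _ _ hβ hk.2⟩)
    (isPGroup_layers D hUE (fun a ha x => ha.1.1.2 x x.2) (fun a ha => ha.1.2.2) fun a ha => ha.2.2)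
    g (cAut hE g) ⟨⟨cAut_trivOn hE _ _ fun x hx _ => h0 x hx, cAut_trivOn hE _ _ h1⟩,
      cAut_trivOn hE _ _ fun x hx _ => h2 x hx⟩ (cAut_apply hE g)

/-- An element outside `E` moves the elements of `E` modulo `fr E`. -/
theorem exists_move_fr {g : G} (hg : g ∉ E) : ∃ x ∈ E, ⁅g, x⁆ ∉ fr p E := by
  by_contra hcon
  push Not at hcon
  exact hg (mem_of_layers hE fr_le fr_inv fr_inv hcon (fun x _ hxE => hcon x hxE)
    fun x hx => hcon x (fr_le hx))

/-- The index of the Frattini part of `E` is at most `p ^ 3`. -/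
theorem card_le_fr : Nat.card E ≤ Nat.card (fr p E) * p ^ 3 :=
  card_le_of_rank D.pgroup D.rank ⟨fr_le, fun _ ha _ hb => comm_mem_fr ha hb, fun _ ha => pow_mem_fr ha⟩

end NormalSys

end Cfsg.Agent.Lib.RankThreeNormal61
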