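import Mathlib
import Cfsg.Agent.Lib.RankThreeNormal61.Layers
import Cfsg.Agent.Lib.FusionOrderFive.Transvection

/-!
An involution of the whole group inverting the plane spanned by the centres of two transvections
induced on an invariant section of a distinguished subgroup.
-/

set_option autoImplicit false
set_option linter.unusedSectionVars false

namespace Cfsg.Agent.Lib.RankThreeNormal61

open Cfsg Cfsg.Agent.Lib Cfsg.Agent.Lib.RankThreeEss69 Cfsg.Agent.Lib.FusionOrderFive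
open scoped commutatorElement

universe u

variable {G : Type u} [Group G] [Finite G] {p : ℕ} [hp : Fact p.Prime]

/-- A coset of a `p`-group kept by an involution has a fixed element. -/
theorem exists_fixed (hG : IsPGroup p G) (hp2 : p ≠ 2) {τ : MulAut G} (hτ : ∀ a, τ (τ a) = a)
    {K : Subgroup G} {x : G} (hx : x⁻¹ * τ x ∈ K) : ∃ y : G, τ y = y ∧ x⁻¹ * y ∈ K := by
  set d := x⁻¹ * τ x with hd
  obtain ⟨k, hk⟩ := hG d
  obtain ⟨c, hc⟩ : Odd (p ^ k) := (hp.out.odd_of_ne_two hp2).pow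
  have hd' : τ d = d⁻¹ := by rw [hd, map_mul, map_inv, hτ, mul_inv_rev, inv_inv]
  refine ⟨x * d ^ (c + 1), ?_, by rw [inv_mul_cancel_left]; exact K.pow_mem hx _⟩
  rw [map_mul, map_pow, hd', show τ x = x * d by rw [hd, mul_inv_cancel_left], mul_assoc]
  congr 1
  rw [inv_pow, mul_inv_eq_iff_eq_mul, ← pow_add, show c + 1 + (c + 1) = p ^ k + 1 by omega, pow_add,
    hk, one_mul, pow_one]

namespace NormalSys

variable (D : NormalSys p G)

/-- The data of a torus on the section `X / U` of `E`. -/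
structure Torus (E X U N : Subgroup G) (τ : MulAut G) (g z z' : G) (φ : MulAut E) : Prop where
  glob : τ ∈ D.glob
  sq : ∀ a, τ (τ a) = a
  keep : ∀ x ∈ E, τ x ∈ E
  g_mod : ∀ a : G, a⁻¹ * τ a ∈ E
  e_mod : ∀ x ∈ E, x⁻¹ * τ x ∈ X
  u_mod : ∀ x ∈ U, x⁻¹ * τ x ∈ fr p E
  fixN : ∀ x ∈ N, τ x = x
  hg : g ∉ E
  gfix : τ g = g
  zX : z ∈ X
  z'X : z' ∈ X
  z_eq : ∃ x0 ∈ X, z = ⁅g, x0⁆
  gz : ⁅g, z⁆ ∈ U
  gz' : ⁅g, z'⁆ ∉ U
  zinv : z * τ z ∈ U
  z'inv : z' * τ z' ∈ U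
  φ_mem : φ ∈ D.aut E
  φ_e : ∀ x : E, (x : G)⁻¹ * φ x ∈ X
  φ_N : ∀ x : E, (x : G) ∈ N → φ x = x
  φ_move : ∀ x : E, (x : G) ∈ X → ∃ k : ℤ, ((x : G) * z' ^ k)⁻¹ * φ x ∈ U
  φ_z : ∃ b : ℤ, (b : ZMod p) ≠ 0 ∧ ∀ x : E, (x : G) = z → (z * z' ^ b)⁻¹ * φ x ∈ U
  dec : ∀ x ∈ X, ∃ (i j : ℤ) (l : G), l ∈ X ∧ ⁅g, l⁆ ∈ U ∧ l⁻¹ * τ l ∈ U ∧
    (∀ y : E, (y : G) = l → l⁻¹ * φ y ∈ U) ∧ x⁻¹ * (z ^ i * z' ^ j * l) ∈ U
  move : ∀ x ∈ X, ∃ i : ℤ, (z ^ i)⁻¹ * ⁅g, x⁆ ∈ U

theorem exists_torus_section {E : Subgroup G} (hE : D.IsEss E) {X U N : Subgroup G} (hXE : X ≤ E)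
    (hUX : U ≤ X) (hfU : fr p E ≤ U) (hX : D.Inv E X) (hU : D.Inv E U) (hN : D.Inv E N)
    (hNc : N ≤ Subgroup.center G) (hEX : ∀ (g : G), ∀ x ∈ E, ⁅g, x⁆ ∈ X)
    (hUf : ∀ (g : G), ∀ x ∈ U, ⁅g, x⁆ ∈ fr p E) (hquad : ∀ (g : G), ∀ x ∈ X, ⁅g, ⁅g, x⁆⁆ ∈ U) :
    ∃ (τ : MulAut G) (g z z' : G) (φ : MulAut E), D.Torus E X U N τ g z z' φ := by
  classical
  have hUE : U ≤ E := hUX.trans hXE
  haveI := D.normal hE
  haveI hUn : U.Normal := normal_of_inv hE hUE hU
  haveI : Finite (MulAut E) := Finite.of_injective (fun a : MulAut E => (a : E → E)) DFunLike.coe_injective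
  haveI : Finite (MulAut G) := Finite.of_injective (fun a : MulAut G => (a : G → G)) DFunLike.coe_injective
  -- the section
  set U' := U.subgroupOf X with hU'
  haveI : U'.Normal := Subgroup.normal_subgroupOf
  let V := X ⧸ U'
  set q := QuotientGroup.mk' U'
  have hqe : ∀ a b : X, q a = q b ↔ (a : G)⁻¹ * b ∈ U := fun a b => by
    rw [show q a = q b ↔ a⁻¹ * b ∈ U' from QuotientGroup.eq, Subgroup.mem_subgroupOf, Subgroup.coe_mul,
      Subgroup.coe_inv]
  have hq1 : ∀ a : X, q a = 1 ↔ (a : G) ∈ U := fun a => by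
    rw [← map_one q, eq_comm, hqe, Subgroup.coe_one, inv_one, one_mul]
  have hab : ∀ a b : V, a * b = b * a := fun a b => by
    induction a using QuotientGroup.induction_on with
    | _ a =>
    induction b using QuotientGroup.induction_on with
    | _ b =>
    refine commutatorElement_eq_one_iff_mul_comm.1 ?_
    show ⁅q a, q b⁆ = 1
    rw [← map_commutatorElement, hq1]
    exact hfU (comm_mem_fr (hXE a.2) (hXE b.2))
  letI : CommGroup V := { (inferInstance : Group V) with mul_comm := hab }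
  have hexp : ∀ v : V, v ^ p = 1 := fun v => by
    induction v using QuotientGroup.induction_on with
    | _ a => show q a ^ p = 1; rw [← map_pow, hq1, SubmonoidClass.coe_pow]; exact hfU (pow_mem_fr (hXE a.2))
  haveI : Finite V := Quotient.finite _
  haveI : Finite (MulAut V) := Finite.of_injective (fun a : MulAut V => (a : V → V)) DFunLike.coe_injective
  have hmapU : ∀ a : D.aut E, U'.map (resHom (D := D) hXE hX a).toMonoidHom = U' := fun a => by
    refine Subgroup.eq_of_le_of_card_ge ?_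
      (Subgroup.card_map_of_injective (f := (resHom (D := D) hXE hX a).toMonoidHom)
        (MulEquiv.injective _)).ge
    rintro _ ⟨x, hx, rfl⟩
    rw [Subgroup.mem_subgroupOf]
    show (resHom (D := D) hXE hX a x : G) ∈ U
    rw [resHom_apply]
    exact hU _ a.2 _ hx
  let res : D.aut E →* MulAut V :=
    { toFun := fun a => QuotientGroup.congr U' U' (resHom (D := D) hXE hX a) (hmapU a)
      map_one' := MulEquiv.ext fun v => QuotientGroup.induction_on v fun x => by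
        show q (resHom (D := D) hXE hX 1 x) = q x
        rw [map_one, MulAut.one_apply]
      map_mul' := fun a b => MulEquiv.ext fun v => QuotientGroup.induction_on v fun x => by
        show q (resHom (D := D) hXE hX (a * b) x) =
          q (resHom (D := D) hXE hX a (resHom (D := D) hXE hX b x))
        rw [map_mul, MulAut.mul_apply] }
  have hres : ∀ (a : D.aut E) (x : X), res a (q x) = q (resHom (D := D) hXE hX a x) := fun _ _ => rfl
  let cA : G → D.aut E := fun g => ⟨cAut hE g, cAut_mem hE g⟩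
  have hcA : ∀ a b : G, cA (a * b) = cA a * cA b := fun a b => Subtype.ext (MulEquiv.ext fun x =>
    Subtype.ext (by rw [Subgroup.coe_mul, MulAut.mul_apply, cAut_apply, cAut_apply, cAut_apply]; group))
  let cH : G →* D.aut E := MonoidHom.mk' cA hcA
  have hcv : ∀ (g : G) (x : X), ∃ y : X, (y : G) = g * x * g⁻¹ ∧ res (cH g) (q x) = q y := fun g x =>
    ⟨resHom (D := D) hXE hX (cH g) x, by rw [resHom_apply]; exact cAut_apply hE g _, hres _ _⟩
  have hEtriv : ∀ e ∈ E, res (cH e) = 1 := fun e he => MulEquiv.ext fun v =>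
    QuotientGroup.induction_on v fun x => by
      obtain ⟨y, hy, hy'⟩ := hcv e x
      show res (cH e) (q x) = q x
      rw [hy', hqe, hy, show (e * x * e⁻¹)⁻¹ * (x : G) = e * ⁅(x : G)⁻¹, e⁻¹⁆ * e⁻¹ by
        rw [commutatorElement_def]; group]
      exact hUn.conj_mem _ (hfU (comm_mem_fr (inv_mem (hXE x.2)) (inv_mem he))) e
  -- the group acting
  let hI : D.Inv E E := fun a _ x _ => (a x).2
  let hB : D.Inv E ⊥ := fun a _ x hx => by
    rw [Subgroup.mem_bot, OneMemClass.coe_eq_one] at hx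
    rw [hx, map_one, OneMemClass.coe_one]
    exact one_mem _
  set L0 := trivOn D hI hX ⊓ trivOn D hU fr_inv ⊓ trivOn D hN hB with hL0
  have hL0A : L0 ≤ D.aut E := fun a ha => ha.2.1
  have hcL : ∀ g, (cH g : MulAut E) ∈ L0 := fun g => ⟨⟨cAut_trivOn hE _ _ fun x _ hx => hEX g x hx,
    cAut_trivOn hE _ _ fun x hx _ => hUf g x hx⟩, cAut_trivOn hE _ _ fun x hx _ =>
      Subgroup.mem_bot.2 (commutatorElement_eq_one_iff_commute.2 (Subgroup.mem_center_iff.1 (hNc hx) g))⟩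
  have hconjL : ∀ β ∈ D.aut E, ∀ k ∈ L0, β * k * β⁻¹ ∈ L0 := fun β hβ k hk =>
    ⟨⟨trivOn_conj _ _ hβ hk.1.1, trivOn_conj _ _ hβ hk.1.2⟩, trivOn_conj _ _ hβ hk.2⟩
  obtain ⟨g0, -, hg0⟩ := SetLike.exists_of_lt (ne_top hE).lt_top
  set t := res (cH g0) with ht
  have htpow : ∀ (e : G) (i : ℤ), e ∈ E → res (cH (e * g0 ^ i)) = t ^ i := fun e i he => by
    rw [map_mul, map_mul, hEtriv e he, one_mul, map_zpow, map_zpow]
  have htX : ∃ x ∈ X, ⁅g0, x⁆ ∉ U := by
    by_contra hcon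
    push Not at hcon
    exact hg0 (mem_of_layers hE hUE hX hU (hEX g0) (fun x hx _ => hcon x hx) (hUf g0))
  obtain ⟨x0, hx0, hx0U⟩ := htX
  have ht1 : t ≠ 1 := fun h => hx0U (by
    obtain ⟨y, hy, hy'⟩ := hcv g0 ⟨x0, hx0⟩
    rw [← ht, h, MulAut.one_apply, hqe, hy] at hy'
    rw [show ⁅g0, x0⁆ = x0 * (x0⁻¹ * (g0 * x0 * g0⁻¹)) * x0⁻¹ by rw [commutatorElement_def]; group]
    exact hUn.conj_mem _ hy' x0)
  have hout : ∀ a : G, res (cH a) = 1 → a ∈ E := by
    intro a ha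
    by_contra haE
    obtain ⟨e, he, i, hei⟩ := exists_decomp hE haE g0
    refine ht1 ?_
    rw [ht, hei, map_mul, map_mul, hEtriv e he, one_mul, map_zpow, map_zpow, ha, one_zpow]
  have htp : t ^ p = 1 := by rw [ht, ← map_pow, ← map_pow, hEtriv _ (pow_mem_E hE g0)]
  -- every `p`-subgroup acts through a cyclic group of order `p`
  have hsmall : ∀ T : Subgroup (MulAut E), ∀ hT : T ≤ D.aut E, IsPGroup p T →
      Nat.card ((T.subgroupOf (D.aut E)).map res) ≤ p := by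
    intro T hT hTp
    obtain ⟨β, hβ, hβT⟩ := D.sylowConj hE T hT hTp
    set b := res ⟨β, hβ⟩
    rw [← Subgroup.card_map_of_injective (f := (MulAut.conj b).toMonoidHom) (MulEquiv.injective _)]
    have hle : ((T.subgroupOf (D.aut E)).map res).map (MulAut.conj b).toMonoidHom ≤ Subgroup.zpowers t := by
      rintro _ ⟨_, ⟨s, hs, rfl⟩, rfl⟩
      obtain ⟨a, ha⟩ := hβT _ hs
      obtain ⟨e, he, i, rfl⟩ := exists_decomp hE hg0 a
      refine Subgroup.mem_zpowers_iff.2 ⟨i, ?_⟩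
      rw [← htpow e i he]
      show _ = res ⟨β, hβ⟩ * res s * (res ⟨β, hβ⟩)⁻¹
      rw [← map_inv, ← map_mul, ← map_mul]
      refine congrArg res (Subtype.ext (MulEquiv.ext fun x => Subtype.ext ?_))
      exact (cAut_apply hE _ x).trans (ha x).symm
    refine (Subgroup.card_le_of_le hle).trans ?_
    rw [Nat.card_zpowers]
    exact orderOf_le_of_pow_eq_one hp.out.pos htp
  set H := (L0.subgroupOf (D.aut E)).map res with hH
  have htH : t ∈ H := Subgroup.mem_map_of_mem res (hcL g0)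
  have hA : ∀ a ∈ H, ∀ b ∈ H, a ^ p = 1 → b ^ p = 1 → Commute a b → a ≠ 1 → b ∈ Subgroup.zpowers a := by
    intro a ha b hb hap hbp hcab ha1
    set T := Subgroup.closure ({a, b} : Set (MulAut V))
    have hT : IsPGroup p T := fun x => by
      refine ⟨1, Subtype.ext ?_⟩
      rw [pow_one, SubgroupClass.coe_pow, OneMemClass.coe_one]
      have hab' : ∀ y ∈ T, y ^ p = 1 ∧ Commute a y ∧ Commute b y := fun y hy => by
        induction hy using Subgroup.closure_induction with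
        | mem y hy => rcases hy with rfl | rfl; exacts [⟨hap, Commute.refl _, hcab.symm⟩, ⟨hbp, hcab, Commute.refl _⟩]
        | one => exact ⟨one_pow p, Commute.one_right _, Commute.one_right _⟩
        | mul y y' hy hy' h h' =>
          refine ⟨?_, h.2.1.mul_right h'.2.1, h.2.2.mul_right h'.2.2⟩
          have hc : Commute y y' := by
            refine (Subgroup.mem_centralizer_iff.1 ((Subgroup.closure_le (Subgroup.centralizer {y})).2 ?_ hy') y rfl : _)
            rintro w (rfl | rfl)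
            exacts [Subgroup.mem_centralizer_iff.2 fun v hv => by rw [Set.mem_singleton_iff.1 hv]; exact h.2.1.symm,
              Subgroup.mem_centralizer_iff.2 fun v hv => by rw [Set.mem_singleton_iff.1 hv]; exact h.2.2.symm]
          rw [hc.mul_pow, h.1, h'.1, one_mul]
        | inv y _ h => exact ⟨by rw [inv_pow, h.1, inv_one], h.2.1.inv_right, h.2.2.inv_right⟩
      exact (hab' x x.2).1
    have hTH : T ≤ res.range := (Subgroup.closure_le _).2 (by
      rintro x (rfl | rfl) <;> [obtain ⟨y, -, rfl⟩ := ha; obtain ⟨y, -, rfl⟩ := hb] <;> exact ⟨y, rfl⟩)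
    have hsurj : Function.Surjective (res.subgroupComap T) := by
      rintro ⟨s, hs⟩
      obtain ⟨y, hy⟩ := hTH hs
      exact ⟨⟨y, show res y ∈ T by rw [hy]; exact hs⟩, Subtype.ext hy⟩
    obtain ⟨Q⟩ : Nonempty (Sylow p (T.comap res)) := inferInstance
    have hQ : ((Q.mapSurjective hsurj : Sylow p T) : Subgroup T) = ⊤ :=
      ((Q.mapSurjective hsurj).3 (hT.of_equiv Subgroup.topEquiv.symm) le_top).symm
    set T0 := ((Q : Subgroup (T.comap res)).map (T.comap res).subtype).map (D.aut E).subtype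
    have hT0 : T0 ≤ D.aut E := by rintro _ ⟨s, -, rfl⟩; exact s.2
    have hTle : T ≤ (T0.subgroupOf (D.aut E)).map res := by
      intro s hs
      obtain ⟨y, hy, hys⟩ : (⟨s, hs⟩ : T) ∈ (Q : Subgroup (T.comap res)).map (res.subgroupComap T) := by
        rw [← Sylow.coe_mapSurjective hsurj, hQ]
        exact Subgroup.mem_top _
      exact ⟨(y : D.aut E), ⟨(y : D.aut E), ⟨y, hy, rfl⟩, rfl⟩, congrArg Subtype.val hys⟩
    have hTc := (Subgroup.card_le_of_le hTle).trans (hsmall T0 hT0 ((Q.2.map _).map _))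
    have haT : Subgroup.zpowers a ≤ T :=
      Subgroup.zpowers_le.2 (Subgroup.subset_closure (Set.mem_insert _ _))
    rw [Subgroup.eq_of_le_of_card_ge haT (by rw [Nat.card_zpowers, orderOf_eq_prime hap ha1]; exact hTc)]
    exact Subgroup.subset_closure (Set.mem_insert_of_mem _ rfl)
  -- the transvection
  set zX : X := ⟨⁅g0, x0⁆, hEX g0 x0 (hXE hx0)⟩
  set zV := q zX with hzV
  have htq : ∀ x : X, t (q x) = q x * q ⟨⁅g0, (x : G)⁆, hEX g0 x (hXE x.2)⟩ := fun x => by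
    obtain ⟨y, hy, hy'⟩ := hcv g0 x
    rw [ht, hy', hab, ← map_mul, hqe, hy, Subgroup.coe_mul, show (g0 * (x : G) * g0⁻¹)⁻¹ *
      (⁅g0, (x : G)⁆ * x) = 1 by rw [commutatorElement_def]; group]
    exact one_mem _
  have htz : t zV = zV := by
    rw [hzV, htq, mul_eq_left, hq1]
    exact hquad g0 x0 hx0
  let dh : V →* V := MonoidHom.mk' (fun v => t v * v⁻¹) fun a b => by
    rw [map_mul, mul_inv, mul_mul_mul_comm]
  have hdh : ∀ x : X, dh (q x) = q ⟨⁅g0, (x : G)⁆, hEX g0 x (hXE x.2)⟩ := fun x => by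
    show t (q x) * (q x)⁻¹ = _
    rw [htq, mul_inv_eq_iff_eq_mul, mul_comm]
  have hz1 : zV ≠ 1 := fun h => hx0U ((hq1 _).1 h)
  have hmove : IsMove t zV := by
    have hrk : dh.range ≤ dh.ker := by
      rintro _ ⟨v, rfl⟩
      induction v using QuotientGroup.induction_on with
      | _ x => rw [MonoidHom.mem_ker]; show dh (dh (q x)) = 1; rw [hdh, hdh, hq1]; exact hquad g0 x x.2
    have hV : IsPGroup p V := fun v => ⟨1, by rw [pow_one]; exact hexp v⟩
    have hVc : Nat.card V ≤ p ^ 3 := by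
      have h := card_le_of_rank D.pgroup D.rank (K := U) (H := X) ⟨hUX,
        fun a ha b hb => hfU (comm_mem_fr (hXE ha) (hXE hb)), fun a ha => hfU (pow_mem_fr (hXE ha))⟩
      have h2 : Nat.card X = Nat.card V * Nat.card U := by
        rw [Subgroup.card_eq_card_quotient_mul_card_subgroup U',
          Nat.card_congr (Subgroup.subgroupOfEquivOfLe hUX).toEquiv]
      rw [h2, mul_comm] at h
      exact Nat.le_of_mul_le_mul_left h Nat.card_pos
    obtain ⟨i, hi⟩ := IsPGroup.iff_card.1 (hV.to_subgroup dh.range)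
    obtain ⟨j, hj⟩ := IsPGroup.iff_card.1 (hV.to_subgroup dh.ker)
    have hcard := dh.ker.card_mul_index
    rw [Subgroup.index_ker, hi, hj] at hcard
    rw [← hcard, ← pow_add, Nat.pow_le_pow_iff_right hp.out.one_lt] at hVc
    have hij : i ≤ j := (Nat.pow_le_pow_iff_right hp.out.one_lt).1 (by
      rw [← hi, ← hj]; exact Subgroup.card_le_of_le hrk)
    have hzr : zV ∈ dh.range := ⟨q ⟨x0, hx0⟩, hdh _⟩
    have heq : Subgroup.zpowers zV = dh.range := Subgroup.eq_of_le_of_card_ge (Subgroup.zpowers_le.2 hzr)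
      (by rw [hi, Nat.card_zpowers, orderOf_eq_prime (hexp zV) hz1]
          exact (Nat.pow_le_pow_right hp.out.pos (show i ≤ 1 by omega)).trans (pow_one p).le)
    intro v
    obtain ⟨k, hk⟩ := Subgroup.mem_zpowers_iff.1 (heq.ge ⟨v, rfl⟩ : dh v ∈ Subgroup.zpowers zV)
    refine ⟨k, ?_⟩
    rw [hk]
    show t v = v * (t v * v⁻¹)
    rw [mul_comm, inv_mul_cancel_right]
  -- the centre is moved
  obtain ⟨α, hαz⟩ : ∃ α : D.aut E, res α zV ∉ Subgroup.zpowers zV := by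
    by_contra hcon
    push Not at hcon
    set Y := ((Subgroup.zpowers zV).comap q).map X.subtype
    have hYX : Y ≤ X := Subgroup.map_subtype_le _
    have hmemY : ∀ x : X, (x : G) ∈ Y ↔ q x ∈ Subgroup.zpowers zV := fun x =>
      Subgroup.mem_map_iff_mem X.subtype_injective
    have hY : D.Inv E Y := fun a ha y hy => by
      obtain ⟨x, hx, hxy⟩ := hy
      obtain ⟨k, hk⟩ := Subgroup.mem_zpowers_iff.1 hx
      have h1 : q (resHom (D := D) hXE hX ⟨a, ha⟩ x) ∈ Subgroup.zpowers zV := by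
        rw [← hres, ← hk, map_zpow]
        exact Subgroup.zpow_mem _ (hcon ⟨a, ha⟩) k
      have h2 := (hmemY _).2 h1
      rw [resHom_apply] at h2
      rwa [show y = (⟨(x : G), hXE x.2⟩ : E) from Subtype.ext hxy.symm]
    set M := trivOn D hI hX ⊓ trivOn D hX hY ⊓ trivOn D hY hU ⊓ trivOn D hU fr_inv
    have hM : IsPGroup p M := by
      have hK : IsPGroup p (trivOn D hI hX ⊓ trivOn D hX hU ⊓ trivOn D hU fr_inv : Subgroup (MulAut E)) :=
        isPGroup_layers D hUE (fun a ha x => ha.1.1.2 x x.2) (fun a ha => ha.1.2.2) fun a ha => ha.2.2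
      intro a
      -- a power lies in the stabiliser
      have hav : ∀ v : V, ∃ w ∈ Subgroup.zpowers zV, res ⟨a.1, a.2.2.1⟩ v = v * w := fun v => by
        induction v using QuotientGroup.induction_on with
        | _ x =>
        refine ⟨(q x)⁻¹ * res ⟨a.1, a.2.2.1⟩ (q x), ?_, (mul_inv_cancel_left _ _).symm⟩
        rw [hres, ← map_inv, ← map_mul, ← hmemY, Subgroup.coe_mul, Subgroup.coe_inv, resHom_apply]
        exact a.2.1.1.2.2 ⟨x, hXE x.2⟩ x.2
      have haz : res ⟨a.1, a.2.2.1⟩ zV = zV := by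
        rw [hzV, hres, eq_comm, hqe, resHom_apply]
        exact a.2.1.2.2 ⟨_, hXE zX.2⟩ ((hmemY zX).2 (Subgroup.mem_zpowers _))
      have hap : res ⟨a.1, a.2.2.1⟩ ^ p = 1 := move_pow_prime hexp (z := zV) (fun v => by
        obtain ⟨w, hw, hwv⟩ := hav v
        obtain ⟨k, rfl⟩ := Subgroup.mem_zpowers_iff.1 hw
        exact ⟨k, hwv⟩) haz
      have hstab : ∀ x : E, (x : G) ∈ X → ((x⁻¹ * ((a : MulAut E) ^ p) x : E) : G) ∈ U := by
        intro x hx
        have h1 : res ⟨(a : MulAut E) ^ p, pow_mem a.2.2.1 p⟩ = 1 := by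
          rw [show (⟨(a : MulAut E) ^ p, pow_mem a.2.2.1 p⟩ : D.aut E) = ⟨a.1, a.2.2.1⟩ ^ p from rfl,
            map_pow, hap]
        have h2 := (hres ⟨(a : MulAut E) ^ p, pow_mem a.2.2.1 p⟩ ⟨x, hx⟩).symm
        rw [h1, MulAut.one_apply, eq_comm, hqe, resHom_apply] at h2
        exact h2
      obtain ⟨k, hk⟩ := hK ⟨(a : MulAut E) ^ p, ⟨⟨(trivOn D hI hX).pow_mem a.2.1.1.1 p,
        pow_mem a.2.2.1 p, hstab⟩, (trivOn D hU fr_inv).pow_mem a.2.2 p⟩⟩
      refine ⟨k + 1, Subtype.ext ?_⟩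
      rw [SubgroupClass.coe_pow, pow_succ', pow_mul]
      exact congrArg Subtype.val hk
    refine hg0 (D.radical hE M (fun a ha => ha.2.1) (fun β hβ k hk =>
      ⟨⟨⟨trivOn_conj _ _ hβ hk.1.1.1, trivOn_conj _ _ hβ hk.1.1.2⟩, trivOn_conj _ _ hβ hk.1.2⟩,
        trivOn_conj _ _ hβ hk.2⟩) hM g0 (cAut hE g0) ?_ (cAut_apply hE g0))
    refine ⟨⟨⟨cAut_trivOn hE _ _ fun x _ hx => hEX g0 x hx, cAut_trivOn hE _ _ fun x hx _ => ?_⟩,
      cAut_trivOn hE _ _ fun y hy _ => ?_⟩, cAut_trivOn hE _ _ fun x hx _ => hUf g0 x hx⟩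
    · refine (hmemY ⟨_, hEX g0 x (hXE hx)⟩).2 ?_
      obtain ⟨k, hk⟩ := hmove (q ⟨x, hx⟩)
      rw [htq, mul_right_inj] at hk
      exact Subgroup.mem_zpowers_iff.2 ⟨k, hk.symm⟩
    · obtain ⟨k, hk⟩ := Subgroup.mem_zpowers_iff.1 ((hmemY ⟨y, hYX hy⟩).1 hy)
      refine (hq1 ⟨_, hEX g0 y (hXE (hYX hy))⟩).1 (mul_eq_left.1 ((htq ⟨y, hYX hy⟩).symm.trans ?_))
      rw [← hk, map_zpow, htz]
  set s := res α
  set t' := s * t * s⁻¹ with ht'
  have ht'eq : t' = res (α * cH g0 * α⁻¹) := by rw [map_mul, map_mul, map_inv]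
  have ht'H : t' ∈ H := by
    rw [ht'eq]
    exact Subgroup.mem_map_of_mem res (hconjL _ α.2 _ (hcL g0))
  have ht'1 : t' ≠ 1 := fun e => ht1 (conj_eq_one_iff.1 e)
  have hzs : zV ∉ Subgroup.zpowers (s zV) := fun hc => by
    obtain ⟨k, hk⟩ := Subgroup.mem_zpowers_iff.1 hc
    refine hαz (mem_zpowers_of_zpow hexp (i := k) (fun h0 => hz1 ?_) (by rw [hk]; exact Subgroup.mem_zpowers _))
    rw [← hk, FusionOrderFive.zpow_congr hexp (s zV) (n := 0) (by rw [h0, Int.cast_zero]), zpow_zero]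
  have h1 := not_fix_of_conj hexp hA htH ht'H hmove htz (isMove_conj s hmove) (conj_fix s htz) ht1 ht'1 hαz
  have h2 := not_fix_of_conj hexp hA ht'H htH (isMove_conj s hmove) (conj_fix s htz) hmove htz ht'1 ht1 hzs
  obtain ⟨b, hb, hb1, hb2, hb3, hb4, hdec⟩ := FusionOrderFive.exists_torus hexp hmove htz
    (isMove_conj s hmove) (conj_fix s htz) h1 h2 (n := -1) (m := -1) (by push_cast; ring)
  have hbH : b ∈ H := (Subgroup.closure_le H).2 (by rintro x (rfl | rfl); exacts [htH, ht'H]) hb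
  obtain ⟨β, hβL, hβb⟩ := hbH
  replace hβL : (β : MulAut E) ∈ L0 := hβL
  have hbb : b * b = 1 := MulEquiv.ext fun v => by
    obtain ⟨i, j, l, hl, hl', rfl⟩ := hdec v
    simp [map_mul, map_zpow, hb1, hb2, hb3 l hl hl']
  have hbt : b * t = t * b := by
    rw [show ((-1 : ℤ) * -1) = 1 by norm_num, zpow_one] at hb4; exact hb4
  -- extension to the whole group
  set M := L0 ⊓ ((Subgroup.zpowers t).comap res).map (D.aut E).subtype with hM
  have hMp : IsPGroup p M := by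
    have hK : IsPGroup p (trivOn D hI hX ⊓ trivOn D hX hU ⊓ trivOn D hU fr_inv : Subgroup (MulAut E)) :=
      isPGroup_layers D hUE (fun a ha x => ha.1.1.2 x x.2) (fun a ha => ha.1.2.2) fun a ha => ha.2.2
    intro a
    obtain ⟨a', ha', haa⟩ := a.2.2
    obtain ⟨i, hi⟩ := Subgroup.mem_zpowers_iff.1 (show res a' ∈ Subgroup.zpowers t from ha')
    have hap : res (a' ^ p) = 1 := by
      rw [map_pow, ← hi, ← zpow_natCast, ← zpow_mul, mul_comm, zpow_mul, zpow_natCast, htp, one_zpow]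
    have hstab : ∀ x : E, (x : G) ∈ X → ((x⁻¹ * ((a : MulAut E) ^ p) x : E) : G) ∈ U := by
      intro x hx
      have h := (hres (a' ^ p) ⟨x, hx⟩).symm
      rw [hap, MulAut.one_apply, eq_comm, hqe, resHom_apply, SubgroupClass.coe_pow,
        show (a' : MulAut E) = a from haa] at h
      exact h
    obtain ⟨k, hk⟩ := hK ⟨(a : MulAut E) ^ p, ⟨⟨(trivOn D hI hX).pow_mem a.2.1.1.1 p,
      pow_mem (hL0A a.2.1) p, hstab⟩, (trivOn D hU fr_inv).pow_mem a.2.1.1.2 p⟩⟩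
    exact ⟨k + 1, Subtype.ext (by rw [SubgroupClass.coe_pow, pow_succ', pow_mul]; exact congrArg Subtype.val hk)⟩
  have hcM : ∀ a, (cH a : MulAut E) ∈ M := fun a => by
    refine ⟨hcL a, cH a, ?_, rfl⟩
    obtain ⟨e, he, i, rfl⟩ := exists_decomp hE hg0 a
    exact Subgroup.mem_zpowers_iff.2 ⟨i, (htpow e i he).symm⟩
  have hMeq : ∀ a ∈ M, ∃ y : G, a = (cH y : MulAut E) := by
    set R := ((D.aut E).subtype.comp cH).range
    have hRM : R ≤ M := by rintro _ ⟨a, rfl⟩; exact hcM a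
    obtain ⟨β0, hβ0, hβM⟩ := D.sylowConj hE M (fun a ha => hL0A ha.1) hMp
    have hle : M.map (MulAut.conj β0).toMonoidHom ≤ R := by
      rintro _ ⟨a, ha, rfl⟩
      obtain ⟨y, hy⟩ := hβM a ha
      exact ⟨y, MulEquiv.ext fun x => Subtype.ext ((cAut_apply hE y x).trans (hy x).symm)⟩
    have hc := Subgroup.card_le_of_le hle
    rw [Subgroup.card_map_of_injective (MulEquiv.injective _)] at hc
    intro a ha
    obtain ⟨y, hy⟩ := (Subgroup.eq_of_le_of_card_ge hRM hc).ge ha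
    exact ⟨y, hy.symm⟩
  obtain ⟨γ, hγ, hγx⟩ := D.extend hE β β.2 fun a => by
    have himg : res (β * cH a * β⁻¹) ∈ Subgroup.zpowers t := by
      obtain ⟨e, he, i, rfl⟩ := exists_decomp hE hg0 a
      refine Subgroup.mem_zpowers_iff.2 ⟨i, ?_⟩
      rw [map_mul, map_mul, map_inv, hβb, htpow e i he, ((show Commute b t from hbt).zpow_right i).eq,
        mul_inv_cancel_right]
    obtain ⟨y, hy⟩ := hMeq ((β * cH a * β⁻¹ : D.aut E) : MulAut E)
      ⟨L0.mul_mem (L0.mul_mem hβL (hcL a)) (L0.inv_mem hβL), β * cH a * β⁻¹, himg, rfl⟩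
    refine ⟨y, fun x hx => ?_⟩
    rw [← cAut_apply hE y x]
    refine (congrArg (fun f : MulAut E => (f x : G)) hy |> fun h => ?_)
    refine Eq.trans ?_ h
    show _ = ((β : MulAut E) (cAut hE a ((β : MulAut E)⁻¹ x)) : G)
    exact congrArg (fun w : E => ((β : MulAut E) w : G)) (Subtype.ext (cAut_apply hE a _).symm)
  have hγE : ∀ a : G, a⁻¹ * γ a ∈ E := fun a => by
    have hrel : cH (γ a) = β * cH a * β⁻¹ := by
      refine Subtype.ext (MulEquiv.ext fun x => Subtype.ext ?_)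
      show (cAut hE (γ a) x : G) = ((β : MulAut E) (cAut hE a ((β : MulAut E)⁻¹ x)) : G)
      rw [cAut_apply, ← hγx, cAut_apply, map_mul, map_mul, map_inv]
      congr 2
      rw [hγx, MulAut.apply_inv_self]
    refine hout _ ?_
    rw [map_mul, map_mul, hrel, map_mul, map_mul, map_inv, map_inv, map_inv, hβb]
    obtain ⟨e, he, i, rfl⟩ := exists_decomp hE hg0 a
    rw [htpow e i he, ((show Commute b t from hbt).zpow_right i).eq, mul_inv_cancel_right, inv_mul_cancel]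
  -- an involution
  obtain ⟨k, m, hm, hkm⟩ := Nat.exists_eq_pow_mul_and_not_dvd (orderOf_pos γ).ne' p hp.out.ne_one
  set τ := γ ^ p ^ k with hτdef
  set β1 := β ^ p ^ k with hβ1
  have hτm : τ ^ m = 1 := by rw [hτdef, ← pow_mul, ← hkm, pow_orderOf_eq_one]
  have hτx : ∀ x : E, τ x = ((β1 : MulAut E) x : G) := by
    rw [hτdef, hβ1, SubgroupClass.coe_pow]
    generalize p ^ k = n
    induction n with
    | zero => intro x; rfl
    | succ n ih => intro x; rw [pow_succ', pow_succ', MulAut.mul_apply, MulAut.mul_apply, ih, hγx]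
  obtain ⟨c, hc⟩ : Odd (p ^ k) := (hp.out.odd_of_ne_two D.odd).pow
  have hb1' : res β1 = b := by
    rw [hβ1, map_pow, hβb, hc, pow_succ, pow_mul, pow_two, hbb, one_pow, one_mul]
  have hmp : Nat.Coprime m p := (hp.out.coprime_iff_not_dvd.2 hm).symm
  have hβ1L : (β1 : MulAut E) ∈ L0 := by rw [hβ1, SubgroupClass.coe_pow]; exact pow_mem hβL _
  have hτE2 : ∀ x : E, τ (τ x) = x := by
    have hsq : ((β1 : MulAut E) ^ 2) = 1 := by
      refine eq_one_of_layers (D := D) hUE ?_ hX hU (pow_mem (hL0A hβ1L) 2)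
        (fun x => ((trivOn D hI hX).pow_mem hβ1L.1.1 2).2 x x.2) (fun x hx => ?_)
        (fun x hx => ((trivOn D hU fr_inv).pow_mem hβ1L.1.2 2).2 x hx)
      · refine hmp.coprime_dvd_left (orderOf_dvd_of_pow_eq_one (MulEquiv.ext fun x => Subtype.ext ?_))
        have h : ∀ n : ℕ, ((((β1 : MulAut E) ^ n) x : E) : G) = (τ ^ n) x := fun n => by
          induction n generalizing x with
          | zero => rfl
          | succ n ih => rw [pow_succ, pow_succ, MulAut.mul_apply, MulAut.mul_apply, ih, hτx]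
        rw [← pow_mul, MulAut.one_apply, h, mul_comm, pow_mul, hτm, one_pow, MulAut.one_apply]
      · have h := (hres (β1 ^ 2) ⟨x, hx⟩).symm
        rw [map_pow res, hb1', show b ^ 2 = 1 from (pow_two b).trans hbb, MulAut.one_apply, eq_comm, hqe, resHom_apply] at h
        exact h
    intro x
    rw [hτx, hτx, ← MulAut.mul_apply, ← pow_two, hsq, MulAut.one_apply]
  have hτmod : ∀ a : G, a⁻¹ * τ a ∈ E := by
    rw [hτdef]
    generalize p ^ k = n
    induction n with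
    | zero => intro a; simp
    | succ n ih =>
      intro a
      rw [pow_succ, MulAut.mul_apply, show a⁻¹ * (γ ^ n) (γ a) = (a⁻¹ * γ a) * ((γ a)⁻¹ * (γ ^ n) (γ a)) by group]
      exact mul_mem (hγE a) (ih (γ a))
  have hsq : ∀ a, τ (τ a) = a := by
    intro a
    show (τ * τ) a = a
    refine Fusion87.fix_of_step (τ * τ) (hmp.coprime_dvd_left (orderOf_dvd_of_pow_eq_one ?_)) a ?_
      (D.pgroup _)
    · rw [← pow_two, ← pow_mul, mul_comm, pow_mul, hτm, one_pow]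
    · have hmem : a⁻¹ * (τ * τ) a ∈ E := by
        rw [MulAut.mul_apply, show a⁻¹ * τ (τ a) = a⁻¹ * τ a * ((τ a)⁻¹ * τ (τ a)) by group]
        exact mul_mem (hτmod a) (hτmod (τ a))
      exact hτE2 ⟨_, hmem⟩
  obtain ⟨g, hgfix, hgg0⟩ := exists_fixed D.pgroup D.odd hsq (hτmod g0)
  have hgE : g ∉ E := fun h => hg0 (by
    rw [show g0 = g * (g0⁻¹ * g)⁻¹ by group]; exact mul_mem h (inv_mem hgg0))
  have hgt : res (cH g) = t := by
    rw [show g = g0 * (g0⁻¹ * g) by group, map_mul, map_mul, hEtriv _ hgg0, mul_one]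
  have hgcomm : ∀ x : X, q ⟨⁅g, (x : G)⁆, hEX g x (hXE x.2)⟩ = dh (q x) := fun x => by
    obtain ⟨y, hy, hy'⟩ := hcv g x
    show _ = t (q x) * (q x)⁻¹
    rw [← hgt, hy', ← map_inv, ← map_mul, hqe, Subgroup.coe_mul, hy, Subgroup.coe_inv,
      ← commutatorElement_def, inv_mul_cancel]
    exact one_mem _
  set z := ⁅g, x0⁆ with hz
  have hzX : z ∈ X := hEX g x0 (hXE hx0)
  have hzq : q ⟨z, hzX⟩ = zV := by
    rw [hgcomm ⟨x0, hx0⟩, hdh ⟨x0, hx0⟩]
  set z' := ((α : MulAut E) ⟨z, hXE hzX⟩ : G) with hz'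
  have hz'X : z' ∈ X := hX _ α.2 _ hzX
  have hz'q : q ⟨z', hz'X⟩ = s zV := by
    rw [← hzq, hres]
    exact congrArg q (Subtype.ext (resHom_apply hXE hX α ⟨z, hzX⟩).symm)
  have hbq : ∀ x : X, ∀ hx : τ x ∈ X, b (q x) = q ⟨τ x, hx⟩ := fun x hx => by
    rw [← hb1', hres]
    exact congrArg q (Subtype.ext ((resHom_apply hXE hX β1 x).trans (hτx ⟨x, hXE x.2⟩).symm))
  have hτX : ∀ x ∈ X, τ x ∈ X := fun x hx => by
    rw [show τ x = ((β1 : MulAut E) ⟨x, hXE hx⟩ : G) from hτx ⟨x, hXE hx⟩]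
    exact hX _ (hL0A hβ1L) _ hx
  set φ : D.aut E := α * cH g0 * α⁻¹
  have hφL : (φ : MulAut E) ∈ L0 := hconjL _ α.2 _ (hcL g0)
  have hφq : ∀ x : X, ∀ hx : ((φ : MulAut E) ⟨x, hXE x.2⟩ : G) ∈ X,
      t' (q x) = q ⟨_, hx⟩ := fun x hx => by
    rw [ht'eq, hres]
    exact congrArg q (Subtype.ext (resHom_apply hXE hX φ x))
  refine ⟨τ, g, z, z', φ, ⟨pow_mem hγ _, hsq, fun x hx => ?_, hτmod, fun x hx => ?_, fun x hx => ?_,
    fun x hx => ?_, hgE, hgfix, hzX, hz'X, ⟨x0, hx0, rfl⟩, ?_, ?_, ?_, ?_, φ.2, fun x => ?_, fun x hx => ?_,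
    fun x hx => ?_, ?_, fun x hx => ?_, fun x hx => ?_⟩⟩
  · rw [show τ x = ((β1 : MulAut E) ⟨x, hx⟩ : G) from hτx ⟨x, hx⟩]; exact SetLike.coe_mem _
  · rw [show τ x = ((β1 : MulAut E) ⟨x, hx⟩ : G) from hτx ⟨x, hx⟩]
    exact hβ1L.1.1.2 ⟨x, hx⟩ hx
  · rw [show τ x = ((β1 : MulAut E) ⟨x, hUE hx⟩ : G) from hτx ⟨x, hUE hx⟩]
    exact hβ1L.1.2.2 ⟨x, hUE hx⟩ hx
  · have hxE : x ∈ E := center_le hE (hNc hx)
    rw [show τ x = ((β1 : MulAut E) ⟨x, hxE⟩ : G) from hτx ⟨x, hxE⟩]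
    exact (inv_mul_eq_one.1 (Subgroup.mem_bot.1 (hβ1L.2.2 ⟨x, hxE⟩ hx))).symm
  · have h := hgcomm ⟨z, hzX⟩
    rw [hzq, show dh zV = 1 from mul_inv_eq_one.2 htz] at h
    exact (hq1 _).1 h
  · intro h
    have h' := (hq1 ⟨_, hEX g z' (hXE hz'X)⟩).2 h
    rw [hgcomm ⟨z', hz'X⟩, hz'q] at h'
    exact h1 (mul_inv_eq_one.1 h')
  · have h := hb1
    rw [← hzq, hbq _ (hτX z hzX), zpow_neg_one, ← mul_eq_one_iff_eq_inv, ← map_mul, hq1, Subgroup.coe_mul] at h
    rw [show z * τ z = z * (τ z * z) * z⁻¹ by group]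
    exact hUn.conj_mem _ h z
  · have h := hb2
    rw [← hz'q, hbq _ (hτX z' hz'X), zpow_neg_one, ← mul_eq_one_iff_eq_inv, ← map_mul, hq1, Subgroup.coe_mul] at h
    rw [show z' * τ z' = z' * (τ z' * z') * z'⁻¹ by group]
    exact hUn.conj_mem _ h z'
  · exact hφL.1.1.2 x x.2
  · have := hφL.2.2 x hx
    rw [Subgroup.mem_bot, OneMemClass.coe_eq_one, inv_mul_eq_one] at this
    exact this.symm
  · obtain ⟨i, hi⟩ := isMove_conj s hmove (q ⟨x, hx⟩)
    refine ⟨i, ?_⟩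
    have h := hi
    rw [← hz'q, hφq ⟨x, hx⟩ (hX _ φ.2 _ hx), ← map_zpow, ← map_mul, eq_comm, hqe,
      Subgroup.coe_mul, SubgroupClass.coe_zpow] at h
    exact h
  · obtain ⟨i, hi⟩ := isMove_conj s hmove zV
    refine ⟨i, fun h0 => h2 (by rw [hi, FusionOrderFive.zpow_congr hexp (s zV) (n := 0)
      (by rw [h0, Int.cast_zero]), zpow_zero, mul_one]), fun x hx => ?_⟩
    obtain rfl : x = ⟨z, hXE hzX⟩ := Subtype.ext hx
    have h := hi
    rw [← hz'q, ← hzq, hφq ⟨z, hzX⟩ (hX _ φ.2 _ hzX), ← map_zpow, ← map_mul, eq_comm, hqe,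
      Subgroup.coe_mul, SubgroupClass.coe_zpow] at h
    exact h
  · obtain ⟨i, j, l, hl, hl', hv⟩ := hdec (q ⟨x, hx⟩)
    obtain ⟨l, rfl⟩ := QuotientGroup.mk'_surjective U' l
    refine ⟨i, j, l, l.2, ?_, ?_, fun y hy => ?_, ?_⟩
    · have h := hgcomm l
      rw [show dh (q l) = 1 from mul_inv_eq_one.2 hl] at h
      exact (hq1 _).1 h
    · exact (hqe l ⟨_, hτX l l.2⟩).1 ((hb3 _ hl hl').symm.trans (hbq l _))
    · obtain rfl : y = ⟨l, hXE l.2⟩ := Subtype.ext hy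
      exact (hqe l ⟨_, hX _ φ.2 _ l.2⟩).1 (hl'.symm.trans (hφq l _))
    · rw [← hz'q, ← hzq, ← map_zpow, ← map_zpow, ← map_mul, ← map_mul, hqe, Subgroup.coe_mul,
        Subgroup.coe_mul, SubgroupClass.coe_zpow, SubgroupClass.coe_zpow] at hv
      exact hv
  · obtain ⟨i, hi⟩ := hmove (q ⟨x, hx⟩)
    refine ⟨i, ?_⟩
    have h : q ⟨⁅g, x⁆, hEX g x (hXE hx)⟩ = zV ^ i := by
      rw [hgcomm ⟨x, hx⟩]
      show t (q _) * _⁻¹ = _
      rw [hi, mul_comm (q _), mul_inv_cancel_right]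
    rw [← hzq, ← map_zpow, eq_comm, hqe, SubgroupClass.coe_zpow] at h
    exact h

end NormalSys

end Cfsg.Agent.Lib.RankThreeNormal61
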