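import Mathlib
import Cfsg.Agent.Lib.RankThreeNormal61.Torus
import Cfsg.Agent.Lib.RankThreeEss69.TData

/-!
Two distinguished subgroups: the plane inverted by a torus of one of them does not lie in the
intersection.
-/

set_option autoImplicit false
set_option linter.unusedSectionVars false

namespace Cfsg.Agent.Lib.RankThreeNormal61

open Cfsg Cfsg.Agent.Lib Cfsg.Agent.Lib.RankThreeEss69
open scoped commutatorElement

universe u

variable {G : Type u} [Group G] [Finite G] {p : ℕ} [hp : Fact p.Prime]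

theorem fr_map_le {E P : Subgroup G} (hPE : P ≤ E) (φ : MulAut E)
    (hφ : ∀ x : E, (x : G) ∈ P → (φ x : G) ∈ P) (x : E) (hx : (x : G) ∈ fr p P) :
    (φ x : G) ∈ fr p P := by
  exact apply_mem_fr P ((E.subtype.comp φ.toMonoidHom).comp (Subgroup.inclusion hPE)) P
    (fun w => hφ _ w.2) (x := ⟨x, fr_le hx⟩) hx

theorem mem_of_sq (hG : IsPGroup p G) (hp2 : p ≠ 2) {K : Subgroup G} {x : G} (h : x * x ∈ K) : x ∈ K := by
  obtain ⟨k, hk⟩ := hG x
  obtain ⟨c, hc⟩ : Odd (p ^ k) := (hp.out.odd_of_ne_two hp2).pow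
  have : x = (x * x) ^ (c + 1) := by
    rw [← pow_two, ← pow_mul, show 2 * (c + 1) = p ^ k + 1 by omega, pow_succ, hk, one_mul]
  rw [this]
  exact K.pow_mem h _

namespace NormalSys

variable (D : NormalSys p G)

/-- Two distinguished subgroups and no more. -/
structure Pair (E1 E2 : Subgroup G) : Prop where
  h1 : D.IsEss E1
  h2 : D.IsEss E2
  ne : E1 ≠ E2
  only : ∀ E, D.IsEss E → E = E1 ∨ E = E2
  glob1 : ∀ γ ∈ D.glob, ∀ x ∈ E1, γ x ∈ E1
  glob2 : ∀ γ ∈ D.glob, ∀ x ∈ E2, γ x ∈ E2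

variable {D} {E1 E2 : Subgroup G}

theorem Pair.symm (hP : D.Pair E1 E2) : D.Pair E2 E1 :=
  ⟨hP.h2, hP.h1, hP.ne.symm, fun E hE => (hP.only E hE).symm, hP.glob2, hP.glob1⟩

theorem Pair.not_le (hP : D.Pair E1 E2) : ¬ E2 ≤ E1 := fun h => hP.ne (Subgroup.eq_of_le_of_card_ge h
  (Nat.le_of_mul_le_mul_right (by rw [card_E_mul hP.h1, card_E_mul hP.h2]) hp.out.pos)).symm

theorem Pair.card_meet (hP : D.Pair E1 E2) : Nat.card (E1 ⊓ E2 : Subgroup G) * p = Nat.card E2 := by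
  haveI := D.normal hP.h1
  haveI := D.normal hP.h2
  obtain ⟨r, hr2, hr1⟩ := SetLike.not_le_iff_exists.1 hP.not_le
  have hlt : E1 ⊓ E2 < E2 := lt_of_le_of_ne inf_le_right fun e => hr1 (e.ge hr2).1
  refine le_antisymm (card_mul_le' D.pgroup hlt) ?_
  have heq : E2 ≤ E1 ⊓ E2 ⊔ Subgroup.zpowers r := by
    intro x hx
    obtain ⟨a, ha, i, rfl⟩ := exists_decomp hP.h1 hr1 x
    exact mul_mem (Subgroup.mem_sup_left ⟨ha, by simpa using mul_mem hx (inv_mem (Subgroup.zpow_mem _ hr2 i))⟩)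
      (Subgroup.mem_sup_right (Subgroup.zpow_mem _ (Subgroup.mem_zpowers r) i))
  exact (Subgroup.card_le_of_le heq).trans
    (card_sup_zpowers_le ⟨pow_mem_E hP.h1 r, pow_mem hr2 p⟩)

theorem fr_le_meet (hP : D.Pair E1 E2) {E : Subgroup G} (hE : E = E1 ∨ E = E2) : fr p E ≤ E1 ⊓ E2 :=
  le_inf (fr_le_of (fun x _ => pow_mem_E hP.h1 x) fun x _ y _ => comm_mem_E hP.h1 x y)
    (fr_le_of (fun x _ => pow_mem_E hP.h2 x) fun x _ y _ => comm_mem_E hP.h2 x y)

/-- An involution trivial on the factor group by the intersection and inverting it modulo `fr E2`. -/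
structure Flat (D : NormalSys p G) (E1 E2 : Subgroup G) (τ : MulAut G) : Prop where
  glob : τ ∈ D.glob
  sq : ∀ a, τ (τ a) = a
  mod : ∀ a : G, a⁻¹ * τ a ∈ E1 ⊓ E2
  inv : ∀ x ∈ E1 ⊓ E2, x * τ x ∈ fr p E2
  move : ∀ e ∈ E1, e ∉ E2 → ∃ x ∈ E1 ⊓ E2, ⁅e, x⁆ ∉ fr p E2

theorem Torus.z_notMem {E X U N : Subgroup G} {τ : MulAut G} {g z z' : G} {φ : MulAut E}
    (T : D.Torus E X U N τ g z z' φ) (hU : U.Normal) : z ∉ U := fun h => by
  obtain ⟨i, hi⟩ := T.move z' T.z'X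
  refine T.gz' ?_
  simpa using mul_mem (U.zpow_mem h i) hi

theorem Torus.z'_notMem {E X U N : Subgroup G} {τ : MulAut G} {g z z' : G} {φ : MulAut E}
    (T : D.Torus E X U N τ g z z' φ) (hU : U.Normal) : z' ∉ U ⊔ Subgroup.zpowers z := fun h => by
  obtain ⟨k, hk, i, hki⟩ := exists_of_mem_sup h
  refine T.gz' (comm_mem_iff.2 ?_)
  rw [hki, map_mul, map_zpow, mk'_eq_one.2 hk, one_mul]
  exact (commute_mk' T.gz).zpow_right i

theorem flat_of_torus (hP : D.Pair E1 E2) {X N : Subgroup G} {τ : MulAut G} {g z z' : G} {φ : MulAut E2}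
    (T : D.Torus E2 X (fr p E2) N τ g z z' φ) (hPX : E1 ⊓ E2 ≤ X) (hz : z ∈ E1 ⊓ E2)
    (hz' : z' ∈ E1 ⊓ E2) (hmod : ∀ x ∈ E2, x⁻¹ * τ x ∈ E1 ⊓ E2) : Flat D E1 E2 τ := by
  haveI := D.normal hP.h1
  haveI := D.normal hP.h2
  set U := fr p E2
  haveI hUn : U.Normal := fr_normal hP.h2
  set P := E1 ⊓ E2 with hPdef
  haveI : P.Normal := by rw [hPdef]; infer_instance
  set π := QuotientGroup.mk' U
  have hUP : U ≤ P := fr_le_meet hP (Or.inr rfl)
  have hPle : Nat.card P ≤ Nat.card U * p ^ 2 := by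
    refine Nat.le_of_mul_le_mul_right ?_ hp.out.pos
    rw [hP.card_meet, show Nat.card U * p ^ 2 * p = Nat.card U * p ^ 3 by ring]
    exact card_le_fr hP.h2
  haveI hzn : (U ⊔ Subgroup.zpowers z).Normal := by
    refine sup_zpowers_normal fun a => ?_
    obtain ⟨e, he, i, rfl⟩ := exists_decomp hP.h2 T.hg a
    rw [comm_mem_iff, map_mul, map_zpow]
    exact (commute_mk' (comm_mem_fr hz.2 he)).mul_right ((commute_mk' T.gz).symm.zpow_right i)
  have hzc := card_mul_le' D.pgroup (lt_of_le_of_ne (le_sup_left : U ≤ U ⊔ Subgroup.zpowers z)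
    fun e => T.z_notMem hUn (e.ge (Subgroup.mem_sup_right (Subgroup.mem_zpowers z))))
  have hzc' := card_mul_le' D.pgroup (lt_of_le_of_ne (le_sup_left : _ ≤ U ⊔ Subgroup.zpowers z ⊔
    Subgroup.zpowers z') fun e => T.z'_notMem hUn (e.ge (Subgroup.mem_sup_right (Subgroup.mem_zpowers z'))))
  have hPeq : U ⊔ Subgroup.zpowers z ⊔ Subgroup.zpowers z' = P := Subgroup.eq_of_le_of_card_ge
    (sup_le (sup_le hUP (Subgroup.zpowers_le.2 hz)) (Subgroup.zpowers_le.2 hz'))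
    (hPle.trans (by rw [sq, ← mul_assoc]; exact (Nat.mul_le_mul_right p hzc).trans hzc'))
  have hform : ∀ x ∈ P, ∃ i j : ℤ, π x = π z ^ i * π z' ^ j := fun x hx => by
    rw [← hPeq] at hx
    obtain ⟨k, hk, j, rfl⟩ := exists_of_mem_sup hx
    obtain ⟨u, hu, i, rfl⟩ := exists_of_mem_sup hk
    exact ⟨i, j, by rw [map_mul, map_mul, map_zpow, map_zpow, mk'_eq_one.2 hu, one_mul]⟩
  have hτU : ∀ u ∈ U, τ u ∈ U := fun u hu => by
    simpa using mul_mem hu (T.u_mod u hu)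
  have hτπ : ∀ a b : G, π a = π b → π (τ a) = π (τ b) := fun a b h => by
    refine QuotientGroup.eq.2 ?_
    rw [← map_inv, ← map_mul]
    exact hτU _ (QuotientGroup.eq.1 h)
  have hzz : Commute (π z) (π z') := commute_mk' (comm_mem_fr hz.2 hz'.2)
  have hinvz : π (τ z) = (π z)⁻¹ := by
    rw [eq_inv_iff_mul_eq_one, ← map_mul, mk'_eq_one]
    simpa [mul_assoc] using hUn.conj_mem _ T.zinv z⁻¹
  have hinvz' : π (τ z') = (π z')⁻¹ := by
    rw [eq_inv_iff_mul_eq_one, ← map_mul, mk'_eq_one]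
    simpa [mul_assoc] using hUn.conj_mem _ T.z'inv z'⁻¹
  have hinv : ∀ x ∈ P, x * τ x ∈ U := by
    intro x hx
    obtain ⟨i, j, hij⟩ := hform x hx
    rw [← mk'_eq_one, map_mul, hτπ x (z ^ i * z' ^ j) (by rw [hij, map_mul, map_zpow, map_zpow]),
      map_mul τ, map_zpow τ, map_zpow τ, map_mul, map_zpow, map_zpow, hinvz, hinvz', hij, inv_zpow,
      inv_zpow, ← mul_inv_rev, ((hzz.symm.zpow_zpow j i)).eq, mul_inv_cancel]
  refine ⟨T.glob, T.sq, fun a => ?_, hinv, fun e he1 he2 => ?_⟩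
  · obtain ⟨e, he, i, rfl⟩ := exists_decomp hP.h2 T.hg a
    rw [map_mul τ, map_zpow τ, T.gfix, show (e * g ^ i)⁻¹ * (τ e * g ^ i) = g ^ (-i) * (e⁻¹ * τ e) * (g ^ (-i))⁻¹ by group]
    exact (inferInstance : P.Normal).conj_mem _ (hmod e he) _
  · by_contra hcon
    push Not at hcon
    obtain ⟨b, hb, i, rfl⟩ := exists_decomp hP.h2 T.hg e
    refine T.gz' (comm_mem_iff.2 ?_)
    have h1 : Commute (π (g ^ i)) (π z') := by
      have h2 := commute_mk' (hcon z' hz')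
      rw [map_mul] at h2
      have h3 := (commute_mk' (comm_mem_fr hb hz'.2)).inv_left.mul_left h2
      rwa [inv_mul_cancel_left] at h3
    refine (Subgroup.mem_centralizer_singleton_iff.1 (?_ : π g ∈ Subgroup.centralizer {π z'}) : _)
    refine mem_of_zpow (p := p) ?_ (i := i) (fun h0 => he2 ?_) ?_
    · rw [Subgroup.mem_centralizer_singleton_iff, ← map_pow]
      exact (commute_mk' (comm_mem_fr (pow_mem_E hP.h2 g) hz'.2)).eq
    · obtain ⟨c, rfl⟩ := (ZMod.intCast_zmod_eq_zero_iff_dvd _ _).1 h0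
      refine mul_mem hb ?_
      rw [zpow_mul, zpow_natCast]
      exact Subgroup.zpow_mem _ (pow_mem_E hP.h2 g) c
    · rw [Subgroup.mem_centralizer_singleton_iff, ← map_zpow]
      exact h1.eq

end NormalSys

end Cfsg.Agent.Lib.RankThreeNormal61
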