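import Mathlib
import Cfsg.Agent.Lib.RankThreeNormal61.Flat

/-!
No torus of one distinguished subgroup inverts the intersection of the two and fixes the factor
group: an elementary abelian section of order `p ^ 4` would appear.
-/

set_option autoImplicit false
set_option linter.unusedSectionVars false

namespace Cfsg.Agent.Lib.RankThreeNormal61

open Cfsg Cfsg.Agent.Lib Cfsg.Agent.Lib.RankThreeEss69
open scoped commutatorElement

universe u

variable {G : Type u} [Group G] [Finite G] {p : ℕ} [hp : Fact p.Prime]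

/-- An integer not divisible by `p` can be cancelled from a power. -/
theorem mem_of_zpow_pow {K : Subgroup G} {x : G} (hx : x ^ p ∈ K) {i : ℤ} (h : x ^ i ∈ K) (hxK : x ∉ K) :
    (p : ℤ) ∣ i := by
  by_contra hi
  exact hxK (mem_of_zpow hx (i := i) (fun h0 => hi ((ZMod.intCast_zmod_eq_zero_iff_dvd _ _).1 h0)) h)

theorem zpow_mem_of_dvd {K : Subgroup G} {x : G} (hx : x ^ p ∈ K) {i : ℤ} (hi : (p : ℤ) ∣ i) :
    x ^ i ∈ K := by
  obtain ⟨c, rfl⟩ := hi
  rw [zpow_mul, zpow_natCast]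
  exact K.zpow_mem hx c

namespace NormalSys

variable {D : NormalSys p G} {E1 E2 : Subgroup G}

theorem false_of_flat (hP : D.Pair E1 E2) {τ : MulAut G} (hF : Flat D E1 E2 τ) : False := by
  haveI := D.normal hP.h1
  haveI := D.normal hP.h2
  set U1 := fr p E1
  set U2 := fr p E2
  haveI hU1n : U1.Normal := fr_normal hP.h1
  haveI hU2n : U2.Normal := fr_normal hP.h2
  set P := E1 ⊓ E2 with hPdef
  haveI hPn : P.Normal := by rw [hPdef]; infer_instance
  set FP := fr p P with hFP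
  haveI hFn : FP.Normal := normal_of_map fun a => by rw [hFP, map_fr, map_conj_eq]
  have hU1P : U1 ≤ P := fr_le_meet hP (Or.inl rfl)
  have hU2P : U2 ≤ P := fr_le_meet hP (Or.inr rfl)
  have hFP1 : FP ≤ U1 := fr_mono inf_le_left
  have hFP2 : FP ≤ U2 := fr_mono inf_le_right
  have hPc1 : Nat.card P * p = Nat.card E1 := by
    rw [hPdef, inf_comm]; exact hP.symm.card_meet
  have hPle : Nat.card P ≤ Nat.card U1 * p ^ 2 := by
    refine Nat.le_of_mul_le_mul_right ?_ hp.out.pos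
    rw [hPc1, show Nat.card U1 * p ^ 2 * p = Nat.card U1 * p ^ 3 by ring]
    exact card_le_fr hP.h1
  -- fixed elements outside the intersection
  obtain ⟨e0, he01, he02⟩ := SetLike.not_le_iff_exists.1 hP.symm.not_le
  obtain ⟨e, hefix, hee0⟩ := exists_fixed D.pgroup D.odd hF.sq (hF.mod e0)
  have he1 : e ∈ E1 := by simpa using mul_mem he01 hee0.1
  have he2 : e ∉ E2 := fun h => he02 (by simpa using mul_mem h (inv_mem hee0.2))
  obtain ⟨r0, hr02, hr01⟩ := SetLike.not_le_iff_exists.1 hP.not_le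
  obtain ⟨r, hrfix, hrr0⟩ := exists_fixed D.pgroup D.odd hF.sq (hF.mod r0)
  have hr2 : r ∈ E2 := by simpa using mul_mem hr02 hrr0.2
  have hr1 : r ∉ E1 := fun h => hr01 (by simpa using mul_mem h (inv_mem hrr0.1))
  set z := ⁅r, e⁆ with hz
  have hzP : z ∈ P := ⟨comm_mem_E hP.h1 r e, comm_mem_E hP.h2 r e⟩
  have hzfix : τ z = z := by rw [hz, map_commutatorElement, hrfix, hefix]
  have hzU2 : z ∈ U2 := by
    refine mem_of_sq D.pgroup D.odd ?_
    have h := hF.inv z hzP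
    rwa [hzfix] at h
  have hE1P : ∀ x ∈ E1, ∃ d ∈ P, ∃ i : ℤ, x = d * e ^ i := by
    intro x hx
    obtain ⟨d, hd, i, rfl⟩ := exists_decomp hP.h2 he2 x
    exact ⟨d, ⟨by simpa using mul_mem hx (inv_mem (Subgroup.zpow_mem _ he1 i)), hd⟩, i, rfl⟩
  -- `τ` is not trivial on `E1` modulo `U1`
  have hnontriv : ¬ ∀ x ∈ E1, x⁻¹ * τ x ∈ U1 := by
    intro hall
    obtain ⟨α, hα, hαx⟩ := D.restrict hP.h1 τ hF.glob (hP.glob1 τ hF.glob)
    have hα1 : α = 1 := by
      refine eq_one_of_layers (D := D) (fr_le : U1 ≤ E1) ?_ fr_inv fr_inv hα (fun x => ?_) (fun x _ => ?_)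
        (fun x _ => ?_)
      · refine Nat.Coprime.coprime_dvd_left (orderOf_dvd_of_pow_eq_one (n := 2) (MulEquiv.ext fun x =>
          Subtype.ext ?_)) ((Nat.prime_two.coprime_iff_not_dvd).2 fun h => D.odd
            ((Nat.prime_dvd_prime_iff_eq Nat.prime_two hp.out).1 h).symm)
        rw [pow_two, MulAut.mul_apply, hαx, hαx, hF.sq, MulAut.one_apply]
      all_goals rw [Subgroup.coe_mul, Subgroup.coe_inv, hαx]; exact hall x x.2
    obtain ⟨x, hx, hxe⟩ := hF.move e he1 he2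
    refine hxe ?_
    have h := hF.inv x hx
    have hτx : τ x = x := by rw [show x = ((⟨x, hx.1⟩ : E1) : G) from rfl, ← hαx, hα1]; rfl
    rw [hτx] at h
    have hxU : x ∈ U2 := mem_of_sq D.pgroup D.odd h
    rw [commutatorElement_def]
    exact mul_mem (hU2n.conj_mem _ hxU e) (inv_mem hxU)
  let Fx : Subgroup G :=
    { carrier := {x | x ∈ E1 ∧ x⁻¹ * τ x ∈ U1}
      one_mem' := ⟨one_mem _, by rw [inv_one, one_mul, map_one]; exact one_mem _⟩
      mul_mem' := fun {a b} ha hb => ⟨mul_mem ha.1 hb.1, by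
        rw [map_mul, show (a * b)⁻¹ * (τ a * τ b) = b⁻¹ * (a⁻¹ * τ a) * b * (b⁻¹ * τ b) by group]
        exact mul_mem (by simpa using hU1n.conj_mem _ ha.2 b⁻¹) hb.2⟩
      inv_mem' := fun {a} ha => ⟨inv_mem ha.1, by
        rw [map_inv, inv_inv, show a * (τ a)⁻¹ = a * (a⁻¹ * τ a)⁻¹ * a⁻¹ by group]
        exact hU1n.conj_mem _ (inv_mem ha.2) a⟩ }
  have hU1Fx : U1 ≤ Fx := fun x hx => ⟨fr_le hx, mul_mem (inv_mem hx) (by
    obtain ⟨α, hα, hαx⟩ := D.restrict hP.h1 τ hF.glob (hP.glob1 τ hF.glob)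
    rw [show x = ((⟨x, fr_le hx⟩ : E1) : G) from rfl, ← hαx]
    exact fr_inv α hα _ hx)⟩
  have hfixFx : ∀ x ∈ E1, τ x = x → x ∈ Fx := fun x hx h => ⟨hx, by rw [h, inv_mul_cancel]; exact one_mem _⟩
  have heFx : Subgroup.zpowers e ≤ Fx := Subgroup.zpowers_le.2 (hfixFx e he1 hefix)
  have hFxtop : ¬ P ≤ Fx := fun h => hnontriv fun x hx => by
    obtain ⟨d, hd, i, rfl⟩ := hE1P x hx
    exact (mul_mem (h hd) (heFx (Subgroup.zpow_mem _ (Subgroup.mem_zpowers e) i))).2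
  -- the action on `E1` modulo `U1` is quadratic
  have hquad : ∀ (g : G), ∀ x ∈ E1, ⁅g, ⁅g, x⁆⁆ ∈ U1 := by
    by_contra hcon
    push Not at hcon
    obtain ⟨g0, x0, hx0, hd⟩ := hcon
    set C1 := ⁅E1, (⊤ : Subgroup G)⁆ ⊔ U1
    set C2 := ⁅C1, (⊤ : Subgroup G)⁆ ⊔ U1
    haveI hC1n : C1.Normal := by infer_instance
    haveI hC2n : C2.Normal := by infer_instance
    have hC1 : ∀ g, ∀ x ∈ E1, ⁅g, x⁆ ∈ C1 := fun g x hx => by
      rw [← commutatorElement_inv]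
      exact inv_mem (Subgroup.mem_sup_left (Subgroup.commutator_mem_commutator hx (Subgroup.mem_top g)))
    have hC2 : ∀ g, ∀ x ∈ C1, ⁅g, x⁆ ∈ C2 := fun g x hx => by
      rw [← commutatorElement_inv]
      exact inv_mem (Subgroup.mem_sup_left (Subgroup.commutator_mem_commutator hx (Subgroup.mem_top g)))
    have hC1P : C1 ≤ P := sup_le (Subgroup.commutator_le.2 fun x hx g _ =>
      ⟨comm_mem_E hP.h1 x g, comm_mem_E hP.h2 x g⟩) hU1P
    have l1 : U1 < C2 := lt_of_le_of_ne le_sup_right fun h => hd (h ▸ hC2 g0 _ (hC1 g0 x0 hx0))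
    have l2 : C2 < C1 := by
      refine lt_of_le_of_ne (sup_le (Subgroup.commutator_le_left _ _) le_sup_right) fun h => l1.not_ge ?_
      rw [h]
      exact le_of_le_comm_sup D.pgroup h.ge
    have c1 := card_mul_le' D.pgroup l1
    have c2 := card_mul_le' D.pgroup l2
    have hC1eq : C1 = P := Subgroup.eq_of_le_of_card_ge hC1P
      (hPle.trans (by rw [sq, ← mul_assoc]; exact (Nat.mul_le_mul_right p c1).trans c2))
    have hC2c : Nat.card C2 ≤ Nat.card U1 * p := Nat.le_of_mul_le_mul_right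
      (c2.trans (by rw [hC1eq, mul_assoc, ← sq]; exact hPle)) hp.out.pos
    have hC1c : Nat.card C1 ≤ Nat.card C2 * p := by
      rw [hC1eq]; exact hPle.trans (by rw [sq, ← mul_assoc]; exact Nat.mul_le_mul_right p c1)
    have hcen2 : ∀ g, ∀ x ∈ C2, ⁅g, x⁆ ∈ U1 := fun g x hx => by
      rw [← commutatorElement_inv]
      exact inv_mem (comm_le_of_card_le D.pgroup l1.le hC2c
        (Subgroup.commutator_mem_commutator hx (Subgroup.mem_top g)))
    set K := C2 ⊔ Subgroup.zpowers z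
    have hzC1 : z ∈ C1 := hC1 r e he1
    haveI hKn : K.Normal := sup_zpowers_normal fun g => by
      rw [← commutatorElement_inv]; exact inv_mem (hC2 g z hzC1)
    have hK : C1 ≤ K := by
      refine sup_le (Subgroup.commutator_le.2 fun x hx g _ => ?_) (l1.le.trans le_sup_left)
      obtain ⟨d, hd', i, rfl⟩ := hE1P x hx
      obtain ⟨a, ha, j, rfl⟩ := exists_decomp hP.h1 hr1 g
      obtain ⟨a', ha', k, rfl⟩ := hE1P a ha
      have hc : ∀ w ∈ P, ∀ q : G, Commute (QuotientGroup.mk' K w) (QuotientGroup.mk' K q) := fun w hw q =>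
        (commute_mk' (Subgroup.mem_sup_left (hC2 q w (hC1eq.ge hw)))).symm
      have her : Commute (QuotientGroup.mk' K e) (QuotientGroup.mk' K r) :=
        (commute_mk' (show z ∈ K from Subgroup.mem_sup_right (Subgroup.mem_zpowers z))).symm
      rw [comm_mem_iff, map_mul, map_zpow]
      refine (hc d hd' _).mul_left ?_
      rw [map_mul, map_mul, map_zpow, map_zpow]
      exact (((hc a' ha' _).symm.mul_right ((Commute.refl _).zpow_right k)).mul_right
        (her.zpow_right j)).zpow_left i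
    haveI hK2n : (U1 ⊔ Subgroup.zpowers ⁅r, z⁆).Normal := sup_zpowers_normal fun g => by
      rw [← commutatorElement_inv]; exact inv_mem (hcen2 g _ (hC2 r z hzC1))
    set K2 := U1 ⊔ Subgroup.zpowers ⁅r, z⁆
    have hK2 : C2 ≤ K2 := by
      refine sup_le (Subgroup.commutator_le.2 fun x hx g _ => ?_) le_sup_left
      obtain ⟨c, hc, i, rfl⟩ := exists_of_mem_sup (hK hx)
      obtain ⟨a, ha, j, rfl⟩ := exists_decomp hP.h1 hr1 g
      rw [comm_mem_iff, map_mul, map_zpow]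
      refine ((commute_mk' (Subgroup.mem_sup_left (hcen2 _ c hc))).symm).mul_left ?_
      rw [map_mul, map_zpow]
      exact ((commute_mk' (Subgroup.mem_sup_left (comm_mem_fr hzP.1 ha))).mul_right
        ((commute_mk' (show ⁅r, z⁆ ∈ K2 from Subgroup.mem_sup_right (Subgroup.mem_zpowers _))).symm.zpow_right j)).zpow_left i
    refine hFxtop (hC1eq.ge.trans (hK.trans (sup_le (hK2.trans (sup_le hU1Fx ?_)) ?_)))
    · refine Subgroup.zpowers_le.2 (hfixFx _ ?_ (by rw [map_commutatorElement, hrfix, hzfix]))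
      exact comm_mem_E hP.h1 r z
    · exact Subgroup.zpowers_le.2 (hfixFx z hzP.1 hzfix)
  -- the torus of `E1`
  have hI : D.Inv E1 E1 := fun a _ x _ => (a x).2
  have hB : D.Inv E1 ⊥ := fun a _ x hx => by
    rw [Subgroup.mem_bot, OneMemClass.coe_eq_one] at hx
    rw [hx, map_one, OneMemClass.coe_one]
    exact one_mem _
  obtain ⟨σ, g, w, z', φ, T⟩ := D.exists_torus_section hP.h1 le_rfl (fr_le : U1 ≤ E1) le_rfl hI fr_inv hB
    bot_le (fun g x _ => comm_mem_E hP.h1 g x) (fun g x hx => by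
      rw [commutatorElement_def]; exact mul_mem (hU1n.conj_mem x hx g) (inv_mem hx)) hquad
  set π := QuotientGroup.mk' FP
  have hwP : w ∈ P := by
    obtain ⟨x, hx, rfl⟩ := T.z_eq
    exact ⟨comm_mem_E hP.h1 g x, comm_mem_E hP.h2 g x⟩
  have hwU := T.z_notMem hU1n
  -- `r` centralises nothing in `E1` modulo `U1`
  by_cases hz'P : z' ∈ P
  · -- the moved plane lies in the intersection
    haveI hwn : (U1 ⊔ Subgroup.zpowers w).Normal := by
      refine sup_zpowers_normal fun a => ?_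
      obtain ⟨d, hd, i, rfl⟩ := exists_decomp hP.h1 T.hg a
      rw [comm_mem_iff, map_mul, map_zpow]
      exact (commute_mk' (comm_mem_fr hwP.1 hd)).mul_right ((commute_mk' T.gz).symm.zpow_right i)
    have a1 := card_mul_le' D.pgroup (lt_of_le_of_ne (le_sup_left : U1 ≤ U1 ⊔ Subgroup.zpowers w)
      fun h => hwU (h.ge (Subgroup.mem_sup_right (Subgroup.mem_zpowers w))))
    have a2 := card_mul_le' D.pgroup (lt_of_le_of_ne (le_sup_left : _ ≤ U1 ⊔ Subgroup.zpowers w ⊔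
      Subgroup.zpowers z') fun h => T.z'_notMem hU1n (h.ge (Subgroup.mem_sup_right (Subgroup.mem_zpowers z'))))
    have hPeq : U1 ⊔ Subgroup.zpowers w ⊔ Subgroup.zpowers z' = P := Subgroup.eq_of_le_of_card_ge
      (sup_le (sup_le hU1P (Subgroup.zpowers_le.2 hwP)) (Subgroup.zpowers_le.2 hz'P))
      (hPle.trans (by rw [sq, ← mul_assoc]; exact (Nat.mul_le_mul_right p a1).trans a2))
    have hU1c : Nat.card U1 ≤ Nat.card FP * p := by
      refine Nat.le_of_mul_le_mul_right (c := p ^ 2) ?_ (pow_pos hp.out.pos 2)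
      have h3 := card_le_of_rank D.pgroup D.rank (K := FP) (H := P)
        ⟨fr_le, fun _ ha _ hb => comm_mem_fr ha hb, fun _ ha => pow_mem_fr ha⟩
      rw [mul_assoc, ← pow_succ']
      refine le_trans ?_ h3
      rw [sq, ← mul_assoc, ← hPeq]
      exact (Nat.mul_le_mul_right p a1).trans a2
    have hU1F : ∀ g, ∀ x ∈ U1, ⁅g, x⁆ ∈ FP := fun g x hx => by
      rw [← commutatorElement_inv]
      exact inv_mem (comm_le_of_card_le D.pgroup hFP1 hU1c
        (Subgroup.commutator_mem_commutator hx (Subgroup.mem_top g)))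
    let K : Subgroup G :=
      { carrier := {x | x ∈ P ∧ Commute (π e) (π x)}
        one_mem' := ⟨one_mem _, by rw [map_one]; exact Commute.one_right _⟩
        mul_mem' := fun {a b} ha hb => ⟨mul_mem ha.1 hb.1, by rw [map_mul]; exact ha.2.mul_right hb.2⟩
        inv_mem' := fun {a} ha => ⟨inv_mem ha.1, by rw [map_inv]; exact ha.2.inv_right⟩ }
    have hKU : U1 ≤ K := fun x hx => ⟨hU1P hx, commute_mk' (hU1F e x hx)⟩
    have hgK : ∀ x ∈ P, ⁅g, x⁆ ∈ K := by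
      intro x hx
      have hgx : ⁅g, x⁆ ∈ P := by
        rw [commutatorElement_def]; exact mul_mem (hPn.conj_mem x hx g) (inv_mem hx)
      refine ⟨hgx, ?_⟩
      have hp0 : g * e * g⁻¹ * e⁻¹ ∈ P := ⟨comm_mem_E hP.h1 g e, comm_mem_E hP.h2 g e⟩
      have hPab : ∀ a ∈ P, ∀ b ∈ P, Commute (π a) (π b) := fun a ha b hb => commute_mk' (comm_mem_fr ha hb)
      have hc : ⁅e, x⁆ ∈ U1 := comm_mem_fr he1 hx.1
      have hgc : π g * π ⁅e, x⁆ * (π g)⁻¹ = π ⁅e, x⁆ := by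
        rw [(commute_mk' (hU1F g _ hc)).eq, mul_inv_cancel_right]
      have he' : π g * π e * (π g)⁻¹ = π (g * e * g⁻¹ * e⁻¹) * π e := by
        rw [← map_inv, ← map_mul, ← map_mul, ← map_mul]; congr 1; group
      have hx' : π g * π x * (π g)⁻¹ = π ⁅g, x⁆ * π x := by
        rw [← map_inv, ← map_mul, ← map_mul, ← map_mul, ← conj_eq_comm_mul]
      rw [map_commutatorElement π e, commutatorElement_def] at hgc
      have h5 : ⁅π g * π e * (π g)⁻¹, π g * π x * (π g)⁻¹⁆ = ⁅π e, π x⁆ := by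
        rw [commutatorElement_def, commutatorElement_def]
        refine Eq.trans ?_ hgc
        group
      set a := π (g * e * g⁻¹ * e⁻¹)
      set b := π ⁅g, x⁆
      have hax : Commute a (π x) := hPab _ hp0 _ hx
      have hab : Commute a b := hPab _ hp0 _ hgx
      have hPex : π e * π x * (π e)⁻¹ = π (e * x * e⁻¹) := by rw [map_mul, map_mul, map_inv]
      have hexP : e * x * e⁻¹ ∈ P := hPn.conj_mem x hx e
      have hebP : e * ⁅g, x⁆ * e⁻¹ ∈ P := hPn.conj_mem _ hgx e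
      rw [he', hx', show ⁅a * π e, b * π x⁆ = a * ((π e * b * (π e)⁻¹) * (π e * π x * (π e)⁻¹)) * a⁻¹ *
        ((π x)⁻¹ * b⁻¹) by rw [commutatorElement_def]; group, show ⁅π e, π x⁆ = (π e * π x * (π e)⁻¹) * (π x)⁻¹
        by rw [commutatorElement_def]] at h5
      have hA : Commute a ((π e * b * (π e)⁻¹) * (π e * π x * (π e)⁻¹)) := by
        rw [show π e * b * (π e)⁻¹ = π (e * ⁅g, x⁆ * e⁻¹) by rw [map_mul, map_mul, map_inv], hPex, ← map_mul]
        exact hPab _ hp0 _ (mul_mem hebP hexP)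
      rw [hA.eq, mul_inv_cancel_right] at h5
      have hB2 : Commute (π e * π x * (π e)⁻¹ * (π x)⁻¹) b⁻¹ := by
        rw [hPex, ← map_inv, ← map_inv, ← map_mul]
        exact hPab _ (mul_mem hexP (inv_mem hx)) _ (inv_mem hgx)
      rw [show π e * b * (π e)⁻¹ * (π e * π x * (π e)⁻¹) * ((π x)⁻¹ * b⁻¹) =
        π e * b * (π e)⁻¹ * ((π e * π x * (π e)⁻¹ * (π x)⁻¹) * b⁻¹) by group, hB2.eq, ← mul_assoc,
        mul_eq_right, mul_inv_eq_one, mul_inv_eq_iff_eq_mul] at h5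
      exact h5
    obtain ⟨i, hi⟩ := T.move z' T.z'X
    have hwi : w ^ i ∈ K := by
      have h := mul_mem (hgK z' hz'P) (inv_mem (hKU hi))
      rwa [show ⁅g, z'⁆ * ((w ^ i)⁻¹ * ⁅g, z'⁆)⁻¹ = w ^ i by group] at h
    have hwp : w ^ p ∈ K := hKU (pow_mem_fr hwP.1)
    have hwK : w ∈ K := by
      by_contra hwK
      refine T.gz' ?_
      simpa using mul_mem (zpow_mem_of_dvd (pow_mem_fr hwP.1) (mem_of_zpow_pow hwp hwi hwK)) hi
    have hz'K : z' ∈ K := by
      by_contra hz'K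
      have hφP : ∀ x : E1, (x : G) ∈ P → (φ x : G) ∈ P := by
        intro x hx
        obtain ⟨k, hk⟩ := T.φ_move x x.2
        have := mul_mem (mul_mem hx (Subgroup.zpow_mem _ hz'P k)) (hU1P hk)
        rwa [mul_inv_cancel_left] at this
      obtain ⟨k, hk⟩ := T.φ_move ⟨e, he1⟩ he1
      have hwc : ⁅e, w⁆ ∈ FP := comm_mem_iff.2 hwK.2
      have h6 := fr_map_le (inf_le_left : P ≤ E1) φ hφP ⁅(⟨e, he1⟩ : E1), (⟨w, hwP.1⟩ : E1)⁆ hwc
      rw [map_commutatorElement φ] at h6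
      obtain ⟨b, hb, hbw⟩ := T.φ_z
      have h7 : Commute (π (φ ⟨e, he1⟩ : G)) (π (φ ⟨w, hwP.1⟩ : G)) := commute_mk' h6
      set p0 := (e * z' ^ k)⁻¹ * (φ ⟨e, he1⟩ : G) with hp0def
      set u := (w * z' ^ b)⁻¹ * (φ ⟨w, hwP.1⟩ : G) with hudef
      have hu : u ∈ U1 := hbw _ rfl
      have hp0 : z' ^ k * p0 ∈ P := mul_mem (Subgroup.zpow_mem _ hz'P k) (hU1P hk)
      rw [show (φ ⟨e, he1⟩ : G) = e * (z' ^ k * p0) by rw [hp0def]; group,
        show (φ ⟨w, hwP.1⟩ : G) = w * z' ^ b * u by rw [hudef]; group, map_mul π e] at h7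
      have hyP : w * z' ^ b * u ∈ P := mul_mem (mul_mem hwP (Subgroup.zpow_mem _ hz'P b)) (hU1P hu)
      have h8 : Commute (π e) (π (w * z' ^ b * u)) := by
        have h9 := h7.mul_left ((commute_mk' (comm_mem_fr hp0 hyP) : Commute (π (z' ^ k * p0)) _).inv_left)
        rwa [mul_inv_cancel_right] at h9
      have h10 : z' ^ b ∈ K := by
        have h11 : w * z' ^ b * u ∈ K := ⟨hyP, h8⟩
        have := mul_mem (mul_mem (inv_mem hwK) h11) (inv_mem (hKU hu))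
        simpa [mul_assoc] using this
      exact hb ((ZMod.intCast_zmod_eq_zero_iff_dvd _ _).2
        (mem_of_zpow_pow (hKU (pow_mem_fr hz'P.1)) h10 hz'K))
    obtain ⟨x, hx, hxe⟩ := hF.move e he1 he2
    refine hxe (hFP2 (comm_mem_iff.2 ?_))
    replace hx := hPeq.ge hx
    exact ((sup_le (sup_le hKU (Subgroup.zpowers_le.2 hwK)) (Subgroup.zpowers_le.2 hz'K)) hx).2
  -- the moved plane is not in the intersection
  set π1 := QuotientGroup.mk' U1
  have hab : ∀ a ∈ E1, ∀ b ∈ E1, Commute (π1 a) (π1 b) := fun a ha b hb => commute_mk' (comm_mem_fr ha hb)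
  have hσU : ∀ u ∈ U1, σ u ∈ U1 := fun u hu => by simpa using mul_mem hu (T.u_mod u hu)
  have hσπ : ∀ a b : G, π1 a = π1 b → π1 (σ a) = π1 (σ b) := fun a b h => by
    refine QuotientGroup.eq.2 ?_
    rw [← map_inv, ← map_mul]
    exact hσU _ (QuotientGroup.eq.1 h)
  have hdec : ∀ x ∈ P, ∃ (i : ℤ) (l : G), l ∈ P ∧ ⁅g, l⁆ ∈ U1 ∧ (∀ y : E1, (y : G) = l → l⁻¹ * φ y ∈ U1) ∧
      π1 x = π1 w ^ i * π1 l := by
    intro x hx
    obtain ⟨i, j, l, hl, hgl, hσl, hφl, hxd⟩ := T.dec x hx.1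
    have h1 : π1 x = π1 w ^ i * π1 z' ^ j * π1 l := by
      rw [← map_zpow, ← map_zpow, ← map_mul, ← map_mul]; exact QuotientGroup.eq.2 hxd
    have hwinv : π1 (σ w) = (π1 w)⁻¹ := by
      rw [eq_inv_iff_mul_eq_one, ← map_mul, mk'_eq_one]
      simpa [mul_assoc] using hU1n.conj_mem _ T.zinv w⁻¹
    have hz'inv : π1 (σ z') = (π1 z')⁻¹ := by
      rw [eq_inv_iff_mul_eq_one, ← map_mul, mk'_eq_one]
      simpa [mul_assoc] using hU1n.conj_mem _ T.z'inv z'⁻¹
    have h2 : π1 (x * σ x) = π1 (l * l) := by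
      rw [map_mul, hσπ x (w ^ i * z' ^ j * l)
        (by rw [h1, map_mul, map_mul, map_zpow, map_zpow]), map_mul σ, map_mul σ, map_zpow σ, map_zpow σ,
        map_mul, map_mul, map_zpow, map_zpow, hwinv, hz'inv, show π1 (σ l) = π1 l from
          (QuotientGroup.eq.2 hσl).symm, map_mul, h1, inv_zpow, inv_zpow]
      have c1 : Commute (π1 l) ((π1 w ^ i)⁻¹ * (π1 z' ^ j)⁻¹) :=
        ((hab l hl w hwP.1).zpow_right i).inv_right.mul_right ((hab l hl z' T.z'X).zpow_right j).inv_right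
      rw [show π1 w ^ i * π1 z' ^ j * π1 l * ((π1 w ^ i)⁻¹ * (π1 z' ^ j)⁻¹ * π1 l) =
        π1 w ^ i * π1 z' ^ j * (π1 l * ((π1 w ^ i)⁻¹ * (π1 z' ^ j)⁻¹)) * π1 l by group, c1.eq,
        show π1 w ^ i * π1 z' ^ j * ((π1 w ^ i)⁻¹ * (π1 z' ^ j)⁻¹ * π1 l) * π1 l =
        π1 w ^ i * (π1 z' ^ j * (π1 w ^ i)⁻¹) * (π1 z' ^ j)⁻¹ * (π1 l * π1 l) by group,
        ((hab z' T.z'X w hwP.1).zpow_zpow j i).inv_right.eq]
      group
    have hlP : l ∈ P := by
      refine mem_of_sq D.pgroup D.odd ?_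
      have hu := QuotientGroup.eq.1 h2
      have hσx : x * σ x ∈ P := mul_mem hx ⟨hP.glob1 σ T.glob x hx.1, hP.glob2 σ T.glob x hx.2⟩
      have := mul_mem hσx (hU1P hu)
      rwa [mul_inv_cancel_left] at this
    have hj : z' ^ j ∈ P := by
      have h3 : π1 (z' ^ j) = π1 (w ^ (-i) * x * l⁻¹) := by
        rw [map_mul, map_mul, map_zpow, map_zpow, map_inv, h1]; group
      have := mul_mem (mul_mem (mul_mem (Subgroup.zpow_mem _ hwP (-i)) hx) (inv_mem hlP))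
        (hU1P (QuotientGroup.eq.1 h3.symm))
      rwa [mul_inv_cancel_left] at this
    have hz'p : z' ^ p ∈ U1 := pow_mem_fr T.z'X
    have hjd : z' ^ j ∈ U1 := zpow_mem_of_dvd hz'p (mem_of_zpow_pow (hU1P hz'p) hj hz'P)
    refine ⟨i, l, hlP, hgl, hφl, ?_⟩
    rw [h1, ← map_zpow π1 z', mk'_eq_one.2 hjd, mul_one]
  have hgP : ∀ x ∈ P, Commute (π1 g) (π1 x) := fun x hx => by
    obtain ⟨i, l, -, hgl, -, hxl⟩ := hdec x hx
    rw [hxl]
    exact ((commute_mk' T.gz).zpow_right i).mul_right (commute_mk' hgl)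
  have hallP : ∀ a : G, ∀ x ∈ P, ⁅a, x⁆ ∈ U1 := fun a x hx => by
    obtain ⟨d, hd, i, rfl⟩ := exists_decomp hP.h1 T.hg a
    rw [comm_mem_iff, map_mul, map_zpow]
    exact (hab d hd x hx.1).mul_left ((hgP x hx).zpow_left i)
  have hzU1 : z ∉ U1 := fun h => by
    refine hr1 (mem_of_layers hP.h1 (fr_le : U1 ≤ E1) fr_inv fr_inv (fun x hx => ?_)
      (fun x _ hx => ?_) (fun x hx => ?_))
    · obtain ⟨d, hd, i, rfl⟩ := hE1P x hx
      rw [comm_mem_iff, map_mul, map_zpow]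
      exact (commute_mk' (hallP r d hd)).mul_right ((commute_mk' h).zpow_right i)
    · obtain ⟨d, hd, i, rfl⟩ := hE1P x hx
      rw [comm_mem_iff, map_mul, map_zpow]
      exact (commute_mk' (hallP r d hd)).mul_right ((commute_mk' h).zpow_right i)
    · obtain ⟨d, hd, i, rfl⟩ := hE1P x (fr_le hx)
      rw [comm_mem_iff, map_mul, map_zpow]
      exact (commute_mk' (hallP r d hd)).mul_right ((commute_mk' h).zpow_right i)
  haveI hzn : (U1 ⊔ Subgroup.zpowers z).Normal := sup_zpowers_normal fun a => by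
    rw [← commutatorElement_inv]; exact inv_mem (hallP a z hzP)
  obtain ⟨x1, hx1, hx1n⟩ : ∃ x ∈ P, x ∉ U1 ⊔ Subgroup.zpowers z :=
    SetLike.not_le_iff_exists.1 fun h => hFxtop (h.trans (sup_le hU1Fx
      (Subgroup.zpowers_le.2 (hfixFx z hzP.1 hzfix))))
  obtain ⟨i1, l, hlP, -, hφl, hxl⟩ := hdec x1 hx1
  -- `z` is a power of `w` modulo `U1`
  obtain ⟨kz, hkz⟩ : ∃ k : ℤ, π1 z = π1 w ^ k := by
    obtain ⟨d, hd, i, hdi⟩ := exists_decomp hP.h1 T.hg r
    obtain ⟨c, hc⟩ := T.move e he1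
    refine ⟨c * i, ?_⟩
    have h1 : π1 ⁅g, e⁆ = π1 w ^ c := by rw [← map_zpow]; exact (QuotientGroup.eq.2 hc).symm
    have hconj : ∀ m : ℤ, π1 g ^ m * π1 e * (π1 g ^ m)⁻¹ = π1 w ^ (c * m) * π1 e := by
      have hge : π1 g * π1 e * (π1 g)⁻¹ = π1 w ^ c * π1 e := by
        rw [← h1, ← map_inv, ← map_mul, ← map_mul, ← map_mul, ← conj_eq_comm_mul]
      have hgw : Commute (π1 g) (π1 w) := commute_mk' T.gz
      intro m
      induction m using Int.induction_on with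
      | zero => simp
      | succ m ih =>
        rw [zpow_add_one, show π1 g ^ (m : ℤ) * π1 g * π1 e * (π1 g ^ (m : ℤ) * π1 g)⁻¹ =
          π1 g ^ (m : ℤ) * (π1 g * π1 e * (π1 g)⁻¹) * (π1 g ^ (m : ℤ))⁻¹ by group, hge,
          show π1 g ^ (m : ℤ) * (π1 w ^ c * π1 e) * (π1 g ^ (m : ℤ))⁻¹ = π1 g ^ (m : ℤ) * π1 w ^ c *
            (π1 g ^ (m : ℤ))⁻¹ * (π1 g ^ (m : ℤ) * π1 e * (π1 g ^ (m : ℤ))⁻¹) by group, ih,
          (hgw.zpow_zpow m c).eq, mul_inv_cancel_right, ← mul_assoc, ← zpow_add]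
        congr 2; ring
      | pred m ih =>
        have hgi : (π1 g)⁻¹ * π1 e * π1 g = π1 w ^ (-c) * π1 e := by
          calc (π1 g)⁻¹ * π1 e * π1 g = (π1 g)⁻¹ * (π1 w ^ (-c) * (π1 g * π1 e * (π1 g)⁻¹)) * π1 g := by
                rw [hge]; group
            _ = ((π1 g)⁻¹ * π1 w ^ (-c) * π1 g) * π1 e := by group
            _ = _ := by rw [(hgw.inv_left.zpow_right (-c)).eq, inv_mul_cancel_right]
        rw [zpow_sub_one, show π1 g ^ (-(m : ℤ)) * (π1 g)⁻¹ * π1 e * (π1 g ^ (-(m : ℤ)) * (π1 g)⁻¹)⁻¹ =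
          π1 g ^ (-(m : ℤ)) * ((π1 g)⁻¹ * π1 e * π1 g) * (π1 g ^ (-(m : ℤ)))⁻¹ by group, hgi,
          show π1 g ^ (-(m : ℤ)) * (π1 w ^ (-c) * π1 e) * (π1 g ^ (-(m : ℤ)))⁻¹ = π1 g ^ (-(m : ℤ)) *
            π1 w ^ (-c) * (π1 g ^ (-(m : ℤ)))⁻¹ * (π1 g ^ (-(m : ℤ)) * π1 e * (π1 g ^ (-(m : ℤ)))⁻¹) by group,
          ih, (hgw.zpow_zpow (-(m : ℤ)) (-c)).eq, mul_inv_cancel_right, ← mul_assoc, ← zpow_add]
        congr 2; ring
    rw [hz, hdi, map_commutatorElement, map_mul, map_zpow, commutatorElement_def,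
      show π1 d * π1 g ^ i * π1 e * (π1 d * π1 g ^ i)⁻¹ = π1 d * (π1 g ^ i * π1 e * (π1 g ^ i)⁻¹) * (π1 d)⁻¹
        by group, hconj, ((hab d hd w hwP.1).zpow_right _ |>.mul_right (hab d hd e he1)).eq,
      mul_inv_cancel_right, mul_inv_cancel_right]
  have hlout : l ∉ U1 ⊔ Subgroup.zpowers z := fun h => hx1n (by
    have hwz : w ∈ U1 ⊔ Subgroup.zpowers z := by
      refine mem_of_zpow (p := p) (Subgroup.mem_sup_left (pow_mem_fr hwP.1)) (i := kz) (fun h0 => hzU1 ?_) ?_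
      · have h1 : π1 z = 1 := by
          rw [hkz, ← map_zpow]
          exact mk'_eq_one.2 (zpow_mem_of_dvd (pow_mem_fr hwP.1) ((ZMod.intCast_zmod_eq_zero_iff_dvd _ _).1 h0))
        exact mk'_eq_one.1 h1
      · have h1 := QuotientGroup.eq.1 (show π1 z = π1 (w ^ kz) by rw [map_zpow, hkz])
        simpa using mul_mem (Subgroup.mem_sup_right (Subgroup.mem_zpowers z)) (Subgroup.mem_sup_left h1 :
          _ ∈ U1 ⊔ Subgroup.zpowers z)
    have h2 := QuotientGroup.eq.1 (show π1 (w ^ i1 * l) = π1 x1 by rw [map_mul, map_zpow, hxl])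
    have h3 := mul_mem (mul_mem (Subgroup.zpow_mem _ hwz i1) h) (Subgroup.mem_sup_left h2 :
      _ ∈ U1 ⊔ Subgroup.zpowers z)
    rwa [mul_inv_cancel_left] at h3)
  have a1 := card_mul_le' D.pgroup (lt_of_le_of_ne (le_sup_left : U1 ≤ U1 ⊔ Subgroup.zpowers z)
    fun h => hzU1 (h.ge (Subgroup.mem_sup_right (Subgroup.mem_zpowers z))))
  have a2 := card_mul_le' D.pgroup (lt_of_le_of_ne (le_sup_left : _ ≤ U1 ⊔ Subgroup.zpowers z ⊔
    Subgroup.zpowers l) fun h => hlout (h.ge (Subgroup.mem_sup_right (Subgroup.mem_zpowers l))))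
  have hPeq : U1 ⊔ Subgroup.zpowers z ⊔ Subgroup.zpowers l = P := Subgroup.eq_of_le_of_card_ge
    (sup_le (sup_le hU1P (Subgroup.zpowers_le.2 hzP)) (Subgroup.zpowers_le.2 hlP))
    (hPle.trans (by rw [sq, ← mul_assoc]; exact (Nat.mul_le_mul_right p a1).trans a2))
  have hU1c : Nat.card U1 ≤ Nat.card FP * p := by
    refine Nat.le_of_mul_le_mul_right (c := p ^ 2) ?_ (pow_pos hp.out.pos 2)
    have h3 := card_le_of_rank D.pgroup D.rank (K := FP) (H := P)
      ⟨fr_le, fun _ ha _ hb => comm_mem_fr ha hb, fun _ ha => pow_mem_fr ha⟩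
    rw [mul_assoc, ← pow_succ']
    refine le_trans ?_ h3
    rw [sq, ← mul_assoc, ← hPeq]
    exact (Nat.mul_le_mul_right p a1).trans a2
  have hU1F : ∀ g, ∀ x ∈ U1, ⁅g, x⁆ ∈ FP := fun g x hx => by
    rw [← commutatorElement_inv]
    exact inv_mem (comm_le_of_card_le D.pgroup hFP1 hU1c
      (Subgroup.commutator_mem_commutator hx (Subgroup.mem_top g)))
  set j := ⁅e, l⁆
  have hj1 : j ∈ U1 := comm_mem_fr he1 hlP.1
  have hj2 : j ∉ U2 := fun h => by
    obtain ⟨x, hx, hxe⟩ := hF.move e he1 he2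
    refine hxe (comm_mem_iff.2 ?_)
    replace hx := hPeq.ge hx
    obtain ⟨k1, hk1, m, rfl⟩ := exists_of_mem_sup hx
    obtain ⟨u, hu, n, rfl⟩ := exists_of_mem_sup hk1
    rw [map_mul, map_mul, map_zpow, map_zpow, mk'_eq_one.2 hzU2, one_zpow, mul_one]
    exact (commute_mk' (hFP2 (hU1F e u hu))).mul_right ((commute_mk' h).zpow_right m)
  have hjF : j ∉ FP := fun h => hj2 (hFP2 h)
  have hU1eq : U1 = FP ⊔ Subgroup.zpowers j := eq_sup_zpowers D.pgroup hFP1 hU1c hj1 hjF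
  have hmeet : ∀ x ∈ U1, x ∈ U2 → x ∈ FP := by
    intro x hx hx2
    obtain ⟨f, hf, m, rfl⟩ := exists_of_mem_sup (hU1eq.le hx)
    have hjm : j ^ m ∈ U2 := by simpa using mul_mem (inv_mem (hFP2 hf)) hx2
    have hjp : j ^ p ∈ FP := pow_mem_of_card_le D.pgroup hFP1 hU1c hj1
    exact mul_mem hf (zpow_mem_of_dvd hjp (mem_of_zpow_pow (hFP2 hjp) hjm hj2))
  -- the quotient by the second Frattini part
  set KF := frK p E1
  haveI hKFn : KF.Normal := normal_of_map fun a => by rw [map_frK, map_conj_eq]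
  have hKF : KF ≤ FP := by
    refine sup_le ?_ ?_
    · exact (pw_mono hU1P).trans le_sup_left
    · refine Subgroup.commutator_le.2 fun x hx y _ => ?_
      rw [← commutatorElement_inv]
      exact inv_mem (hU1F y x hx)
  have hTwo : Two p (E1.map (QuotientGroup.mk' KF)) := two_map (M := U1)
    (Subgroup.commutator_le.2 fun x hx y hy => comm_mem_fr hx hy)
    (le_sup_right) fun x hx => pow_mem_frK hx
  clear_value z
  set π2 := QuotientGroup.mk' KF
  have hm : ∀ {x : G}, x ∈ E1 → π2 x ∈ E1.map π2 := fun hx => Subgroup.mem_map_of_mem π2 hx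
  have he'p : e ^ p ∈ FP := by
    refine hmeet _ (pow_mem_fr he1) (mem_of_sq D.pgroup D.odd ?_)
    have h := hF.inv (e ^ p) (hU1P (pow_mem_fr he1))
    rwa [map_pow, hefix] at h
  obtain ⟨d', hd', ie, hie⟩ := hE1P z' T.z'X
  have hz'p : z' ^ p ∈ FP := by
    rw [hie]
    have h1 : π2 ((d' * e ^ ie) ^ p) = π2 (d' ^ p * (e ^ ie) ^ p) := by
      rw [map_pow, map_mul, hTwo.mul_pow_eq D.odd (hm hd'.1) (hm (Subgroup.zpow_mem _ he1 ie)), map_mul,
        map_pow, map_pow]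
    have h2 := hKF (QuotientGroup.eq.1 h1)
    have h3 : (e ^ ie) ^ p = (e ^ p) ^ ie := by rw [← zpow_natCast, ← zpow_mul, mul_comm, zpow_mul, zpow_natCast]
    have := mul_mem (mul_mem (pow_mem_fr hd' : d' ^ p ∈ FP) (h3 ▸ Subgroup.zpow_mem _ he'p ie)) (inv_mem h2)
    rwa [mul_inv_rev, inv_inv, mul_inv_cancel_left] at this
  have hcomm1 : ∀ a ∈ E1, ∀ b ∈ E1, ∀ q : G, ⁅⁅a, b⁆, q⁆ ∈ FP := fun a ha b hb q => by
    rw [← commutatorElement_inv]; exact inv_mem (hU1F q _ (comm_mem_fr ha hb))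
  have hz'z : ⁅z', z⁆ ∈ FP := hmeet _ (comm_mem_fr T.z'X hzP.1) (by
    rw [commutatorElement_def]; exact mul_mem (hU2n.conj_mem z hzU2 z') (inv_mem hzU2))
  set A0 := KF ⊔ Subgroup.zpowers ⁅z', z⁆ with hA0
  have hcU : ∀ x ∈ U1, ∀ y ∈ E1, ⁅x, y⁆ ∈ KF := fun x hx y hy => comm_mem_frK hx hy
  let K0 : Subgroup G := Subgroup.closure ((KF : Set G) ∪ {⁅z', z⁆, z' ^ p, z ^ p})
  have hKFK0 : KF ≤ K0 := fun x hx => Subgroup.subset_closure (Or.inl hx)
  have hK0F : K0 ≤ FP := (Subgroup.closure_le _).2 (by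
    rintro x (hx | rfl | rfl | rfl)
    exacts [hKF hx, hz'z, hz'p, pow_mem_fr hzP])
  have hK0U : K0 ≤ U1 := hK0F.trans hFP1
  set E1q := E1.map π2
  have hK0c : ∀ x ∈ K0, ∀ y ∈ E1, Commute (π2 x) (π2 y) := fun x hx y hy => commute_mk' (hcU x (hK0U hx) y hy)
  haveI hK0n : (K0.subgroupOf E1).Normal := ⟨fun x hx y => by
    rw [Subgroup.mem_subgroupOf] at hx ⊢
    rw [Subgroup.coe_mul, Subgroup.coe_mul, Subgroup.coe_inv, conj_eq_comm_mul]
    refine mul_mem (hKFK0 ?_) hx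
    rw [← commutatorElement_inv]; exact inv_mem (hcU x (hK0U hx) y y.2)⟩
  set j' := ⁅z, l⁆
  set jB := ⁅z', l⁆
  have hwb : ∃ b : ℤ, (b : ZMod p) ≠ 0 ∧ π2 (φ ⟨z, hzP.1⟩ : G) ∈ {y | ∃ u ∈ U1, y = π2 (z * z' ^ b * u)} := by
    obtain ⟨b, hb, hbw⟩ := T.φ_z
    have hkz0 : (kz : ZMod p) ≠ 0 := fun h0 => hzU1 (mk'_eq_one.1 (by
      rw [hkz, ← map_zpow]
      exact mk'_eq_one.2 (zpow_mem_of_dvd (pow_mem_fr hwP.1) ((ZMod.intCast_zmod_eq_zero_iff_dvd _ _).1 h0))))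
    refine ⟨b * kz, by push_cast; exact mul_ne_zero hb hkz0, ?_⟩
    set u0 := (w ^ kz)⁻¹ * z
    have hu0 : u0 ∈ U1 := QuotientGroup.eq.1 (show π1 (w ^ kz) = π1 z by rw [map_zpow, hkz])
    set v0 : E1 := ⟨u0, fr_le hu0⟩
    have hφz : (φ ⟨z, hzP.1⟩ : G) = (φ ⟨w, hwP.1⟩ : G) ^ kz * φ v0 := by
      rw [← SubgroupClass.coe_zpow, ← Subgroup.coe_mul, ← map_zpow, ← map_mul]
      congr 2
      exact Subtype.ext (by rw [Subgroup.coe_mul, SubgroupClass.coe_zpow]; simp [v0, u0])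
    refine ⟨(z * z' ^ (b * kz))⁻¹ * (φ ⟨z, hzP.1⟩ : G), ?_, by rw [mul_inv_cancel_left]⟩
    refine mk'_eq_one.1 ?_
    have hφw : π1 (φ ⟨w, hwP.1⟩ : G) = π1 w * π1 z' ^ b := by
      rw [← map_zpow, ← map_mul]; exact (QuotientGroup.eq.2 (hbw _ rfl)).symm
    rw [map_mul, map_inv, hφz, map_mul, map_mul, map_zpow, map_zpow, hφw,
      mk'_eq_one.2 (fr_inv φ T.φ_mem v0 hu0), mul_one, ((hab w hwP.1 z' T.z'X).zpow_right b).mul_zpow,
      ← zpow_mul, hkz, inv_mul_cancel]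
  have hj' : j' ∉ K0 := by
    intro hcon
    obtain ⟨b, hb, u, hu, hφzq⟩ := hwb
    set φz : G := ((φ ⟨z, hzP.1⟩ : E1) : G)
    set φl : G := ((φ ⟨l, hlP.1⟩ : E1) : G)
    obtain ⟨k', hk'⟩ := T.φ_move ⟨z', T.z'X⟩ T.z'X
    have hul : l⁻¹ * φl ∈ U1 := hφl _ rfl
    have hφK : ∀ x : E1, (x : G) ∈ K0 → (φ x : G) ∈ K0 := by
      have hle : K0 ≤ (K0.comap (E1.subtype.comp φ.toMonoidHom)).map E1.subtype := by
        refine (Subgroup.closure_le _).2 ?_
        have hKFφ : ∀ x : E1, (x : G) ∈ KF → (φ x : G) ∈ K0 := fun x hx =>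
          hKFK0 (apply_mem_frK E1 (E1.subtype.comp φ.toMonoidHom) E1 (fun y => (φ y).2) hx)
        have hgo : ∀ (x : E1) (y : G), y ∈ K0 → π2 (φ x : G) = π2 y → (φ x : G) ∈ K0 := fun x y hy h => by
          simpa using mul_mem hy (hKFK0 (QuotientGroup.eq.1 h.symm))
        have hz'φ : π2 (φ ⟨z', T.z'X⟩ : G) ∈ {y | ∃ u ∈ U1, y = π2 (z' ^ (k' + 1) * u)} :=
          ⟨_, hk', by rw [show z' ^ (k' + 1) = z' * z' ^ k' by rw [add_comm, zpow_add, zpow_one], mul_inv_cancel_left]⟩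
        obtain ⟨u', hu', hu'q⟩ := hz'φ
        have hzφ : π2 φz = π2 (z * z' ^ b * u) := hφzq
        have hz'E := T.z'X
        rintro x (hx | rfl | rfl | rfl)
        · exact ⟨⟨x, hU1P.trans inf_le_left (hK0U (hKFK0 hx))⟩, hKFφ _ hx, rfl⟩
        · refine ⟨⁅(⟨z', T.z'X⟩ : E1), (⟨z, hzP.1⟩ : E1)⁆, hgo _ (⁅z', z⁆ ^ (k' + 1)) (Subgroup.zpow_mem _
            (Subgroup.subset_closure (by simp)) _) ?_, rfl⟩
          rw [map_commutatorElement φ, show ((⁅φ ⟨z', T.z'X⟩, φ ⟨z, hzP.1⟩⁆ : E1) : G) =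
            ⁅(φ ⟨z', T.z'X⟩ : G), φz⁆ from rfl, map_commutatorElement, hu'q, hzφ, map_mul, map_mul, map_mul,
            map_zpow, map_zpow, map_zpow, map_commutatorElement]
          have cu : ∀ v ∈ U1, ∀ y ∈ E1, ⁅π2 v, π2 y⁆ = 1 := fun v hv y hy => by
            rw [← map_commutatorElement, mk'_eq_one]; exact hcU v hv y hy
          have cu' : ∀ v ∈ U1, ∀ y ∈ E1, ⁅π2 y, π2 v⁆ = 1 := fun v hv y hy => by
            rw [← commutatorElement_inv, cu v hv y hy, inv_one]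
          rw [hTwo.cl (Subgroup.zpow_mem _ (hm T.z'X) _) (hm (fr_le hu'))
              (mul_mem (mul_mem (hm hzP.1) (Subgroup.zpow_mem _ (hm T.z'X) b)) (hm (fr_le hu))),
            show ⁅π2 u', π2 z * π2 z' ^ b * π2 u⁆ = 1 from by
              rw [← map_zpow, ← map_mul, ← map_mul]; exact cu u' hu' _ (mul_mem (mul_mem hzP.1 (Subgroup.zpow_mem _ T.z'X b)) (fr_le hu)),
            mul_one, hTwo.zl (hm T.z'X) (mul_mem (mul_mem (hm hzP.1) (Subgroup.zpow_mem _ (hm T.z'X) b)) (hm (fr_le hu))),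
            hTwo.cr (hm T.z'X) (mul_mem (hm hzP.1) (Subgroup.zpow_mem _ (hm T.z'X) b)) (hm (fr_le hu)),
            hTwo.cr (hm T.z'X) (hm hzP.1) (Subgroup.zpow_mem _ (hm T.z'X) b), cu' u hu z' T.z'X,
            hTwo.zr (hm T.z'X) (hm T.z'X), commutatorElement_self, one_zpow, mul_one, mul_one]
        · refine ⟨(⟨z', T.z'X⟩ : E1) ^ p, hgo _ ((z' ^ p) ^ (k' + 1)) (Subgroup.zpow_mem _
            (Subgroup.subset_closure (by simp)) _) ?_, rfl⟩
          rw [map_pow φ, SubgroupClass.coe_pow, map_pow, hu'q, map_mul,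
            hTwo.mul_pow_eq D.odd (hm (Subgroup.zpow_mem _ T.z'X _)) (hm (fr_le hu')),
            show π2 u' ^ p = 1 by rw [← map_pow, mk'_eq_one]; exact pow_mem_frK hu', mul_one, map_zpow, map_zpow,
            map_pow, ← zpow_natCast, ← zpow_natCast, ← zpow_mul, ← zpow_mul, mul_comm]
        · refine ⟨(⟨z, hzP.1⟩ : E1) ^ p, hgo _ (z ^ p * (z' ^ p) ^ b) (mul_mem
            (Subgroup.subset_closure (by simp)) (Subgroup.zpow_mem _ (Subgroup.subset_closure (by simp)) _)) ?_, rfl⟩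
          rw [map_pow φ, SubgroupClass.coe_pow, map_pow, hzφ, map_mul, map_mul, map_zpow,
            hTwo.mul_pow_eq D.odd (mul_mem (hm hzP.1) (Subgroup.zpow_mem _ (hm T.z'X) b)) (hm (fr_le hu)),
            hTwo.mul_pow_eq D.odd (hm hzP.1) (Subgroup.zpow_mem _ (hm T.z'X) b),
            show π2 u ^ p = 1 by rw [← map_pow, mk'_eq_one]; exact pow_mem_frK hu, mul_one, map_mul, map_zpow,
            map_pow, map_pow, ← zpow_natCast (π2 z' ^ b), ← zpow_natCast (π2 z'), ← zpow_mul, ← zpow_mul, mul_comm b]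
      intro x hx
      obtain ⟨y, hy, hyx⟩ := hle hx
      obtain rfl : y = x := Subtype.ext hyx
      exact hy
    have h1 : ⁅φz, φl⁆ ∈ K0 := by
      have h := hφK ⁅(⟨z, hzP.1⟩ : E1), (⟨l, hlP.1⟩ : E1)⁆ hcon
      rwa [map_commutatorElement φ] at h
    have h2 : π2 ⁅φz, φl⁆ = π2 j' * π2 jB ^ b := by
      have hul' : π2 φl = π2 l * π2 (l⁻¹ * φl) := by rw [← map_mul, mul_inv_cancel_left]
      have cu : ∀ v ∈ U1, ∀ y ∈ E1, ⁅π2 v, π2 y⁆ = 1 := fun v hv y hy => by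
        rw [← map_commutatorElement, mk'_eq_one]; exact hcU v hv y hy
      have cu' : ∀ v ∈ U1, ∀ y ∈ E1, ⁅π2 y, π2 v⁆ = 1 := fun v hv y hy => by
        rw [← commutatorElement_inv, cu v hv y hy, inv_one]
      rw [map_commutatorElement, hφzq, hul', map_mul, map_mul, map_zpow,
        hTwo.cr (mul_mem (mul_mem (hm hzP.1) (Subgroup.zpow_mem _ (hm T.z'X) b)) (hm (fr_le hu))) (hm hlP.1)
          (hm (fr_le hul)),
        hTwo.cl (mul_mem (hm hzP.1) (Subgroup.zpow_mem _ (hm T.z'X) b)) (hm (fr_le hu)) (hm hlP.1),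
        hTwo.cl (hm hzP.1) (Subgroup.zpow_mem _ (hm T.z'X) b) (hm hlP.1), hTwo.zl (hm T.z'X) (hm hlP.1),
        cu u hu l hlP.1, show ⁅π2 z * π2 z' ^ b * π2 u, π2 (l⁻¹ * φl)⁆ = 1 by
          rw [← map_zpow, ← map_mul, ← map_mul]; exact cu' _ hul _ (mul_mem (mul_mem hzP.1 (Subgroup.zpow_mem _ T.z'X b)) (fr_le hu)),
        mul_one, mul_one, map_commutatorElement, map_commutatorElement]
    have h3 : jB ^ b ∈ K0 := by
      have h4 : ⁅φz, φl⁆⁻¹ * (j' * jB ^ b) ∈ KF := QuotientGroup.eq.1 (by rw [← map_zpow π2, ← map_mul] at h2; exact h2)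
      have h5 := mul_mem (mul_mem (inv_mem hcon) h1) (hKFK0 h4)
      rwa [show j'⁻¹ * ⁅φz, φl⁆ * (⁅φz, φl⁆⁻¹ * (j' * jB ^ b)) = jB ^ b by group] at h5
    have h6 : ⁅z', l⁆ ∈ FP :=
      mem_of_zpow (pow_mem_fr (⟨comm_mem_E hP.h1 z' l, comm_mem_E hP.h2 z' l⟩ : jB ∈ P)) hb (hK0F h3)
    rw [comm_mem_iff] at h6
    refine hjF (comm_mem_iff.2 ((Subgroup.mem_centralizer_singleton_iff.1
      (?_ : π e ∈ Subgroup.centralizer {π l})) : _))
    refine mem_of_zpow (p := p) (i := ie) ?_ (fun h0 => hz'P ?_) ?_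
    · rw [Subgroup.mem_centralizer_singleton_iff, ← map_pow]
      exact (commute_mk' (hU1F l _ (pow_mem_fr he1))).symm.eq
    · rw [hie]
      exact mul_mem hd' (zpow_mem_of_dvd (hU1P (pow_mem_fr he1)) ((ZMod.intCast_zmod_eq_zero_iff_dvd _ _).1 h0))
    · rw [Subgroup.mem_centralizer_singleton_iff]
      rw [hie, map_mul, map_zpow] at h6
      have h7 := ((commute_mk' (comm_mem_fr hd' hlP)).inv_left.mul_left h6)
      rw [inv_mul_cancel_left] at h7
      exact h7.eq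
  -- the section of order `p ^ 4`
  have hjB : jB ∉ FP := by
    intro h
    rw [comm_mem_iff, hie, map_mul, map_zpow] at h
    have h7 := ((commute_mk' (comm_mem_fr hd' hlP)).inv_left.mul_left h)
    rw [inv_mul_cancel_left] at h7
    refine hjF (comm_mem_iff.2 ((Subgroup.mem_centralizer_singleton_iff.1
      (?_ : π e ∈ Subgroup.centralizer {π l})) : _))
    refine mem_of_zpow (p := p) (i := ie) ?_ (fun h0 => hz'P ?_)
      (Subgroup.mem_centralizer_singleton_iff.2 h7.eq)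
    · rw [Subgroup.mem_centralizer_singleton_iff, ← map_pow]
      exact (commute_mk' (hU1F l _ (pow_mem_fr he1))).symm.eq
    · rw [hie]
      exact mul_mem hd' (zpow_mem_of_dvd (hU1P (pow_mem_fr he1)) ((ZMod.intCast_zmod_eq_zero_iff_dvd _ _).1 h0))
  have hj'1 : j' ∈ U1 := comm_mem_fr hzP.1 hlP.1
  have hjB1 : jB ∈ U1 := comm_mem_fr T.z'X hlP.1
  have hj'F : j' ∈ FP := comm_mem_fr hzP hlP
  set q := QuotientGroup.mk' (K0.subgroupOf E1)
  let E' := E1
  have hs : ∀ a ∈ ({⟨j', fr_le hj'1⟩, ⟨jB, fr_le hjB1⟩, ⟨z, hzP.1⟩, ⟨z', T.z'X⟩} : Set E1),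
      (a : G) ∈ U1 ∨ (a : G) = z ∨ (a : G) = z' := by
    rintro a (rfl | rfl | rfl | rfl)
    exacts [Or.inl hj'1, Or.inl hjB1, Or.inr (Or.inl rfl), Or.inr (Or.inr rfl)]
  refine false_of_gen (D.pgroup.to_subgroup E1) (SectRank.sectionalPRankLE_subgroup D.rank E1) (K := K0.subgroupOf E1)
    (s := {⟨j', fr_le hj'1⟩, ⟨jB, fr_le hjB1⟩, ⟨z, hzP.1⟩, ⟨z', T.z'X⟩}) ?_ ?_ ?_
  · intro a ha b hb
    rw [Subgroup.mem_subgroupOf]
    show ⁅(a : G), (b : G)⁆ ∈ K0
    rcases hs a ha with ha' | ha'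
    · exact hKFK0 (hcU _ ha' _ b.2)
    rcases hs b hb with hb' | hb'
    · rw [← commutatorElement_inv]; exact inv_mem (hKFK0 (hcU _ hb' _ a.2))
    have hzz : ⁅z', z⁆ ∈ K0 := Subgroup.subset_closure (by simp)
    rcases ha' with ha' | ha' <;> rcases hb' with hb' | hb' <;> rw [ha', hb']
    exacts [by simp, by rw [← commutatorElement_inv]; exact inv_mem hzz, hzz, by simp]
  · intro a ha
    rw [Subgroup.mem_subgroupOf, SubmonoidClass.coe_pow]
    rcases hs a ha with ha' | ha' | ha'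
    exacts [hKFK0 (pow_mem_frK ha'), by rw [ha']; exact Subgroup.subset_closure (by simp),
      by rw [ha']; exact Subgroup.subset_closure (by simp)]
  · set L0 := K0.subgroupOf E1
    set t : Set E1 := {⟨j', fr_le hj'1⟩, ⟨jB, fr_le hjB1⟩, ⟨z, hzP.1⟩, ⟨z', T.z'X⟩}
    set M1 := L0 ⊔ Subgroup.zpowers (⟨j', fr_le hj'1⟩ : E1)
    set M2 := M1 ⊔ Subgroup.zpowers (⟨jB, fr_le hjB1⟩ : E1)
    set M3 := M2 ⊔ Subgroup.zpowers (⟨z, hzP.1⟩ : E1)
    have hg' : ∀ a ∈ t, Subgroup.zpowers a ≤ L0 ⊔ Subgroup.closure t := fun a ha =>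
      Subgroup.zpowers_le.2 (Subgroup.mem_sup_right (Subgroup.subset_closure ha))
    have hL0F : L0 ≤ FP.subgroupOf E1 := fun a ha => hK0F ha
    have hM1 : M1 ≤ FP.subgroupOf E1 := sup_le hL0F (Subgroup.zpowers_le.2 hj'F)
    have hM2 : M2 ≤ U1.subgroupOf E1 := sup_le (hM1.trans fun a ha => hFP1 ha) (Subgroup.zpowers_le.2 hjB1)
    have hM3 : M3 ≤ P.subgroupOf E1 := sup_le (hM2.trans fun a ha => hU1P ha) (Subgroup.zpowers_le.2 hzP)
    have c1 := card_mul_le' (D.pgroup.to_subgroup E1) (lt_of_le_of_ne (le_sup_left : L0 ≤ M1) fun h =>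
      hj' (h.ge (Subgroup.mem_sup_right (Subgroup.mem_zpowers _))))
    have c2 := card_mul_le' (D.pgroup.to_subgroup E1) (lt_of_le_of_ne (le_sup_left : M1 ≤ M2) fun h =>
      hjB (hM1 (h.ge (Subgroup.mem_sup_right (Subgroup.mem_zpowers _)))))
    have c3 := card_mul_le' (D.pgroup.to_subgroup E1) (lt_of_le_of_ne (le_sup_left : M2 ≤ M3) fun h =>
      hzU1 (hM2 (h.ge (Subgroup.mem_sup_right (Subgroup.mem_zpowers _)))))
    have c4 := card_mul_le' (D.pgroup.to_subgroup E1) (lt_of_le_of_ne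
      (sup_le (sup_le (sup_le le_sup_left (hg' _ (by simp [t]))) (hg' _ (by simp [t]))) (hg' _ (by simp [t])) :
        M3 ≤ L0 ⊔ Subgroup.closure t) fun h => hz'P (hM3 (h.ge (hg' _ (by simp [t] : (⟨z', T.z'X⟩ : E1) ∈ t)
          (Subgroup.mem_zpowers _)))))
    calc Nat.card L0 * p ^ 4 = Nat.card L0 * p * p * p * p := by ring
      _ ≤ _ := (Nat.mul_le_mul_right _ ((Nat.mul_le_mul_right _ ((Nat.mul_le_mul_right _ c1).trans c2)).trans c3)).trans c4

end NormalSys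

end Cfsg.Agent.Lib.RankThreeNormal61
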