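import Mathlib
import Cfsg.Agent.Lib.RankThreeNormal61.FlatFalse

/-!
The intersection of two distinguished subgroups is not kept by the automorphisms of either; the
moved centre of a transvection lies outside it.
-/

set_option autoImplicit false
set_option linter.unusedSectionVars false

namespace Cfsg.Agent.Lib.RankThreeNormal61

open Cfsg Cfsg.Agent.Lib Cfsg.Agent.Lib.RankThreeEss69
open scoped commutatorElement

universe u

variable {G : Type u} [Group G] [Finite G] {p : ℕ} [hp : Fact p.Prime]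

namespace NormalSys

variable {D : NormalSys p G} {E1 E2 : Subgroup G}

theorem bot_inv {E : Subgroup G} : D.Inv E ⊥ := fun a _ x hx => by
  rw [Subgroup.mem_bot, OneMemClass.coe_eq_one] at hx
  rw [hx, map_one, OneMemClass.coe_one]
  exact one_mem _

theorem self_inv {E : Subgroup G} : D.Inv E E := fun a _ x _ => (a x).2

theorem comm_fr {E : Subgroup G} (hE : D.IsEss E) (g : G) {x : G} (hx : x ∈ fr p E) : ⁅g, x⁆ ∈ fr p E := by
  rw [commutatorElement_def]
  exact mul_mem ((fr_normal hE).conj_mem x hx g) (inv_mem hx)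

/-- The intersection is not kept by the automorphisms of `E2`. -/
theorem not_inv_meet (hP : D.Pair E1 E2) : ¬ D.Inv E2 (E1 ⊓ E2) := by
  intro hinv
  haveI := D.normal hP.h1
  haveI := D.normal hP.h2
  set U := fr p E2
  haveI : U.Normal := fr_normal hP.h2
  set P := E1 ⊓ E2 with hPdef
  haveI : P.Normal := by rw [hPdef]; infer_instance
  have hUP : U ≤ P := fr_le_meet hP (Or.inr rfl)
  set C := ⁅P, (⊤ : Subgroup G)⁆ ⊔ U
  haveI : C.Normal := by infer_instance
  have hPg : ∀ g, ∀ x ∈ E2, ⁅g, x⁆ ∈ P := fun g x _ => ⟨comm_mem_E hP.h1 g x, comm_mem_E hP.h2 g x⟩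
  obtain ⟨e, he1, he2⟩ := SetLike.not_le_iff_exists.1 hP.symm.not_le
  have hlt : C < P := by
    refine lt_of_le_of_ne (sup_le (Subgroup.commutator_le_left _ _) hUP) fun h => he2 ?_
    have hPU : P ≤ U := le_of_le_comm_sup D.pgroup h.ge
    exact mem_of_layers hP.h2 (X := U) (U := U) fr_le fr_inv fr_inv (fun x hx => hPU (hPg e x hx))
      (fun x hx _ => comm_fr hP.h2 e hx) fun x hx => comm_fr hP.h2 e hx
  have hPle : Nat.card P ≤ Nat.card U * p ^ 2 := by
    refine Nat.le_of_mul_le_mul_right ?_ hp.out.pos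
    rw [hP.card_meet, show Nat.card U * p ^ 2 * p = Nat.card U * p ^ 3 by ring]
    exact card_le_fr hP.h2
  have hCc : Nat.card C ≤ Nat.card U * p := Nat.le_of_mul_le_mul_right
    ((card_mul_le' D.pgroup hlt).trans (by rw [mul_assoc, ← sq]; exact hPle)) hp.out.pos
  have hquad : ∀ g : G, ∀ x ∈ P, ⁅g, ⁅g, x⁆⁆ ∈ U := by
    intro g x hx
    have h1 : ⁅g, x⁆ ∈ C := by
      rw [← commutatorElement_inv]
      exact inv_mem (Subgroup.mem_sup_left (Subgroup.commutator_mem_commutator hx (Subgroup.mem_top g)))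
    rw [← commutatorElement_inv]
    exact inv_mem (comm_le_of_card_le D.pgroup le_sup_right hCc
      (Subgroup.commutator_mem_commutator h1 (Subgroup.mem_top g)))
  obtain ⟨τ, g, z, z', φ, T⟩ := D.exists_torus_section hP.h2 inf_le_right hUP le_rfl hinv fr_inv bot_inv
    bot_le hPg (fun g x hx => comm_fr hP.h2 g hx) hquad
  exact false_of_flat hP (flat_of_torus hP T le_rfl T.zX T.z'X T.e_mod)

/-- The moved centre of a transvection of `E2` lies outside `E1`. -/
theorem moved_notMem (hP : D.Pair E1 E2) {N : Subgroup G} {τ : MulAut G} {g z z' : G} {φ : MulAut E2}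
    (T : D.Torus E2 E2 (fr p E2) N τ g z z' φ) : z' ∉ E1 := by
  intro h1
  haveI := D.normal hP.h1
  haveI := D.normal hP.h2
  set P := E1 ⊓ E2 with hPdef
  haveI hPn : P.Normal := by rw [hPdef]; infer_instance
  have hz : z ∈ P := by
    obtain ⟨x, -, rfl⟩ := T.z_eq
    exact ⟨comm_mem_E hP.h1 g x, comm_mem_E hP.h2 g x⟩
  have hz' : z' ∈ P := ⟨h1, T.z'X⟩
  refine false_of_flat hP (flat_of_torus hP T inf_le_right hz hz' fun x hx => ?_)
  set π := QuotientGroup.mk' P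
  have hUP : fr p E2 ≤ P := fr_le_meet hP (Or.inr rfl)
  have h2 : ∀ a b : G, a⁻¹ * b ∈ fr p E2 → π a = π b := fun a b h => QuotientGroup.eq.2 (hUP h)
  obtain ⟨i, j, l, -, -, hl, -, hd⟩ := T.dec x hx
  refine QuotientGroup.eq.1 (?_ : π x = π (τ x))
  have hτP : ∀ a ∈ P, τ a ∈ P := fun a ha => ⟨hP.glob1 τ T.glob a ha.1, hP.glob2 τ T.glob a ha.2⟩
  have hx1 : π x = π l := by
    rw [h2 x _ hd, map_mul, map_mul, map_zpow, map_zpow, mk'_eq_one.2 hz, mk'_eq_one.2 hz', one_zpow,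
      one_zpow, one_mul, one_mul]
  have hx2 : π (τ x) = π (τ l) := by
    refine QuotientGroup.eq.2 ?_
    rw [← map_inv, ← map_mul]
    exact hτP _ (QuotientGroup.eq.1 hx1)
  rw [hx1, hx2]
  exact h2 _ _ hl

/-- Elements of the intersection are congruent to fixed elements of the transvection. -/
theorem meet_form (hP : D.Pair E1 E2) {N : Subgroup G} {τ : MulAut G} {g z z' : G} {φ : MulAut E2}
    (T : D.Torus E2 E2 (fr p E2) N τ g z z' φ) {x : G} (hx : x ∈ E1 ⊓ E2) :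
    ∃ (i : ℤ) (l : G), l ∈ E1 ⊓ E2 ∧ ⁅g, l⁆ ∈ fr p E2 ∧ l⁻¹ * τ l ∈ fr p E2 ∧
      (∀ y : E2, (y : G) = l → l⁻¹ * φ y ∈ fr p E2) ∧ x⁻¹ * (z ^ i * l) ∈ fr p E2 := by
  haveI := D.normal hP.h1
  haveI := D.normal hP.h2
  haveI : (fr p E2).Normal := fr_normal hP.h2
  set P := E1 ⊓ E2 with hPdef
  haveI hPn : P.Normal := by rw [hPdef]; infer_instance
  have hUP : fr p E2 ≤ P := fr_le_meet hP (Or.inr rfl)
  have hz : z ∈ P := by
    obtain ⟨x, -, rfl⟩ := T.z_eq
    exact ⟨comm_mem_E hP.h1 g x, comm_mem_E hP.h2 g x⟩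
  set π := QuotientGroup.mk' P
  have h2 : ∀ a b : G, a⁻¹ * b ∈ fr p E2 → π a = π b := fun a b h => QuotientGroup.eq.2 (hUP h)
  have hτP : ∀ a ∈ P, τ a ∈ P := fun a ha => ⟨hP.glob1 τ T.glob a ha.1, hP.glob2 τ T.glob a ha.2⟩
  have hout := moved_notMem hP T
  obtain ⟨i, j, l, hlX, hgl, hl, hφ, hd⟩ := T.dec x hx.2
  have hz'p : z' ^ p ∈ fr p E2 := pow_mem_fr T.z'X
  have hzi : π (τ z') = (π z')⁻¹ := by
    rw [eq_inv_iff_mul_eq_one, ← map_mul, mk'_eq_one]
    simpa [mul_assoc] using hPn.conj_mem _ (hUP T.z'inv) z'⁻¹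
  have e1 : π z' ^ j * π l = 1 := by
    have h5 := h2 x _ hd
    rw [mk'_eq_one.2 hx, map_mul, map_mul, map_zpow, map_zpow, mk'_eq_one.2 hz, one_zpow, one_mul] at h5
    exact h5.symm
  have e2 : (π z' ^ j)⁻¹ * π l = 1 := by
    have h3 : π (τ (z' ^ j * l)) = 1 := by
      refine mk'_eq_one.2 (hτP _ (mk'_eq_one.1 ?_))
      rw [map_mul, map_zpow, e1]
    rwa [map_mul τ, map_zpow τ, map_mul, map_zpow, hzi, inv_zpow, ← h2 _ _ hl] at h3
  have hsq : z' ^ j * z' ^ j ∈ P := by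
    rw [← mk'_eq_one, map_mul, map_zpow]
    calc π z' ^ j * π z' ^ j = π z' ^ j * (π z' ^ j * ((π z' ^ j)⁻¹ * π l)) := by rw [e2, mul_one]
      _ = π z' ^ j * π l := by rw [mul_inv_cancel_left]
      _ = 1 := e1
  have hj : z' ^ j ∈ fr p E2 := zpow_mem_of_dvd hz'p
    (mem_of_zpow_pow (hUP hz'p) (mem_of_sq D.pgroup D.odd hsq) fun h => hout h.1)
  have hlP : l ∈ P := by
    rw [← mk'_eq_one]
    rwa [← map_zpow, mk'_eq_one.2 (hUP hj), one_mul] at e1
  refine ⟨i, l, hlP, hgl, hl, hφ, ?_⟩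
  rw [← mk'_eq_one, map_mul, map_inv, map_mul]
  have h4 := mk'_eq_one.2 hd
  rwa [map_mul, map_inv, map_mul, map_mul, mk'_eq_one.2 hj, mul_one] at h4

end NormalSys

end Cfsg.Agent.Lib.RankThreeNormal61
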