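import Mathlib
import Cfsg.Agent.Lib.Classical.Symplectic

/-!
A Sylow subgroup of `Sp₄(p)`, `p` odd, as the group of order `p ^ 4` generated by an elementary
abelian group of order `p ^ 3` and an element acting on it as one Jordan block.
-/

set_option autoImplicit false

namespace Cfsg.Agent.Lib.RankThreeNormal61

variable {p : ℕ} [hp : Fact p.Prime]

/-- `x` to an exponent read modulo `p`. -/
def pz {G : Type*} [Group G] (x : G) (a : ZMod p) : G := x ^ a.val

section Pow

variable {G : Type*} [Group G] {x : G} (hx : x ^ p = 1)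
include hx

theorem pz_natCast (k : ℕ) : pz x (k : ZMod p) = x ^ k := by
  rw [pz, ZMod.val_natCast, ← pow_eq_pow_mod k hx]

theorem pz_add (a b : ZMod p) : pz x (a + b) = pz x a * pz x b := by
  obtain ⟨i, rfl⟩ := ZMod.natCast_zmod_surjective a
  obtain ⟨j, rfl⟩ := ZMod.natCast_zmod_surjective b
  rw [← Nat.cast_add, pz_natCast hx, pz_natCast hx, pz_natCast hx, pow_add]

theorem pz_pow (a : ZMod p) (k : ℕ) : pz x a ^ k = pz x (a * (k : ZMod p)) := by
  obtain ⟨i, rfl⟩ := ZMod.natCast_zmod_surjective a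
  rw [← Nat.cast_mul, pz_natCast hx, pz_natCast hx, pow_mul]

theorem pz_neg (a : ZMod p) : pz x (-a) = (pz x a)⁻¹ :=
  eq_inv_of_mul_eq_one_left (by rw [← pz_add hx, neg_add_cancel, pz, ZMod.val_zero, pow_zero])

theorem pz_one' : pz x (1 : ZMod p) = x := by
  rw [← Nat.cast_one, pz_natCast hx, pow_one]

end Pow

theorem pz_zero {G : Type*} [Group G] (x : G) : pz x (0 : ZMod p) = 1 := by
  rw [pz, ZMod.val_zero, pow_zero]

theorem pz_commute {G : Type*} [Group G] {x y : G} (h : Commute x y) (a b : ZMod p) :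
    Commute (pz x a) (pz y b) := h.pow_pow _ _

theorem pz_commute' {G : Type*} [Group G] {x y : G} (h : Commute x y) (a : ZMod p) :
    Commute x (pz y a) := h.pow_right _

/-- The multiplication of normal forms `e ^ a * v ^ b * u ^ c * z ^ d`. -/
def blockLaw (x y : ZMod p × ZMod p × ZMod p × ZMod p) : ZMod p × ZMod p × ZMod p × ZMod p :=
  (x.1 + y.1, x.2.1 + y.2.1, x.2.2.1 - y.1 * x.2.1 + y.2.2.1,
    x.2.2.2 - y.1 * x.2.2.1 + x.2.1 * (y.1 * (y.1 + 1) * (2 : ZMod p)⁻¹) + y.2.2.2)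

/-- The defining relations of the group. -/
structure BlockRel (p : ℕ) {G : Type*} [Group G] (e v u z : G) : Prop where
  ep : e ^ p = 1
  vp : v ^ p = 1
  up : u ^ p = 1
  zp : z ^ p = 1
  vu : Commute v u
  vz : Commute v z
  uz : Commute u z
  ez : Commute e z
  ev : e * v * e⁻¹ = v * u
  eu : e * u * e⁻¹ = u * z
  gen : Subgroup.closure ({e, v, u, z} : Set G) = ⊤

/-- The normal form. -/
def blockForm {G : Type*} [Group G] (e v u z : G) (x : ZMod p × ZMod p × ZMod p × ZMod p) : G :=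
  pz e x.1 * (pz v x.2.1 * pz u x.2.2.1 * pz z x.2.2.2)

section Rel

variable {G : Type*} [Group G] {e v u z : G} (h : BlockRel p e v u z)
include h

theorem BlockRel.conj_pow (hp2 : p ≠ 2) (k : ℕ) :
    e ^ k * v * (e ^ k)⁻¹ =
        v * pz u (k : ZMod p) * pz z ((k : ZMod p) * ((k : ZMod p) - 1) * (2 : ZMod p)⁻¹) ∧
      e ^ k * u * (e ^ k)⁻¹ = u * pz z (k : ZMod p) ∧
      e ^ k * z * (e ^ k)⁻¹ = z := by
  induction k with
  | zero => simp [pz_zero]
  | succ k ih =>
    obtain ⟨ihv, ihu, ihz⟩ := ih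
    have hc : ∀ g : G, e ^ (k + 1) * g * (e ^ (k + 1))⁻¹ = e * (e ^ k * g * (e ^ k)⁻¹) * e⁻¹ :=
      fun g => by rw [pow_succ']; group
    have hz : ∀ t : ZMod p, e * pz z t * e⁻¹ = pz z t := fun t => by
      rw [pz, (h.ez.pow_right _).eq, mul_inv_cancel_right]
    have hu : ∀ t : ZMod p, e * pz u t * e⁻¹ = pz u t * pz z t := fun t => by
      rw [pz, ← _root_.conj_pow, h.eu, h.uz.mul_pow]; rfl
    refine ⟨?_, ?_, ?_⟩
    · rw [hc, ihv, show ∀ t w : G, e * (v * t * w) * e⁻¹ = (e * v * e⁻¹) * (e * t * e⁻¹) * (e * w * e⁻¹)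
        from fun t w => by group, h.ev, hu, hz, Nat.cast_succ]
      have h2 : (2 : ZMod p) ≠ 0 := by
        intro h0
        have : (p : ℕ) ∣ 2 := by rw [← ZMod.natCast_eq_zero_iff]; exact_mod_cast h0
        exact hp2 ((Nat.prime_dvd_prime_iff_eq hp.out Nat.prime_two).1 this)
      rw [show ((k : ZMod p) + 1) * ((k : ZMod p) + 1 - 1) * (2 : ZMod p)⁻¹ =
        (k : ZMod p) + (k : ZMod p) * ((k : ZMod p) - 1) * (2 : ZMod p)⁻¹ by field_simp; ring,
        pz_add h.up, pz_add h.zp, pz_one' h.up]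
      simp only [mul_assoc]
      rw [(pz_commute' (Commute.refl u) (k : ZMod p)).left_comm]
    · rw [hc, ihu, show ∀ t : G, e * (u * t) * e⁻¹ = (e * u * e⁻¹) * (e * t * e⁻¹) from fun t => by group,
        h.eu, hz, Nat.cast_succ, pz_add h.zp, pz_one' h.zp, mul_assoc,
        (pz_commute' (Commute.refl z) (k : ZMod p)).eq]
    · rw [hc, ihz, h.ez.eq, mul_inv_cancel_right]

theorem BlockRel.abel_mul (b c d b' c' d' : ZMod p) :
    pz v b * pz u c * pz z d * (pz v b' * pz u c' * pz z d') =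
      pz v (b + b') * pz u (c + c') * pz z (d + d') := by
  rw [pz_add h.vp, pz_add h.up, pz_add h.zp]
  simp only [mul_assoc]
  rw [(pz_commute h.vz.symm d b').left_comm, (pz_commute h.vu.symm c b').left_comm,
    (pz_commute h.uz.symm d c').left_comm]

theorem BlockRel.form_mul (hp2 : p ≠ 2) (x y : ZMod p × ZMod p × ZMod p × ZMod p) :
    blockForm e v u z x * blockForm e v u z y = blockForm e v u z (blockLaw x y) := by
  obtain ⟨a, b, c, d⟩ := x
  obtain ⟨a', b', c', d'⟩ := y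
  simp only [blockForm, blockLaw]
  obtain ⟨k, hk⟩ := ZMod.natCast_zmod_surjective (-a')
  obtain ⟨hv, hu, hz⟩ := h.conj_pow hp2 k
  rw [hk] at hv hu
  rw [show -a' * (-a' - 1) * (2 : ZMod p)⁻¹ = a' * (a' + 1) * (2 : ZMod p)⁻¹ by ring] at hv
  set w := a' * (a' + 1) * (2 : ZMod p)⁻¹
  have he : pz e a' = (e ^ k)⁻¹ := by rw [← pz_natCast h.ep, hk, pz_neg h.ep, inv_inv]
  have hmain : e ^ k * (pz v b * pz u c * pz z d) * (e ^ k)⁻¹ =
      pz v b * pz u (-a' * b + c) * pz z (b * w + -a' * c + d) := by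
    rw [show ∀ r s t : G, e ^ k * (r * s * t) * (e ^ k)⁻¹ =
      (e ^ k * r * (e ^ k)⁻¹) * (e ^ k * s * (e ^ k)⁻¹) * (e ^ k * t * (e ^ k)⁻¹) from fun r s t => by group]
    simp only [pz, ← _root_.conj_pow]
    rw [hv, hu, hz]
    change (v * pz u (-a') * pz z w) ^ b.val * (u * pz z (-a')) ^ c.val * pz z d = _
    have hb : ((b.val : ℕ) : ZMod p) = b := ZMod.natCast_zmod_val b
    have hc : ((c.val : ℕ) : ZMod p) = c := ZMod.natCast_zmod_val c
    rw [((pz_commute' h.vz w).mul_left (pz_commute h.uz (-a') w)).mul_pow,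
      (pz_commute' h.vu (-a')).mul_pow,
      (pz_commute' h.uz (-a')).mul_pow, pz_pow h.up, pz_pow h.zp, pz_pow h.zp, hb, hc,
      show w * b = b * w from mul_comm _ _]
    change pz v b * pz u (-a' * b) * pz z (b * w) * (pz u c * pz z (-a' * c)) * pz z d =
      pz v b * pz u (-a' * b + c) * pz z (b * w + -a' * c + d)
    rw [pz_add h.up, pz_add h.zp, pz_add h.zp]
    simp only [mul_assoc]
    rw [(pz_commute h.uz.symm (b * w) c).left_comm]
  calc pz e a * (pz v b * pz u c * pz z d) * (pz e a' * (pz v b' * pz u c' * pz z d'))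
      = pz e a * pz e a' * ((pz e a')⁻¹ * (pz v b * pz u c * pz z d) * pz e a') *
          (pz v b' * pz u c' * pz z d') := by group
    _ = _ := by
      conv_lhs => rw [show (pz e a')⁻¹ * (pz v b * pz u c * pz z d) * pz e a' =
        pz v b * pz u (-a' * b + c) * pz z (b * w + -a' * c + d) by rw [he, inv_inv, hmain]]
      rw [← pz_add h.ep, show c - a' * b + c' = (-a' * b + c) + c' by ring,
        show d - a' * c + b * w + d' = (b * w + -a' * c + d) + d' by ring]
      rw [mul_assoc, h.abel_mul]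

theorem BlockRel.form_surjective (hp2 : p ≠ 2) :
    Function.Surjective (blockForm (p := p) e v u z) := by
  let H : Subgroup G :=
    { carrier := Set.range (blockForm (p := p) e v u z)
      one_mem' := ⟨(0, 0, 0, 0), by simp [blockForm, pz_zero]⟩
      mul_mem' := by rintro _ _ ⟨x, rfl⟩ ⟨y, rfl⟩; exact ⟨_, (h.form_mul hp2 x y).symm⟩
      inv_mem' := by
        rintro _ ⟨⟨a, b, c, d⟩, rfl⟩
        have hm : ∀ g₁ g₂ : G, g₁ ∈ Set.range (blockForm (p := p) e v u z) →
            g₂ ∈ Set.range (blockForm (p := p) e v u z) → g₁ * g₂ ∈ Set.range (blockForm (p := p) e v u z) := by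
          rintro _ _ ⟨x, rfl⟩ ⟨y, rfl⟩; exact ⟨_, (h.form_mul hp2 x y).symm⟩
        simp only [blockForm, mul_inv_rev, ← pz_neg h.zp, ← pz_neg h.up, ← pz_neg h.vp, ← pz_neg h.ep]
        exact hm _ _ (hm _ _ ⟨(0, 0, 0, -d), by simp [blockForm, pz_zero]⟩
          (hm _ _ ⟨(0, 0, -c, 0), by simp [blockForm, pz_zero]⟩ ⟨(0, -b, 0, 0), by simp [blockForm, pz_zero]⟩))
          ⟨(-a, 0, 0, 0), by simp [blockForm, pz_zero]⟩ }
  have hH : H = ⊤ := by
    rw [eq_top_iff, ← h.gen, Subgroup.closure_le]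
    rintro g (rfl | rfl | rfl | rfl)
    exacts [⟨(1, 0, 0, 0), by simp [blockForm, pz_zero, pz_one' h.ep]⟩,
      ⟨(0, 1, 0, 0), by simp [blockForm, pz_zero, pz_one' h.vp]⟩,
      ⟨(0, 0, 1, 0), by simp [blockForm, pz_zero, pz_one' h.up]⟩,
      ⟨(0, 0, 0, 1), by simp [blockForm, pz_zero, pz_one' h.zp]⟩]
  exact fun g => (hH ▸ Subgroup.mem_top g : g ∈ H)

end Rel

section Symplectic

open scoped Matrix

local notation "M2" => Matrix (Fin 2) (Fin 2) (ZMod p)

/-- The normal form in `Sp₄(p)`. -/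
def spBlockMat (x : ZMod p × ZMod p × ZMod p × ZMod p) :
    Matrix (Fin 2 ⊕ Fin 2) (Fin 2 ⊕ Fin 2) (ZMod p) :=
  Matrix.fromBlocks (!![1, x.1; 0, 1] : M2)
    ((!![1, x.1; 0, 1] : M2) * !![x.2.2.1 + 2 * x.2.2.2, x.2.2.1; x.2.2.1, x.2.1]) 0
    (!![1, 0; -x.1, 1] : M2)

theorem spBlockMat_mem (x : ZMod p × ZMod p × ZMod p × ZMod p) :
    spBlockMat x ∈ Matrix.symplecticGroup (Fin 2) (ZMod p) := by
  rw [SymplecticGroup.mem_iff, spBlockMat, Matrix.J, Matrix.fromBlocks_transpose,
    Matrix.fromBlocks_multiply, Matrix.fromBlocks_multiply]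
  congr 1 <;>
    · ext i j
      fin_cases i <;> fin_cases j <;>
        simp [Matrix.mul_apply, Fin.sum_univ_two, Matrix.vecMul, dotProduct] <;> ring

theorem spBlockMat_mul (hp2 : p ≠ 2) (x y : ZMod p × ZMod p × ZMod p × ZMod p) :
    spBlockMat x * spBlockMat y = spBlockMat (blockLaw x y) := by
  have h2 : (2 : ZMod p) ≠ 0 := by
    intro h0
    have : (p : ℕ) ∣ 2 := by rw [← ZMod.natCast_eq_zero_iff]; exact_mod_cast h0
    exact hp2 ((Nat.prime_dvd_prime_iff_eq hp.out Nat.prime_two).1 this)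
  rw [spBlockMat, spBlockMat, spBlockMat, Matrix.fromBlocks_multiply, blockLaw]
  congr 1 <;>
    · ext i j
      fin_cases i <;> fin_cases j <;> simp [Matrix.mul_apply, Fin.sum_univ_two, Matrix.vecMul, dotProduct] <;>
        (try field_simp) <;> ring

theorem spBlockMat_injective (hp2 : p ≠ 2) : Function.Injective (spBlockMat (p := p)) := by
  have h2 : (2 : ZMod p) ≠ 0 := by
    intro h0
    have : (p : ℕ) ∣ 2 := by rw [← ZMod.natCast_eq_zero_iff]; exact_mod_cast h0
    exact hp2 ((Nat.prime_dvd_prime_iff_eq hp.out Nat.prime_two).1 this)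
  rintro ⟨a, b, c, d⟩ ⟨a', b', c', d'⟩ h
  rw [spBlockMat, spBlockMat, Matrix.fromBlocks_inj] at h
  obtain ⟨hA, hB, -, -⟩ := h
  have ha : a = a' := by simpa using congrFun (congrFun hA 0) 1
  subst ha
  have h11 : b = b' := by simpa [Matrix.mul_apply, Fin.sum_univ_two] using congrFun (congrFun hB 1) 1
  have h10 : c = c' := by simpa [Matrix.mul_apply, Fin.sum_univ_two] using congrFun (congrFun hB 1) 0
  subst h11; subst h10
  have h00 : (2 : ZMod p) * d = 2 * d' := by
    simpa [Matrix.mul_apply, Fin.sum_univ_two] using congrFun (congrFun hB 0) 0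
  rw [mul_left_cancel₀ h2 h00]

theorem factorization_card_spFour :
    (Nat.card (Matrix.symplecticGroup (Fin 2) (ZMod p))).factorization p = 4 := by
  rw [Classical.natCard_symplecticGroup, Nat.card_zmod, Finset.prod_range_succ, Finset.prod_range_one]
  have h2 : ∀ n, n ≠ 0 → ¬ p ∣ p ^ n - 1 := fun n hn hd => by
    have h1 : p ∣ p ^ n := dvd_pow_self p hn
    have : p ∣ 1 := by
      have := Nat.dvd_sub h1 hd
      rwa [Nat.sub_sub_self (Nat.one_le_pow _ _ hp.out.pos)] at this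
    exact hp.out.ne_one (Nat.dvd_one.1 this)
  have hpos : ∀ n, n ≠ 0 → p ^ n - 1 ≠ 0 := fun n hn =>
    Nat.sub_ne_zero_of_lt (Nat.one_lt_pow hn hp.out.one_lt)
  rw [Nat.factorization_mul (pow_ne_zero _ hp.out.ne_zero) (mul_ne_zero (hpos _ (by norm_num)) (hpos _ (by norm_num))),
    Nat.factorization_mul (hpos _ (by norm_num)) (hpos _ (by norm_num))]
  simp [Nat.factorization_eq_zero_of_not_dvd (h2 _ (show 2 * (0 + 1) ≠ 0 by norm_num)),
    Nat.factorization_eq_zero_of_not_dvd (h2 _ (show 2 * (1 + 1) ≠ 0 by norm_num)),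
    Nat.factorization_pow, hp.out.factorization]

/-- A group with the relations and order `p ^ 4` is a Sylow subgroup of `Sp₄(p)`. -/
theorem exists_sylow_iso {G : Type*} [Group G] [Finite G] (hp2 : p ≠ 2) {e v u z : G}
    (h : BlockRel p e v u z) (hc : Nat.card G = p ^ 4) :
    ∃ P : Sylow p (Matrix.symplecticGroup (Fin 2) (ZMod p)),
      Nonempty (G ≃* (P : Subgroup (Matrix.symplecticGroup (Fin 2) (ZMod p)))) := by
  set f := blockForm (p := p) e v u z
  have hf : Function.Bijective f := (Nat.bijective_iff_surjective_and_card _).2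
    ⟨h.form_surjective hp2, by rw [hc]; simp only [Nat.card_prod, Nat.card_zmod]; ring⟩
  let E := Equiv.ofBijective f hf
  let φ : G →* Matrix.symplecticGroup (Fin 2) (ZMod p) := MonoidHom.mk'
    (fun g => ⟨spBlockMat (E.symm g), spBlockMat_mem _⟩) fun g g' => by
      obtain ⟨x, rfl⟩ := E.surjective g
      obtain ⟨y, rfl⟩ := E.surjective g'
      refine Subtype.ext ?_
      have hxy : E x * E y = E (blockLaw x y) := h.form_mul hp2 x y
      show spBlockMat (E.symm (E x * E y)) = spBlockMat (E.symm (E x)) * spBlockMat (E.symm (E y))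
      rw [hxy, E.symm_apply_apply, E.symm_apply_apply, E.symm_apply_apply, spBlockMat_mul hp2]
  have hφ : Function.Injective φ := fun g g' hgg =>
    E.symm.injective (spBlockMat_injective hp2 (congrArg Subtype.val hgg))
  refine ⟨Sylow.ofCard φ.range ?_, ⟨MonoidHom.ofInjective hφ⟩⟩
  rw [factorization_card_spFour, ← hc]
  exact (Nat.card_congr (MonoidHom.ofInjective hφ).toEquiv).symm

end Symplectic

end Cfsg.Agent.Lib.RankThreeNormal61
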