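import Mathlib
import Cfsg.Agent.Lib.RankThreeNormal61.Sys
import Cfsg.Agent.Lib.RankThreePearl69.Common
import Cfsg.Agent.Lib.RankThreePearl69.Final

/-!
A saturated fusion system of rank three all of whose essential subgroups are normal gives the
abstract data.
-/

set_option autoImplicit false
set_option linter.unusedSectionVars false

namespace Cfsg.Agent.Lib.RankThreeNormal61

open Cfsg Cfsg.FusionSystem Cfsg.Agent.Lib Cfsg.Agent.Lib.Fusion Cfsg.Agent.Lib.Fusion87
  Cfsg.Agent.Lib.FusionOrderFive Cfsg.Agent.Lib.RankThreeEss69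
open scoped commutatorElement

universe u

variable {Ω : Type u} [Group Ω] {S : Subgroup Ω}

/-- A subgroup of `S` and its image in the ambient group. -/
noncomputable def liftEquiv (E : Subgroup S) : E ≃* (E.map S.subtype) :=
  Subgroup.equivMapOfInjective E S.subtype S.subtype_injective

theorem liftEquiv_apply (E : Subgroup S) (x : E) : (liftEquiv E x : Ω) = ((x : S) : Ω) := rfl

theorem liftEquiv_symm_apply (E : Subgroup S) (y : E.map S.subtype) :
    (((liftEquiv E).symm y : S) : Ω) = (y : Ω) := by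
  rw [← liftEquiv_apply, MulEquiv.apply_symm_apply]

/-- The automorphisms of the system, on a subgroup of `S`. -/
noncomputable def liftAut (F : FusionSystem S) (E : Subgroup S) : Subgroup (MulAut E) :=
  (F.autGroup (E.map S.subtype)).comap (MulAut.congr (liftEquiv E)).toMonoidHom

theorem congr_apply (E : Subgroup S) (α : MulAut E) (x : E) :
    MulAut.congr (liftEquiv E) α (liftEquiv E x) = liftEquiv E (α x) := by
  show liftEquiv E (α ((liftEquiv E).symm (liftEquiv E x))) = _
  rw [MulEquiv.symm_apply_apply]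

theorem congr_formula (E : Subgroup S) (α : MulAut E) (y : E.map S.subtype) :
    (MulAut.congr (liftEquiv E) α y : Ω) = ((α ((liftEquiv E).symm y) : S) : Ω) := rfl

theorem exists_congr (E : Subgroup S) (a : MulAut (E.map S.subtype)) :
    ∃ α : MulAut E, MulAut.congr (liftEquiv E) α = a :=
  ⟨(MulAut.congr (liftEquiv E)).symm a, MulEquiv.apply_symm_apply _ a⟩

variable [Finite S] {F : FusionSystem S} {p : ℕ} [hp : Fact p.Prime]

theorem map_frattini (hS : IsPGroup p S) (E : Subgroup S) :
    (frattini E).map (liftEquiv E).toMonoidHom = frattini (E.map S.subtype) := by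
  haveI : Finite (E.map S.subtype) := Finite.of_equiv _ (liftEquiv E).toEquiv
  rw [← fr_top_eq_frattini (p := p) (hS.to_subgroup E), map_fr,
    Subgroup.map_top_of_surjective _ (liftEquiv E).surjective,
    fr_top_eq_frattini (hS.to_le (Subgroup.map_subtype_le E))]

variable (hS : IsPGroup p S) (hF : F.IsSaturated p) (hp2 : p ≠ 2)
  (hsr : Cfsg.SectionalPRankLE p 3 S)
include hS hF

theorem exists_extend_top {E : Subgroup Ω} (hE : F.IsEssential p E) (hN : normalizerIn S E = S) {β : MulAut E}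
    (hβ : β ∈ F.autGroup E) (h : ∀ a ∈ autInducedBy S E, β * a * β⁻¹ ∈ autInducedBy S E) :
    ∃ γ ∈ F.autGroup S, ∀ x : E, ∀ hx : (x : Ω) ∈ S, (γ ⟨x, hx⟩ : Ω) = β x := by
  have := exists_extend hS hF hE.2.1 hβ h
  rw [hN] at this
  exact this

include hp2 hsr

/-- The data of a family of normal essential subgroups kept by the automorphisms of `S`. -/
theorem exists_normalSys_of (hr' : (∀ a b c : S, ⁅⁅a, b⁆, c⁆ = 1) → Cfsg.SectionalPRankLE p 2 S → False)
    (Q : Subgroup Ω → Prop) (hQ : ∀ E, Q E → F.IsEssential p E ∧ normalizerIn S E = S)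
    (hQimg : ∀ E : Subgroup S, Q (E.map S.subtype) → ∀ σ ∈ F.autGroup S,
      Q ((E.map σ.toMonoidHom).map S.subtype)) :
    ∃ D : NormalSys p S, (∀ E, D.IsEss E ↔ Q (E.map S.subtype)) ∧ D.glob = F.autGroup S ∧
      D.aut = liftAut F := by
  classical
  have hsub : ∀ E : Subgroup S, (E.map S.subtype).subgroupOf S = E := fun E =>
    Subgroup.comap_map_eq_self_of_injective S.subtype_injective E
  have hnormal : ∀ E : Subgroup S, Q (E.map S.subtype) → E.Normal := fun E hE => by
    have := RankThreePearl69.normal_sub (hQ _ hE).2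
    rwa [hsub] at this
  have hnz : ∀ (E : Subgroup S), Q (E.map S.subtype) → ∀ g : S,
      (g : Ω) ∈ Subgroup.normalizer ((E.map S.subtype : Subgroup Ω) : Set Ω) := fun E hE g =>
    RankThreePearl69.conj_mem_normalizer (hQ _ hE).2 g
  have hconjA : ∀ (E : Subgroup S) (g : S) (α : MulAut E), (∀ x : E, (α x : S) = g * x * g⁻¹) →
      MulAut.congr (liftEquiv E) α ∈ autInducedBy S (E.map S.subtype) := by
    intro E g α h
    refine mem_autInducedBy.2 ⟨g, g.2, fun y => ?_⟩
    rw [congr_formula, h, Subgroup.coe_mul, Subgroup.coe_mul, Subgroup.coe_inv, liftEquiv_symm_apply]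
  have hind : ∀ (E : Subgroup S) (α : MulAut E),
      MulAut.congr (liftEquiv E) α ∈ autInducedBy S (E.map S.subtype) →
        ∃ g : S, ∀ x : E, (α x : S) = g * x * g⁻¹ := by
    intro E α h
    obtain ⟨g, hg, hgx⟩ := mem_autInducedBy.1 h
    refine ⟨⟨g, hg⟩, fun x => Subtype.ext ?_⟩
    have h2 := hgx (liftEquiv E x)
    rw [congr_apply, liftEquiv_apply, liftEquiv_apply] at h2
    exact h2
  refine ⟨{
    IsEss := fun E => Q (E.map S.subtype)
    aut := liftAut F
    glob := F.autGroup S
    pgroup := hS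
    odd := hp2
    rank := hsr
    rank' := hr'
    inn := fun g => inn_le_autGroup le_rfl ⟨g, rfl⟩
    normal := fun {E} hE => hnormal E hE
    index := ?_
    centric := ?_
    conj_mem := ?_
    radical := ?_
    noInv := ?_
    sylowConj := ?_
    frattiniArg := ?_
    extend := ?_
    restrict := ?_
    image := ?_
    shear := fun κ hκ w hw d hd hdp h => RankThreePearl69.eq_one_of_shear hS hF hκ hw hd hdp h },
    fun _ => Iff.rfl, rfl, rfl⟩
  · intro E hE
    have hQE := hE
    obtain ⟨hE, hN⟩ := hQ _ hE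
    have hc := card_normalizer_of hS hF hE hp2 (RankThreePearl69.index_frattini_cases hS hF hsr hE)
    rw [hN, Subgroup.card_map_of_injective S.subtype_injective, ← E.card_mul_index] at hc
    exact Nat.eq_of_mul_eq_mul_left Nat.card_pos hc
  · intro E hE g hg
    have hQE := hE
    obtain ⟨hE, hN⟩ := hQ _ hE
    refine (Subgroup.mem_map_iff_mem S.subtype_injective).1 (centralizerIn_le_of_isCentric hE.1
      ⟨g.2, Subgroup.mem_centralizer_iff.2 ?_⟩)
    rintro _ ⟨x, hx, rfl⟩
    exact congrArg Subtype.val (hg x hx).eq.symm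
  · intro E hE g α h
    have hQE := hE
    obtain ⟨hE, hN⟩ := hQ _ hE
    exact autInducedBy_le_autGroup hE.1.1 (hconjA E g α h)
  · intro E hE K hK hconj hKp g α hα hαx
    have hQE := hE
    obtain ⟨hE, hN⟩ := hQ _ hE
    have hle : K.map (MulAut.congr (liftEquiv E)).toMonoidHom ≤ Inn (E.map S.subtype) := by
      refine AbelianMaximal.le_inn_of_isEssential hS hE (by rintro _ ⟨k, hk, rfl⟩; exact hK hk) ?_
        (hKp.map _)
      rintro β hβ _ ⟨k, hk, rfl⟩
      obtain ⟨b, rfl⟩ := exists_congr E β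
      exact ⟨b * k * b⁻¹, hconj b hβ k hk, by
        show MulAut.congr (liftEquiv E) (b * k * b⁻¹) = _
        rw [map_mul, map_mul, map_inv]; rfl⟩
    have h1 := hle (Subgroup.mem_map_of_mem _ hα)
    have heq : MulAut.congr (liftEquiv E) α = conjAut (E.map S.subtype) (g : Ω) (hnz E hQE g) :=
      MulEquiv.ext fun y => Subtype.ext (by
        rw [congr_formula, hαx, Subgroup.coe_mul, Subgroup.coe_mul, Subgroup.coe_inv, liftEquiv_symm_apply,
          conjAut_apply])
    rw [MulEquiv.coe_toMonoidHom, heq] at h1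
    exact (Subgroup.mem_map_iff_mem S.subtype_injective).1 (mem_of_conjAut_mem_inn hE.1 g.2 h1)
  · intro E hE W hW hΦ hi hr hinv
    have hQE := hE
    obtain ⟨hE, hN⟩ := hQ _ hE
    haveI : (W.map (liftEquiv E).toMonoidHom).Normal := hW.map _ (liftEquiv E).surjective
    refine RankTwoAut.false_of_invariant hS hF hE (W := W.map (liftEquiv E).toMonoidHom) ?_ ?_ ?_ ?_
    · rw [← map_frattini hS E]; exact Subgroup.map_mono hΦ
    · rw [Subgroup.index_map_eq W (liftEquiv E).surjective (fun x hx => by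
        rw [(MonoidHom.ker_eq_bot_iff _).2 (liftEquiv E).injective, Subgroup.mem_bot] at hx
        rw [hx]; exact one_mem _)]
      exact hi
    · rw [← map_frattini hS E, Subgroup.relIndex_map_map_of_injective _ _ (liftEquiv E).injective]
      exact hr
    · rintro a ha _ ⟨w, hw, rfl⟩
      obtain ⟨b, rfl⟩ := exists_congr E a
      exact ⟨b w, hinv b ha w hw, (congr_apply E b w).symm⟩
  · intro E hE T hT hTp
    have hQE := hE
    obtain ⟨hE, hN⟩ := hQ _ hE
    set Ω' := E.map S.subtype
    haveI := finite_autGroup (F := F) hE.1.1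
    obtain ⟨-, R, hR⟩ := isFullyAutomized_of_isFullyNormalized hS hF hE.2.1
    have hTle : T.map (MulAut.congr (liftEquiv E)).toMonoidHom ≤ F.autGroup Ω' := by
      rintro _ ⟨t, ht, rfl⟩; exact hT ht
    have hTp' : IsPGroup p ((T.map (MulAut.congr (liftEquiv E)).toMonoidHom).subgroupOf (F.autGroup Ω')) :=
      (hTp.map _).of_equiv (Subgroup.subgroupOfEquivOfLe hTle).symm
    obtain ⟨Q, hQ⟩ := hTp'.exists_le_sylow
    obtain ⟨c, hc⟩ := MulAction.exists_smul_eq (F.autGroup Ω') Q R
    obtain ⟨β, hβ⟩ := exists_congr E (c : MulAut Ω')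
    refine ⟨β, show MulAut.congr (liftEquiv E) β ∈ F.autGroup Ω' by rw [hβ]; exact c.2, fun t ht => ?_⟩
    refine hind E _ ?_
    have h1 : (⟨_, hTle (Subgroup.mem_map_of_mem _ ht)⟩ : F.autGroup Ω') ∈ Q :=
      hQ (Subgroup.mem_map_of_mem _ ht)
    have h2 : c * ⟨_, hTle (Subgroup.mem_map_of_mem _ ht)⟩ * c⁻¹ ∈ R := by
      rw [← hc]
      exact ⟨_, h1, rfl⟩
    have h3 : _ ∈ ((R : Subgroup (F.autGroup Ω')) : Subgroup (F.autGroup Ω')) := h2
    rw [hR, Subgroup.mem_subgroupOf] at h3
    rw [map_mul, map_mul, map_inv, hβ]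
    exact h3
  · intro E hE K hK hconj hKc α hα
    have hQE := hE
    obtain ⟨hE, hN⟩ := hQ _ hE
    set Ω' := E.map S.subtype
    haveI := finite_autGroup (F := F) hE.1.1
    obtain ⟨-, R, hR⟩ := isFullyAutomized_of_isFullyNormalized hS hF hE.2.1
    set K' := (K.map (MulAut.congr (liftEquiv E)).toMonoidHom).subgroupOf (F.autGroup Ω')
    haveI : K'.Normal := ⟨by
      intro k hk g
      rw [Subgroup.mem_subgroupOf] at hk ⊢
      obtain ⟨k0, hk0, hk0e⟩ := hk
      obtain ⟨g0, hg0⟩ := exists_congr E (g : MulAut Ω')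
      exact ⟨g0 * k0 * g0⁻¹, hconj g0 (show MulAut.congr (liftEquiv E) g0 ∈ F.autGroup Ω' by
        rw [hg0]; exact g.2) k0 hk0, by
        show MulAut.congr (liftEquiv E) (g0 * k0 * g0⁻¹) = _
        rw [map_mul, map_mul, map_inv, hg0, Subgroup.coe_mul, Subgroup.coe_mul, Subgroup.coe_inv, ← hk0e]
        rfl⟩⟩
    have hRK : (R : Subgroup (F.autGroup Ω')) ≤ K' := by
      intro a ha
      rw [hR, Subgroup.mem_subgroupOf] at ha
      obtain ⟨a0, ha0⟩ := exists_congr E (a : MulAut Ω')
      obtain ⟨g, hg⟩ := hind E a0 (ha0 ▸ ha)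
      rw [Subgroup.mem_subgroupOf]
      exact ⟨a0, hKc g a0 hg, ha0⟩
    have htop := Sylow.normalizer_sup_eq_top' R hRK
    obtain ⟨n, hn, k, hk, hnk⟩ := Subgroup.mem_sup_of_normal_right.1
      (htop.ge (Subgroup.mem_top (⟨MulAut.congr (liftEquiv E) α, hα⟩ : F.autGroup Ω')))
    rw [Subgroup.mem_subgroupOf] at hk
    obtain ⟨β, hβK, hβ⟩ := hk
    obtain ⟨γ, hγ, hγx⟩ := exists_extend_top hS hF hE hN n.2 fun a ha => by
      have h1 : (⟨a, autInducedBy_le_autGroup hE.1.1 ha⟩ : F.autGroup Ω') ∈ (R : Subgroup (F.autGroup Ω')) := by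
        rw [hR, Subgroup.mem_subgroupOf]; exact ha
      have h2 := (Subgroup.mem_normalizer_iff.1 hn _).1 h1
      have h3 : _ ∈ (R : Subgroup (F.autGroup Ω')) := h2
      rw [hR, Subgroup.mem_subgroupOf] at h3
      exact h3
    refine ⟨β, hβK, γ, hγ, fun x => Subtype.ext ?_⟩
    have h4 : MulAut.congr (liftEquiv E) α = (n : MulAut Ω') * MulAut.congr (liftEquiv E) β := by
      have := congrArg Subtype.val hnk
      rw [Subgroup.coe_mul, ← hβ] at this
      exact this.symm
    have h5 := congrArg (fun f : MulAut Ω' => (f (liftEquiv E x) : Ω)) h4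
    change (MulAut.congr (liftEquiv E) α (liftEquiv E x) : Ω) =
      ((n : MulAut Ω') (MulAut.congr (liftEquiv E) β (liftEquiv E x)) : Ω) at h5
    rw [congr_apply, congr_apply] at h5
    exact h5.trans (hγx (liftEquiv E (β x)) ((β x : S)).2).symm
  · intro E hE β hβ h
    have hQE := hE
    obtain ⟨hE, hN⟩ := hQ _ hE
    obtain ⟨γ, hγ, hγx⟩ := exists_extend_top hS hF hE hN hβ fun a ha => by
      obtain ⟨a0, rfl⟩ := exists_congr E a
      obtain ⟨g, hg⟩ := hind E a0 ha
      obtain ⟨h', hh'⟩ := h g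
      rw [MulEquiv.coe_toMonoidHom, ← map_inv, ← map_mul, ← map_mul]
      refine hconjA E h' _ fun x => ?_
      rw [MulAut.mul_apply, MulAut.mul_apply,
        show a0 (β⁻¹ x) = (⟨g * (β⁻¹ x : E) * g⁻¹, (hnormal E hQE).conj_mem _ (β⁻¹ x).2 g⟩ : E) from
          Subtype.ext (hg _)]
      exact hh' x _
    refine ⟨γ, hγ, fun x => Subtype.ext ?_⟩
    exact (hγx (liftEquiv E x) ((x : S)).2).trans (congrArg Subtype.val (congr_apply E β x))
  · intro E hE γ hγ hγE
    have hQE := hE
    obtain ⟨hE, hN⟩ := hQ _ hE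
    haveI := finite_of_le hE.1.1
    obtain ⟨a, ha, hax⟩ := exists_aut_of_hom (restrict_mem (autGroup_hom_mem le_rfl hγ) hE.1.1)
      fun y => by
        obtain ⟨x, hx, hxy⟩ := y.2
        exact ⟨γ x, hγE x hx, by
          show (γ x : Ω) = (γ (Subgroup.inclusion hE.1.1 y) : Ω)
          rw [show Subgroup.inclusion hE.1.1 y = x from Subtype.ext hxy.symm]⟩
    obtain ⟨α, rfl⟩ := exists_congr E a
    refine ⟨α, ha, fun x => Subtype.ext ?_⟩
    have h7 := hax (liftEquiv E x)
    rw [congr_apply, liftEquiv_apply] at h7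
    exact h7
  · intro E hE σ hσ
    have hQE := hE
    obtain ⟨hE, hN⟩ := hQ _ hE
    have hQ1 := hQimg E hQE σ hσ
    refine ⟨hQ1, fun α hα => ?_⟩
    set E1 := E.map σ.toMonoidHom
    let e0 : E ≃* E1 := Subgroup.equivMapOfInjective E σ.toMonoidHom σ.injective
    let e : E.map S.subtype ≃* E1.map S.subtype := ((liftEquiv E).symm.trans e0).trans (liftEquiv E1)
    have he : (E1.map S.subtype).subtype.comp e.toMonoidHom ∈ F.Hom (E.map S.subtype) := by
      refine mem_congr (restrict_mem (autGroup_hom_mem le_rfl hσ) hE.1.1) fun y => ?_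
      show ((σ ((liftEquiv E).symm y : S) : S) : Ω) = (σ (Subgroup.inclusion hE.1.1 y) : Ω)
      rw [show Subgroup.inclusion hE.1.1 y = ((liftEquiv E).symm y : S) from
        Subtype.ext (liftEquiv_symm_apply E y).symm]
    have h8 := congr_mem_autGroup e he hα
    obtain ⟨α', hα'⟩ := exists_congr E1 (MulAut.congr e (MulAut.congr (liftEquiv E) α))
    refine ⟨α', show MulAut.congr (liftEquiv E1) α' ∈ _ by rw [hα']; exact h8, fun x hx => ?_⟩
    refine Subtype.ext ?_
    have h9 : MulAut.congr e (MulAut.congr (liftEquiv E) α) (e (liftEquiv E x)) =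
        e (liftEquiv E (α x)) := by
      show e (MulAut.congr (liftEquiv E) α (e.symm (e (liftEquiv E x)))) = _
      rw [MulEquiv.symm_apply_apply, congr_apply]
    have h10 : e (liftEquiv E x) = liftEquiv E1 ⟨σ x, hx⟩ := Subtype.ext (by
      show ((σ ((liftEquiv E).symm (liftEquiv E x) : S) : S) : Ω) = _
      rw [MulEquiv.symm_apply_apply]; rfl)
    rw [← hα', h10, congr_apply] at h9
    have h11 := congrArg Subtype.val h9
    rw [liftEquiv_apply] at h11
    rw [h11]
    show ((σ ((liftEquiv E).symm (liftEquiv E (α x)) : S) : S) : Ω) = _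
    rw [MulEquiv.symm_apply_apply]

/-- All essential subgroups, when they are normal. -/
theorem exists_normalSys (hall : ∀ E, F.IsEssential p E → normalizerIn S E = S)
    (hsr' : ¬ Cfsg.SectionalPRankLE p 2 S) (hO : F.core = ⊥) :
    ∃ D : NormalSys p S, D.CoreFree := by
  have hsub : ∀ E : Subgroup S, (E.map S.subtype).subgroupOf S = E := fun E =>
    Subgroup.comap_map_eq_self_of_injective S.subtype_injective E
  obtain ⟨D, hDe, hDg, hDa⟩ := exists_normalSys_of hS hF hp2 hsr (fun _ h => hsr' h)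
    (fun E => F.IsEssential p E) (fun E hE => ⟨hE, hall E hE⟩) (fun E hE σ hσ => by
      have h := RankThreePearl69.isEssential_image hE (hall _ hE) hσ
      rwa [hsub] at h)
  refine ⟨D, ?_⟩
  intro K hK hKg hKe
  rw [hDg] at hKg
  simp only [hDe, hDa] at hKe
  refine RankThreePearl69.false_of_invariant_core hS hF hO hK hKg fun E0 hE0 => ?_
  obtain ⟨E, rfl⟩ : ∃ E : Subgroup S, E0 = E.map S.subtype :=
    ⟨E0.subgroupOf S, (Subgroup.map_subgroupOf_eq_of_le hE0.1.1).symm⟩
  obtain ⟨hle, hinv⟩ := hKe E hE0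
  rw [hsub]
  refine ⟨hle, fun hES a ha y hy => ?_⟩
  obtain ⟨α, rfl⟩ := exists_congr E a
  set x := (liftEquiv E).symm y
  have hxy : Subgroup.inclusion hES y = (x : S) := Subtype.ext (liftEquiv_symm_apply E y).symm
  rw [hxy] at hy
  rw [show Subgroup.inclusion hES (MulAut.congr (liftEquiv E) α y) = ((α x : E) : S) from
    Subtype.ext (congr_formula E α y)]
  exact hinv α ha x hy


end Cfsg.Agent.Lib.RankThreeNormal61
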