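import Mathlib
import Cfsg.Agent.Lib.RankThreeNormal61.Sys
import Cfsg.Agent.Lib.RankThreePearl69.Transvection

/-!
A central subgroup of an essential subgroup over the centre with a step of order `p`, and the
common fixed points of the conjugates of the transvection induced on it.
-/

set_option autoImplicit false
set_option linter.unusedSectionVars false

namespace Cfsg.Agent.Lib.RankThreeNormal61

open Cfsg Cfsg.Agent.Lib Cfsg.Agent.Lib.RankThreeEss69
open scoped commutatorElement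

universe u

variable {G : Type u} [Group G] [Finite G] {p : ℕ} [hp : Fact p.Prime] {D : NormalSys p G}

theorem elem_sup {A B : Subgroup G} (hA : IsElementaryAbelian p A) (hB : IsElementaryAbelian p B)
    (hc : ∀ a ∈ A, ∀ b ∈ B, Commute a b) : IsElementaryAbelian p (A ⊔ B : Subgroup G) := by
  rw [← Subgroup.closure_eq A, ← Subgroup.closure_eq B, ← Subgroup.closure_union]
  refine ElemAbelian.closure ?_ ?_
  · rintro a (ha | ha) b (hb | hb)
    exacts [ElemAbelian.comm hA ha hb, hc a ha b hb, (hc b hb a ha).symm, ElemAbelian.comm hB ha hb]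
  · rintro a (ha | ha); exacts [hA.2 a ha, hB.2 a ha]

theorem zOne_elem : IsElementaryAbelian p (zOne p G) :=
  ElemAbelian.of_comm_of_pow (fun _ ha _ hb => (zOne_commute hb _).eq) fun _ ha => ha.2

namespace NormalSys

theorem card_zOne_cases (D : NormalSys p G) {U : Subgroup G} (hU : IsElementaryAbelian p U)
    (hlt : zOne p G < U) : Nat.card (zOne p G) = p ∨
      Nat.card (zOne p G) = p ^ 2 ∧ Nat.card U = p ^ 3 := by
  obtain ⟨i, hi⟩ := IsPGroup.iff_card.1 (D.pgroup.to_subgroup (zOne p G))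
  obtain ⟨j, hj⟩ := IsPGroup.iff_card.1 (D.pgroup.to_subgroup U)
  have h1 := le_card_zOne D
  have h2 := card_elem_le D hU
  have h3 := card_mul_le' D.pgroup hlt
  rw [hi] at h1 h3
  rw [hj] at h2 h3
  rw [← pow_succ] at h3
  have a1 : 1 ≤ i := (Nat.pow_le_pow_iff_right hp.out.one_lt).1 (by rwa [pow_one])
  have a2 := (Nat.pow_le_pow_iff_right hp.out.one_lt).1 h2
  have a3 := (Nat.pow_le_pow_iff_right hp.out.one_lt).1 h3
  rcases (show i = 1 ∨ i = 2 ∧ j = 3 by omega) with rfl | ⟨rfl, rfl⟩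
  exacts [Or.inl (by rw [hi, pow_one]), Or.inr ⟨hi, hj⟩]

variable {E : Subgroup G} (hE : D.IsEss E) {U : Subgroup G}

include hE

/-- The data of the transvection on a central subgroup one step above the centre. -/
theorem exists_move (hUE : U ≤ E) (hU : D.Inv E U) (hcen : ∀ x ∈ U, ∀ e ∈ E, Commute e x)
    (hel : IsElementaryAbelian p U) (hlt : zOne p G < U)
    (hcard : Nat.card U ≤ Nat.card (zOne p G) * p) :
    ∃ g u : G, g ∉ E ∧ u ∈ zOne p G ∧ u ≠ 1 ∧ (∀ x ∈ U, ∃ i : ℤ, g * x * g⁻¹ = x * u ^ i) ∧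
      ∀ x ∈ U, Commute g x → x ∈ zOne p G := by
  obtain ⟨g, -, hg⟩ := SetLike.exists_of_lt (ne_top hE).lt_top
  obtain ⟨w, hw, hwZ⟩ := SetLike.exists_of_lt hlt
  haveI := normal_of_inv hE hUE hU
  have hfix : ∀ x ∈ U, Commute g x → x ∈ zOne p G := fun x hx hgx =>
    ⟨mem_center_of hE hg (fun e he => hcen x hx e he) hgx, hel.2 x hx⟩
  have hu : ⁅g, w⁆ ∈ zOne p G := comm_le_of_card_le D.pgroup (X := U) (M := zOne p G) hlt.le hcard
    (by rw [Subgroup.commutator_comm]; exact Subgroup.commutator_mem_commutator (Subgroup.mem_top g) hw)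
  refine ⟨g, ⁅g, w⁆, hg, hu, fun h => hwZ (hfix w hw (commutatorElement_eq_one_iff_commute.1 h)),
    fun x hx => ?_, hfix⟩
  rw [eq_sup_zpowers D.pgroup hlt.le hcard hw hwZ] at hx
  obtain ⟨z, hz, i, rfl⟩ := exists_of_mem_sup hx
  refine ⟨i, ?_⟩
  have e1 : g * w * g⁻¹ = w * ⁅g, w⁆ := by
    rw [conj_eq_comm_mul, (zOne_commute hu w).eq]
  calc g * (z * w ^ i) * g⁻¹ = (g * z * g⁻¹) * (g * w * g⁻¹) ^ i := by rw [conj_zpow]; group
    _ = z * (w * ⁅g, w⁆) ^ i := by rw [(zOne_commute hz g).eq, mul_inv_cancel_right, e1]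
    _ = z * w ^ i * ⁅g, w⁆ ^ i := by rw [(zOne_commute hu w).mul_zpow, mul_assoc]

/-- Some element of the centre is kept in the centre by all automorphisms. -/
theorem exists_line (hUE : U ≤ E) (hU : D.Inv E U) (hcen : ∀ x ∈ U, ∀ e ∈ E, Commute e x)
    (hel : IsElementaryAbelian p U) (hlt : zOne p G < U) (hz2 : Nat.card (zOne p G) = p ^ 2)
    (hU3 : Nat.card U = p ^ 3) :
    ∃ l : G, l ∈ zOne p G ∧ l ≠ 1 ∧ ∀ α ∈ D.aut E, ∀ x : E, (x : G) = l → (α x : G) ∈ zOne p G := by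
  obtain ⟨g, u, hg, hu, hu1, hmove, hfix⟩ := exists_move hE hUE hU hcen hel hlt
    (by rw [hz2, hU3, ← pow_succ])
  by_cases hall : ∀ α ∈ D.aut E, ∀ x : E, (x : G) = u → (α x : G) ∈ zOne p G
  · exact ⟨u, hu, hu1, hall⟩
  push Not at hall
  obtain ⟨α, hα, xu, hxu, hαu⟩ := hall
  letI : CommGroup U := { (inferInstance : Group U) with
    mul_comm := fun a b => Subtype.ext (ElemAbelian.comm hel a.2 b.2) }
  have hexp : ∀ x : U, x ^ p = 1 := fun x => Subtype.ext (by
    rw [SubgroupClass.coe_pow, hel.2 x x.2, OneMemClass.coe_one])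
  set f := resHom hUE hU
  set A := f.range
  set t : MulAut U := f ⟨cAut hE g, cAut_mem hE g⟩
  have ht : ∀ x : U, (t x : G) = g * x * g⁻¹ := fun x => cAut_apply hE g _
  set s := f ⟨α, hα⟩
  set uU : U := ⟨u, hlt.le hu⟩
  have hfixed : ∀ x : U, t x = x ↔ (x : G) ∈ zOne p G := fun x => by
    refine ⟨fun h => hfix x x.2 ?_, fun h => Subtype.ext ?_⟩
    · have h' := congrArg Subtype.val h
      rw [ht] at h'
      exact mul_inv_eq_iff_eq_mul.1 h'
    · rw [ht, (zOne_commute h g).eq, mul_inv_cancel_right]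
  have hmv : FusionOrderFive.IsMove t uU := fun x => by
    obtain ⟨i, hi⟩ := hmove x x.2
    exact ⟨i, Subtype.ext (by rw [ht, hi]; rfl)⟩
  have htu : t uU = uU := (hfixed uU).2 hu
  have ht1 : t ≠ 1 := fun h => by
    obtain ⟨w, hw, hwZ⟩ := SetLike.exists_of_lt hlt
    exact hwZ ((hfixed ⟨w, hw⟩).1 (by rw [h]; rfl))
  have hzz : t (s uU) ≠ s uU := fun h => hαu (by
    have := (hfixed _).1 h
    rwa [resHom_apply, show (⟨(uU : G), hUE uU.2⟩ : E) = xu from Subtype.ext hxu.symm] at this)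
  set Z : Subgroup U := (zOne p G).subgroupOf U
  have hZc : Nat.card Z = p ^ 2 := by
    rw [Nat.card_congr (Subgroup.subgroupOfEquivOfLe hlt.le).toEquiv, hz2]
  obtain ⟨l, hlZ, hls, hl1⟩ : ∃ l : U, l ∈ Z ∧ s⁻¹ l ∈ Z ∧ l ≠ 1 := by
    by_contra hcon
    push Not at hcon
    have hinj : Function.Injective fun q : Z × Z.map s.toMonoidHom => (q.1 : U) * (q.2 : U) := by
      rintro ⟨⟨a, ha⟩, ⟨b, hb⟩⟩ ⟨⟨a', ha'⟩, ⟨b', hb'⟩⟩ h
      have h' : a'⁻¹ * a = b' * b⁻¹ := by
        rw [inv_mul_eq_iff_eq_mul, ← mul_assoc, eq_mul_inv_iff_mul_eq]; exact h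
      have hb2 : s⁻¹ (a'⁻¹ * a) ∈ Z := by
        rw [h']
        obtain ⟨c, hc, hcb⟩ := mul_mem hb' (inv_mem hb)
        rw [← hcb]
        simpa using hc
      have h1 := hcon _ (mul_mem (inv_mem ha') ha) hb2
      obtain rfl := inv_mul_eq_one.1 h1
      obtain rfl : b = b' := mul_left_cancel h
      rfl
    have := Nat.card_le_card_of_injective _ hinj
    rw [Nat.card_prod, Subgroup.card_map_of_injective (f := s.toMonoidHom) (MulEquiv.injective s), hZc, hU3,
      ← pow_add, Nat.pow_le_pow_iff_right hp.out.one_lt] at this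
    omega
  have hA := mem_zpowers_of_res hE hUE hU hcen
  have hsA : s ∈ A := ⟨_, rfl⟩
  have htA : t ∈ A := ⟨_, rfl⟩
  refine ⟨l, hlZ, fun h => hl1 (Subtype.ext h), fun β hβ x hx => ?_⟩
  set b := f ⟨β, hβ⟩
  have hbA : b⁻¹ ∈ A := inv_mem ⟨_, rfl⟩
  have key := RankThreePearl69.fix_of_two_moves hexp hA htA
    (A.mul_mem (A.mul_mem hsA htA) (A.inv_mem hsA)) hmv htu (FusionOrderFive.isMove_conj s hmv)
    (FusionOrderFive.conj_fix s htu) ht1 (fun e => ht1 (conj_eq_one_iff.1 e)) hzz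
    ((hfixed l).2 hlZ)
    (by rw [MulAut.mul_apply, MulAut.mul_apply, (hfixed _).2 hls, MulAut.apply_inv_self])
    (A.mul_mem (A.mul_mem hbA htA) (A.inv_mem hbA)) (FusionOrderFive.isMove_conj _ hmv)
    (FusionOrderFive.conj_fix _ htu) (fun e => ht1 (conj_eq_one_iff.1 e))
  have h2 : t (b l) = b l := by
    have h := congrArg b key
    rwa [MulAut.mul_apply, MulAut.mul_apply, inv_inv, MulAut.apply_inv_self] at h
  have := (hfixed _).1 h2
  rwa [resHom_apply, show (⟨(l : G), hUE l.2⟩ : E) = x from Subtype.ext hx.symm] at this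

end NormalSys

end Cfsg.Agent.Lib.RankThreeNormal61
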