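import Mathlib
import Cfsg.Agent.Lib.RankThreeNormal61.Block
import Cfsg.Agent.Lib.RankThreeNormal61.Tools
import Cfsg.Agent.Lib.PGroup.Frattini

/-!
The moved centre of one essential subgroup is not contained in another one.
-/

set_option autoImplicit false
set_option linter.unusedSectionVars false

namespace Cfsg.Agent.Lib.RankThreeNormal61

open Cfsg Cfsg.Agent.Lib Cfsg.Agent.Lib.RankThreeEss69
open scoped commutatorElement

universe u

variable {G : Type u} [Group G] [Finite G] {p : ℕ} [hp : Fact p.Prime] {D : NormalSys p G}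

namespace NormalSys

variable {E1 E2 : Subgroup G} (h1 : D.IsEss E1) (hm : Moved D E1) (h2 : D.IsEss E2) {v : G}
  (hv : v ∈ vSub D E1) (hv2 : v ∉ E2)
include h1 hm h2 hv hv2

theorem block_of_not_fixed {e0 w : G} (he0 : e0 ∈ E2) (hw : w ∈ vSub D E1) (hw2 : w ∈ E2)
    (hew : ¬ Commute e0 w) :
    (∃ e v u z : G, BlockRel p e v u z) ∧ Nat.card G = p ^ 4 := by
  haveI := D.normal h1
  haveI := D.normal h2
  haveI := vSub_normal h1
  set V := vSub D E1 with hV
  have hVel : IsElementaryAbelian p V := vSub_elem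
  set W := V ⊓ E2 with hW
  haveI : W.Normal := by rw [hW]; infer_instance
  have hZW : zOne p G ≤ W := le_inf (zOne_le_vSub h1) (zOne_le h2)
  have hlt1 : zOne p G < W := lt_of_le_of_ne hZW fun h =>
    hew (zOne_commute (h.ge ⟨hw, hw2⟩) e0)
  have hlt2 : W < V := lt_of_le_of_ne inf_le_left fun h => hv2 (h.ge hv).2
  have c0 := le_card_zOne D
  have c1 := card_mul_le' D.pgroup hlt1
  have c2 := card_mul_le' D.pgroup hlt2
  have c3 := vSub_card_le (D := D) (E := E1)
  have hp2 : p * p = p ^ 2 := (sq p).symm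
  have hWc : Nat.card W = p ^ 2 := le_antisymm
    (Nat.le_of_mul_le_mul_right (by rw [← pow_succ]; exact c2.trans c3) hp.out.pos)
    (by rw [sq]; exact (Nat.mul_le_mul_right p c0).trans c1)
  have hVc : Nat.card V = p ^ 3 := le_antisymm c3 (by rw [pow_succ, ← hWc]; exact c2)
  have hZc : Nat.card (zOne p G) = p := le_antisymm
    (Nat.le_of_mul_le_mul_right (by rw [hp2, ← hWc]; exact c1) hp.out.pos) c0
  have hve : ∀ x ∈ E1, Commute v x := fun x hx => (vSub_commute hv hx).symm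
  have hdec : ∀ x ∈ E1, ∃ d ∈ E1 ⊓ E2, ∃ i : ℤ, x = d * v ^ i := by
    intro x hx
    obtain ⟨d, hd, i, rfl⟩ := exists_decomp h2 hv2 x
    refine ⟨d, ⟨?_, hd⟩, i, rfl⟩
    simpa using E1.mul_mem hx (E1.inv_mem (E1.zpow_mem (vSub_le_E D E1 hv) i))
  have hvp : v ^ p = 1 := hVel.2 v hv
  -- `E1` is elementary abelian
  have hfr : fr p E1 = ⊥ := by
    by_contra hne
    have hle : fr p E1 ≤ E2 := by
      refine fr_le_of (fun x hx => ?_) fun x hx y hy => ?_
      · obtain ⟨d, hd, i, rfl⟩ := hdec x hx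
        rw [((hve d hd.1).symm.zpow_right i).mul_pow, ← zpow_natCast (v ^ i), ← zpow_mul, mul_comm,
          zpow_mul, zpow_natCast, hvp, one_zpow, mul_one]
        exact E2.pow_mem hd.2 p
      · obtain ⟨d, hd, i, rfl⟩ := hdec x hx
        obtain ⟨d', hd', j, rfl⟩ := hdec y hy
        have a1 : Commute (v ^ i) d' := (hve d' hd'.1).zpow_left i
        have a2 : Commute (v ^ j) d := (hve d hd.1).zpow_left j
        rw [commutatorElement_def]
        rw [show d * v ^ i * (d' * v ^ j) * (d * v ^ i)⁻¹ * (d' * v ^ j)⁻¹ = d * d' * d⁻¹ * d'⁻¹ by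
          calc d * v ^ i * (d' * v ^ j) * (d * v ^ i)⁻¹ * (d' * v ^ j)⁻¹
              = d * (v ^ i * d') * v ^ j * (v ^ i)⁻¹ * (d⁻¹ * (v ^ j)⁻¹) * d'⁻¹ := by group
            _ = d * (d' * v ^ i) * v ^ j * (v ^ i)⁻¹ * ((v ^ j)⁻¹ * d⁻¹) * d'⁻¹ := by
                rw [a1.eq, (a2.inv_inv).eq]
            _ = _ := by group]
        exact E2.mul_mem (E2.mul_mem (E2.mul_mem hd.2 hd'.2) (E2.inv_mem hd.2)) (E2.inv_mem hd'.2)
    obtain ⟨z, hzN, hz, hz1⟩ := exists_mem_zOne D.pgroup (N := fr p E1) hne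
    have hZN : zOne p G ≤ fr p E1 := by
      rw [← Subgroup.eq_of_le_of_card_ge (Subgroup.zpowers_le.2 hz)
        (by rw [hZc, Nat.card_zpowers, orderOf_eq_prime hz.2 hz1])]
      exact Subgroup.zpowers_le.2 hzN
    refine hv2 (hle ((Subgroup.closure_le _).2 ?_ hv))
    rintro _ ⟨α, -, x, hx, rfl⟩
    exact apply_mem_fr E1 ((E1.subtype).comp α.toMonoidHom) E1 (fun y => (α y).2) (hZN hx)
  have hel1 : IsElementaryAbelian p E1 := ElemAbelian.of_comm_of_pow
    (fun a ha b hb => (commutatorElement_eq_one_iff_commute.1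
      (Subgroup.mem_bot.1 (hfr ▸ comm_mem_fr ha hb))).eq)
    fun a ha => Subgroup.mem_bot.1 (hfr ▸ pow_mem_fr ha)
  have hE1 : E1 = V := (Subgroup.eq_of_le_of_card_ge (vSub_le_E D E1)
    (by rw [hVc]; exact card_elem_le D hel1)).symm
  have hG : Nat.card G = p ^ 4 := by rw [← card_E_mul h1, hE1, hVc, ← pow_succ]
  refine ⟨?_, hG⟩
  have hE2c : Nat.card E2 = p ^ 3 :=
    Nat.eq_of_mul_eq_mul_right hp.out.pos (by rw [card_E_mul h2, hG, ← pow_succ])
  -- an element of order `p` of `E2` outside `V`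
  obtain ⟨e, he2, heV, hep⟩ : ∃ e ∈ E2, e ∉ V ∧ e ^ p = 1 := by
    by_contra hcon
    push Not at hcon
    haveI : Finite E2 := inferInstance
    set W2 := W.subgroupOf E2 with hW2
    have hmem : ∀ x : E2, x ∈ W2 ↔ x ^ p = 1 := fun x => by
      rw [hW2, Subgroup.mem_subgroupOf]
      refine ⟨fun h => Subtype.ext (by rw [SubgroupClass.coe_pow, hVel.2 _ h.1, OneMemClass.coe_one]),
        fun h => ⟨by_contra fun hx => hcon x x.2 hx (by
          rw [← SubgroupClass.coe_pow, h, OneMemClass.coe_one]), x.2⟩⟩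
    have hW2c : Nat.card W2 = p ^ 2 := by
      rw [hW2, Nat.card_congr (Subgroup.subgroupOfEquivOfLe (inf_le_right : W ≤ E2)).toEquiv, hWc]
    have hcard : Nat.card E2 ≤ Nat.card W * p := by rw [hE2c, hWc, ← pow_succ]
    have hΦ : frattini E2 ≤ W2 := by
      refine Lib.PFrattini.frattini_le (p := p) ?_ fun x => ?_
      · rw [commutator_def, Subgroup.commutator_le]
        intro x _ y _
        exact comm_le_of_card_le D.pgroup (X := E2) (M := W) inf_le_right hcard
          (Subgroup.commutator_mem_commutator x.2 (Subgroup.mem_top (y : G)))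
      · exact pow_mem_of_card_le D.pgroup (X := E2) (M := W) inf_le_right hcard x.2
    refine D.noInv h2 W2 inferInstance hΦ ?_ ?_ fun α _ x hx => ?_
    · have h := W2.card_mul_index
      rw [hW2c, hE2c, pow_succ (p) 2] at h
      rw [Nat.eq_of_mul_eq_mul_left (pow_pos hp.out.pos 2) h]
    · have h := SectRank.card_mul_relIndex_of_le (frattini E2) W2 hΦ
      rw [hW2c] at h
      obtain ⟨k, hk⟩ := IsPGroup.iff_card.1 ((D.pgroup.to_subgroup E2).to_subgroup (frattini E2))
      have hk0 : k ≠ 0 := fun h0 => by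
        rw [h0, pow_zero, Subgroup.card_eq_one] at hk
        refine hew ?_
        have hx := Lib.PFrattini.commutator_le_frattini (D.pgroup.to_subgroup E2)
          (Subgroup.commutator_mem_commutator (Subgroup.mem_top (⟨e0, he0⟩ : E2))
            (Subgroup.mem_top (⟨w, hw2⟩ : E2)))
        rw [hk, Subgroup.mem_bot] at hx
        exact congrArg Subtype.val (commutatorElement_eq_one_iff_commute.1 hx).eq
      exact (Nat.mul_dvd_mul_iff_left hp.out.pos).1
        ((mul_dvd_mul_right (dvd_pow_self p hk0) _).trans (by rw [← hk, h, sq]))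
    · rw [hmem] at hx ⊢
      rw [← map_pow, hx, map_one]
  have he1 : e ∉ E1 := hE1 ▸ heV
  -- the relations
  have hcW : ∀ g : G, ∀ x ∈ W, ⁅g, x⁆ ∈ zOne p G := fun g x hx =>
    comm_le_of_card_le D.pgroup (X := W) (M := zOne p G) hZW (by rw [hWc, hZc, hp2])
      (by rw [Subgroup.commutator_comm]; exact Subgroup.commutator_mem_commutator (Subgroup.mem_top g) hx)
  set u := v⁻¹ * (e * v * e⁻¹) with hu
  have huW : u ∈ W := ⟨V.mul_mem (V.inv_mem hv) (Subgroup.Normal.conj_mem inferInstance v hv e), by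
    rw [show u = ⁅v⁻¹, e⁆ by rw [hu, commutatorElement_def]; group]
    exact comm_mem_E h2 _ _⟩
  have hVg : ∀ x ∈ V, ∀ y ∈ V, Commute x y := fun x hx y hy => ElemAbelian.comm hVel hx hy
  have hcen : ∀ x ∈ V, Commute e x → x ∈ zOne p G := fun x hx hex =>
    ⟨mem_center_of h1 he1 (fun y hy => vSub_commute hx hy) hex, hVel.2 x hx⟩
  have huZ : u ∉ zOne p G := by
    intro hu0
    have hwZ : w ∉ zOne p G := fun h => hew (zOne_commute h e0)
    set t := ⁅e, w⁆ with ht
    have htZ : t ∈ zOne p G := hcW e w ⟨hw, hw2⟩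
    have ht1 : t ≠ 1 := fun h => hwZ (hcen w hw (commutatorElement_eq_one_iff_commute.1 h))
    obtain ⟨k, hk⟩ := Subgroup.mem_zpowers_iff.1
      ((Subgroup.eq_of_le_of_card_ge (Subgroup.zpowers_le.2 htZ)
        (by rw [hZc, Nat.card_zpowers, orderOf_eq_prime htZ.2 ht1])).ge hu0)
    have hx : v * (w ^ k)⁻¹ ∈ V := V.mul_mem hv (V.inv_mem (V.zpow_mem hw k))
    have hewk : e * w ^ k * e⁻¹ = t ^ k * w ^ k := by
      rw [← conj_zpow, conj_eq_comm_mul (x := e) (y := w), ← ht,
        ((zOne_commute htZ w).symm).mul_zpow]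
    have hcom : Commute e (v * (w ^ k)⁻¹) := by
      refine mul_inv_eq_iff_eq_mul.1 ?_
      calc e * (v * (w ^ k)⁻¹) * e⁻¹ = (e * v * e⁻¹) * (e * w ^ k * e⁻¹)⁻¹ := by group
        _ = v * u * (t ^ k * w ^ k)⁻¹ := by rw [hewk, hu, mul_inv_cancel_left]
        _ = v * (w ^ k)⁻¹ := by
          rw [hk, mul_inv_rev, mul_assoc, ← mul_assoc u, ((zOne_commute hu0 _).symm).eq, mul_assoc,
            mul_inv_cancel, mul_one]
    refine hv2 ?_
    simpa using E2.mul_mem (zOne_le h2 (hcen _ hx hcom)) (E2.zpow_mem hw2 k)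
  set z := u⁻¹ * (e * u * e⁻¹) with hzdef
  have hzZ : z ∈ zOne p G := by
    rw [show z = ⁅u⁻¹, e⁆ by rw [hzdef, commutatorElement_def]; group, ← commutatorElement_inv]
    exact inv_mem (hcW e _ (inv_mem huW))
  have hz1 : z ≠ 1 := fun h => huZ (hcen u huW.1
    (mul_inv_eq_iff_eq_mul.1 (inv_mul_eq_one.1 h).symm))
  refine ⟨e, v, u, z, ⟨hep, hvp, hVel.2 u huW.1, hzZ.2, hVg v hv u huW.1,
    zOne_commute hzZ v, zOne_commute hzZ u, zOne_commute hzZ e, ?_, ?_, ?_⟩⟩
  · rw [hu, mul_inv_cancel_left]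
  · rw [hzdef, mul_inv_cancel_left]
  · rw [eq_top_iff]
    have hcl : ∀ y ∈ ({e, v, u, z} : Set G), y ∈ Subgroup.closure ({e, v, u, z} : Set G) := fun y hy =>
      Subgroup.subset_closure hy
    have hZle : zOne p G ≤ Subgroup.closure ({e, v, u, z} : Set G) := by
      rw [← Subgroup.eq_of_le_of_card_ge (Subgroup.zpowers_le.2 hzZ)
        (by rw [hZc, Nat.card_zpowers, orderOf_eq_prime hzZ.2 hz1])]
      exact Subgroup.zpowers_le.2 (hcl z (by simp))
    have hWle : W ≤ Subgroup.closure ({e, v, u, z} : Set G) := by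
      rw [eq_sup_zpowers D.pgroup hZW (by rw [hWc, hZc, hp2]) huW huZ]
      exact sup_le hZle (Subgroup.zpowers_le.2 (hcl u (by simp)))
    have hVle : V ≤ Subgroup.closure ({e, v, u, z} : Set G) := by
      rw [eq_sup_zpowers D.pgroup hlt2.le (by rw [hVc, hWc, ← pow_succ]) hv (fun h => hv2 h.2)]
      exact sup_le hWle (Subgroup.zpowers_le.2 (hcl v (by simp)))
    rw [← sup_zpowers_eq_top h1 he1, hE1]
    exact sup_le hVle (Subgroup.zpowers_le.2 (hcl e (by simp)))

end NormalSys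

end Cfsg.Agent.Lib.RankThreeNormal61
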