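import Mathlib
import Cfsg.Agent.Lib.RankThreeNormal61.Tools
import Cfsg.Agent.Lib.FusionOrderFive.Setup
import Cfsg.Agent.Lib.RankThreeEss69.Setup

/-!
A system on the product of an extraspecial group of order `p ^ 3` and a group of order `p`: it has
a common fixed line.
-/

set_option autoImplicit false
set_option linter.unusedSectionVars false

namespace Cfsg.Agent.Lib.RankThreeNormal61

open Cfsg Cfsg.Agent.Lib Cfsg.Agent.Lib.RankThreeEss69
open scoped commutatorElement

universe u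

variable {G : Type u} [Group G] [Finite G] {p : ℕ} [hp : Fact p.Prime] {D : NormalSys p G}

namespace NormalSys

/-- Two automorphisms inverting `u` and fixing `l`, `l'` fix the same line. -/
theorem mem_line (D : NormalSys p G) {u l l' : G} (hu : u ∈ zOne p G) (hu1 : u ≠ 1)
    (hl : l ∈ zOne p G) (hl' : l' ∈ Subgroup.zpowers u ⊔ Subgroup.zpowers l)
    {γ γ' : MulAut G} (hγ : γ ∈ D.glob) (hγ' : γ' ∈ D.glob) (h1 : γ u = u⁻¹) (h2 : γ' u = u⁻¹)
    (h3 : γ l = l) (h4 : γ' l' = l') : l' ∈ Subgroup.zpowers l := by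
  haveI : (Subgroup.zpowers u).Normal := ⟨fun x hx g => by
    obtain ⟨k, rfl⟩ := Subgroup.mem_zpowers_iff.1 hx
    rwa [((zOne_commute hu g).zpow_right k).eq, mul_inv_cancel_right]⟩
  obtain ⟨x, hx, b, rfl⟩ := exists_of_mem_sup hl'
  obtain ⟨a, rfl⟩ := Subgroup.mem_zpowers_iff.1 hx
  have hc : Commute (u ^ a) (l ^ b) := ((zOne_commute hl u).zpow_zpow a b)
  have hd : (γ * γ') u = u := by rw [MulAut.mul_apply, h2, map_inv, h1, inv_inv]
  have hw : (γ * γ') (u ^ a * l ^ b) = u ^ a * l ^ b * u ^ (-(2 * a)) := by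
    rw [MulAut.mul_apply, h4, map_mul, map_zpow, map_zpow, h1, h3, inv_zpow',
      hc.eq, mul_assoc, ← zpow_add, show a + -(2 * a) = -a by ring]
    exact ((zOne_commute hl u).zpow_zpow (-a) b).eq
  have h := D.shear _ (mul_mem hγ hγ') _ (mul_mem (Subgroup.zpow_mem _ hu.1 a) (Subgroup.zpow_mem _ hl.1 b))
    _ (by rw [map_zpow, hd]) (by rw [← zpow_natCast, ← zpow_mul, mul_comm, zpow_mul, zpow_natCast, hu.2, one_zpow]) hw
  have h0 := cast_zero_of_zpow hu.2 hu1 h
  push_cast at h0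
  have ha : (a : ZMod p) = 0 := by
    have h2p : (2 : ZMod p) ≠ 0 := by
      intro e
      have : (p : ℕ) ∣ 2 := by rw [← ZMod.natCast_eq_zero_iff]; exact_mod_cast e
      exact D.odd ((Nat.prime_dvd_prime_iff_eq hp.out Nat.prime_two).1 this)
    exact (mul_eq_zero.1 (neg_eq_zero.1 h0)).resolve_left h2p
  rw [zpow_congr_mod hu.2 (show (a : ZMod p) = ((0 : ℤ) : ZMod p) by rw [ha, Int.cast_zero]), zpow_zero,
    one_mul]
  exact Subgroup.zpow_mem _ (Subgroup.mem_zpowers l) b

/-- All commutators lie on a central line `u` and the exponent is `p`: contradiction. -/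
theorem false_of_small (D : NormalSys p G) (hcore : D.CoreFree) {v v' : G} (hu : ⁅v, v'⁆ ∈ zOne p G) (hu1 : ⁅v, v'⁆ ≠ 1)
    (hcomm : ∀ g h : G, ⁅g, h⁆ ∈ Subgroup.zpowers ⁅v, v'⁆) (hexp : ∀ g : G, g ^ p = 1)
    (hz2 : Nat.card (zOne p G) = p ^ 2) (hG : Nat.card G = p ^ 4) {E0 : Subgroup G}
    (hE0 : D.IsEss E0) : False := by
  set u := ⁅v, v'⁆ with hudef
  have hcomm' : ∀ g h : G, ∃ i : ℤ, g * h * g⁻¹ = h * u ^ i := fun g h => by
    obtain ⟨i, hi⟩ := Subgroup.mem_zpowers_iff.1 (hcomm g h)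
    exact ⟨i, by rw [conj_eq_comm_mul, ← hi, ((zOne_commute hu h).zpow_right i).eq]⟩
  have key : ∀ E, D.IsEss E → ∃ l ∈ zOne p G,
      zOne p G = Subgroup.zpowers u ⊔ Subgroup.zpowers l ∧
      (∃ γ ∈ D.glob, γ u = u⁻¹ ∧ γ l = l) ∧
      ∀ α ∈ D.aut E, ∀ x : E, (x : G) ∈ Subgroup.zpowers l → (α x : G) ∈ Subgroup.zpowers l := by
    intro E hE
    haveI := D.normal hE
    have hZE := zOne_le hE
    obtain ⟨g, -, hg⟩ := SetLike.exists_of_lt (ne_top hE).lt_top
    have hEc : Nat.card E = p ^ 3 :=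
      Nat.eq_of_mul_eq_mul_right hp.out.pos (by rw [card_E_mul hE, hG, ← pow_succ])
    -- `E` is elementary abelian
    have hab : ∀ a ∈ E, ∀ b ∈ E, a * b = b * a := by
      have hlt : zOne p G < E := lt_of_le_of_ne hZE fun h => by
        rw [h, hEc] at hz2
        exact absurd (Nat.pow_right_injective hp.out.two_le hz2) (by norm_num)
      obtain ⟨y, hy, hyZ⟩ := SetLike.exists_of_lt hlt
      have hsup := eq_sup_zpowers D.pgroup hlt.le (by rw [hEc, hz2, ← pow_succ]) hy hyZ
      intro a ha b hb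
      obtain ⟨z, hz, i, rfl⟩ := exists_of_mem_sup (hsup.le ha)
      obtain ⟨z', hz', j, rfl⟩ := exists_of_mem_sup (hsup.le hb)
      exact ((zOne_commute hz' _).mul_right
        ((((zOne_commute hz y).symm).zpow_right j).mul_left ((Commute.refl y).zpow_zpow i j))).eq
    have hel : IsElementaryAbelian p E := ElemAbelian.of_comm_of_pow hab fun a _ => hexp a
    have hU : D.Inv E E := fun α _ x _ => (α x).2
    have hcen : ∀ x ∈ E, ∀ e ∈ E, Commute e x := fun x hx e he => hab e he x hx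
    have hm : ¬ D.Inv E (zOne p G) := by
      intro hinv
      refine hg (mem_of_stab hE hinv (fun x _ hx => zOne_commute hx g) fun x hx => ?_)
      obtain ⟨i, hi⟩ := hcomm' g x
      rw [hi, inv_mul_cancel_left]
      exact Subgroup.zpow_mem _ hu i
    have hlt : zOne p G < E := lt_of_le_of_ne hZE fun h => hm (h ▸ hU)
    obtain ⟨l, hlZ, hl1, hlα⟩ := exists_line hE le_rfl hU hcen hel hlt hz2 hEc
    letI : CommGroup E := { (inferInstance : Group E) with
      mul_comm := fun a b => Subtype.ext (hab a a.2 b b.2) }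
    have hexpE : ∀ x : E, x ^ p = 1 := fun x => Subtype.ext (by
      rw [SubgroupClass.coe_pow, hexp, OneMemClass.coe_one])
    set f := resHom (D := D) le_rfl hU
    have hf : ∀ (a : D.aut E) (x : E), f a x = (a : MulAut E) x := fun a x => Subtype.ext rfl
    have hfinj : Function.Injective f := fun a b h => Subtype.ext (MulEquiv.ext fun x => by
      rw [← hf, ← hf, h])
    set cg : D.aut E := ⟨cAut hE g, cAut_mem hE g⟩
    set t := f cg
    have ht : ∀ x : E, (t x : G) = g * x * g⁻¹ := fun x => by rw [hf]; exact cAut_apply hE g x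
    set uE : E := ⟨u, hZE hu⟩
    have hfixed : ∀ x : E, t x = x ↔ (x : G) ∈ zOne p G := fun x => by
      refine ⟨fun h => ⟨mem_center_of hE hg (fun e he => hcen x x.2 e he) ?_, hexp _⟩,
        fun h => Subtype.ext ?_⟩
      · have h' := congrArg Subtype.val h
        rw [ht] at h'
        exact mul_inv_eq_iff_eq_mul.1 h'
      · rw [ht, (zOne_commute h g).eq, mul_inv_cancel_right]
    have hmv : FusionOrderFive.IsMove t uE := fun x => by
      obtain ⟨i, hi⟩ := hcomm' g x
      exact ⟨i, Subtype.ext (by rw [ht, hi]; rfl)⟩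
    have htu : t uE = uE := (hfixed uE).2 hu
    have ht1 : t ≠ 1 := fun h => by
      obtain ⟨w, hw, hwZ⟩ := SetLike.exists_of_lt hlt
      exact hwZ ((hfixed ⟨w, hw⟩).1 (by rw [h]; rfl))
    have hA := mem_zpowers_of_res hE le_rfl hU hcen
    have htA : t ∈ f.range := ⟨_, rfl⟩
    obtain ⟨α, hα, hαu⟩ : ∃ α : MulAut E, α ∈ D.aut E ∧ (α uE : G) ∉ zOne p G := by
      by_contra hcon
      push Not at hcon
      -- then the conjugates of `t` generate a normal `p`-subgroup
      have hsame : ∀ a : D.aut E, f a * t * (f a)⁻¹ ∈ Subgroup.zpowers t := fun a => by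
        have hc : Commute t (f a * t * (f a)⁻¹) := by
          refine FusionOrderFive.commute_of_fix hmv (FusionOrderFive.isMove_conj (f a) hmv) ?_ ?_
          · refine (hfixed _).2 ?_
            rw [hf]
            exact hcon _ a.2
          · rw [MulAut.mul_apply, MulAut.mul_apply, (hfixed _).2 (by
              rw [← map_inv, hf]
              exact hcon _ (a⁻¹).2), MulAut.apply_inv_self]
        exact hA t htA _ (mul_mem (mul_mem ⟨a, rfl⟩ htA) (inv_mem ⟨a, rfl⟩))
          (FusionOrderFive.move_pow_prime hexpE hmv htu)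
          (FusionOrderFive.move_pow_prime hexpE (FusionOrderFive.isMove_conj _ hmv)
            (FusionOrderFive.conj_fix _ htu)) hc ht1
      have hcp : cAut hE g ^ p = 1 := by
        have h : cg ^ p = 1 := hfinj (by
          rw [map_pow, map_one]; exact FusionOrderFive.move_pow_prime hexpE hmv htu)
        exact congrArg Subtype.val h
      refine hg (D.radical hE (Subgroup.zpowers (cAut hE g)) (Subgroup.zpowers_le.2 (cAut_mem hE g))
        (fun β hβ k hk => ?_) ?_ g _ (Subgroup.mem_zpowers _) (cAut_apply hE g))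
      · obtain ⟨i, rfl⟩ := Subgroup.mem_zpowers_iff.1 hk
        obtain ⟨j, hj⟩ := Subgroup.mem_zpowers_iff.1 (hsame ⟨β, hβ⟩)
        refine Subgroup.mem_zpowers_iff.2 ⟨j * i, ?_⟩
        have h : cg ^ (j * i) = ⟨β, hβ⟩ * cg ^ i * ⟨β, hβ⟩⁻¹ := hfinj (by
          rw [map_zpow, zpow_mul, hj, conj_zpow, map_mul, map_mul, map_zpow, map_inv])
        exact congrArg Subtype.val h
      · intro x
        obtain ⟨i, hi⟩ := Subgroup.mem_zpowers_iff.1 x.2
        refine ⟨1, Subtype.ext ?_⟩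
        rw [pow_one, SubgroupClass.coe_pow, OneMemClass.coe_one, ← hi, ← zpow_natCast, ← zpow_mul,
          mul_comm, zpow_mul, zpow_natCast, hcp, one_zpow]
    set s := f ⟨α, hα⟩
    have hsu : s uE ∉ Subgroup.zpowers uE := fun h => hαu (by
      obtain ⟨k, hk⟩ := Subgroup.mem_zpowers_iff.1 h
      rw [hf] at hk
      rw [← hk]
      exact Subgroup.zpow_mem _ hu k)
    obtain ⟨-, b, ⟨β, rfl⟩, hb1, -, hb3, hb4, -⟩ := FusionOrderFive.exists_torus_of_moved hexpE hA
      htA hmv htu ht1 (show s ∈ f.range from ⟨_, rfl⟩) hsu (n := -1) (m := -1) (by push_cast; ring)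
    set lE : E := ⟨l, hZE hlZ⟩
    have hβl : f β lE = lE := hb3 lE ((hfixed lE).2 hlZ) (by
      rw [MulAut.mul_apply, MulAut.mul_apply, (hfixed _).2 (by
        rw [← map_inv, hf]; exact hlα _ (⟨α, hα⟩⁻¹ : D.aut E).2 lE rfl), MulAut.apply_inv_self])
    have hbt : f β * t = t * f β := by
      rw [show ((-1 : ℤ) * -1) = 1 by norm_num, zpow_one] at hb4; exact hb4
    have hbt' : β * cg = cg * β := hfinj (by rw [map_mul, map_mul]; exact hbt)
    obtain ⟨γ, hγ, hγx⟩ := D.extend hE β β.2 fun g' => by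
      obtain ⟨e, he, i, rfl⟩ := exists_decomp hE hg g'
      refine ⟨g ^ i, fun x hx => ?_⟩
      have hpow : ∀ w : E, (((cg ^ i : D.aut E) : MulAut E) w : G) = g ^ i * w * (g ^ i)⁻¹ := fun w => by
        rw [SubgroupClass.coe_zpow, show (cg : MulAut E) ^ i = cAut hE (g ^ i) from
          (map_zpow MulAut.conjNormal g i).symm, cAut_apply]
      set w := (β : MulAut E)⁻¹ x
      have hy : (⟨e * g ^ i * (w : G) * (e * g ^ i)⁻¹, hx⟩ : E) = ((cg ^ i : D.aut E) : MulAut E) w := by
        refine Subtype.ext ?_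
        rw [hpow]
        have hy : Commute e (g ^ i * (w : G) * (g ^ i)⁻¹) := hcen _ (conj_mem_E hE w.2 _) e he
        calc e * g ^ i * (w : G) * (e * g ^ i)⁻¹ = e * (g ^ i * (w : G) * (g ^ i)⁻¹) * e⁻¹ := by group
          _ = _ := by rw [hy.eq, mul_inv_cancel_right]
      have hc : (β * cg ^ i * β⁻¹ : D.aut E) = cg ^ i := by
        rw [((show Commute β cg from hbt').zpow_right i).eq, mul_inv_cancel_right]
      calc ((β : MulAut E) ⟨_, hx⟩ : G) = (((β * cg ^ i * β⁻¹ : D.aut E) : MulAut E) x : G) := by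
            rw [hy]; rfl
        _ = _ := by rw [hc, hpow]
    have hγu : γ u = u⁻¹ := by
      have h := hγx uE
      rw [← hf β uE, hb1] at h
      rw [h]
      simp [uE]
    have hγl : γ l = l := by
      have h := hγx lE
      rwa [← hf β lE, hβl] at h
    have hlu : l ∉ Subgroup.zpowers u := fun h => by
      obtain ⟨k, hk⟩ := Subgroup.mem_zpowers_iff.1 h
      refine hαu (mem_of_zpow (p := p) (by rw [hexp]; exact one_mem _) (i := k) (fun h0 => hl1 ?_) ?_)
      · rw [← hk, zpow_congr_mod hu.2 (show (k : ZMod p) = ((0 : ℤ) : ZMod p) by rw [h0, Int.cast_zero]),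
          zpow_zero]
      · rw [← SubgroupClass.coe_zpow, ← map_zpow]
        exact hlα α hα _ (by rw [SubgroupClass.coe_zpow]; exact hk)
    have hZeq : zOne p G = Subgroup.zpowers u ⊔ Subgroup.zpowers l := by
      haveI : (Subgroup.zpowers u).Normal := ⟨fun x hx g => by
        obtain ⟨k, rfl⟩ := Subgroup.mem_zpowers_iff.1 hx
        rwa [((zOne_commute hu g).zpow_right k).eq, mul_inv_cancel_right]⟩
      exact eq_sup_zpowers D.pgroup (Subgroup.zpowers_le.2 hu)
        (by rw [hz2, Nat.card_zpowers, orderOf_eq_prime hu.2 hu1, sq]) hlZ hlu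
    refine ⟨l, hlZ, hZeq, ⟨γ, hγ, hγu, hγl⟩, fun δ hδ x hx => ?_⟩
    obtain ⟨k, hk⟩ := Subgroup.mem_zpowers_iff.1 hx
    have hy : (δ x : G) ∈ zOne p G := by
      rw [show x = lE ^ k from Subtype.ext (by rw [SubgroupClass.coe_zpow]; exact hk.symm), map_zpow,
        SubgroupClass.coe_zpow]
      exact Subgroup.zpow_mem _ (hlα δ hδ lE rfl) k
    haveI : (Subgroup.zpowers u).Normal := ⟨fun x hx g => by
      obtain ⟨k, rfl⟩ := Subgroup.mem_zpowers_iff.1 hx
      rwa [((zOne_commute hu g).zpow_right k).eq, mul_inv_cancel_right]⟩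
    obtain ⟨u', hu', b', hb'⟩ := exists_of_mem_sup (hZeq.le hy)
    obtain ⟨a', rfl⟩ := Subgroup.mem_zpowers_iff.1 hu'
    have hdec : δ x = uE ^ a' * lE ^ b' := Subtype.ext (by
      rw [hb', Subgroup.coe_mul, SubgroupClass.coe_zpow, SubgroupClass.coe_zpow])
    by_cases ha0 : (a' : ZMod p) = 0
    · rw [hb', zpow_congr_mod hu.2 (show (a' : ZMod p) = ((0 : ℤ) : ZMod p) by rw [ha0, Int.cast_zero]),
        zpow_zero, one_mul]
      exact Subgroup.zpow_mem _ (Subgroup.mem_zpowers l) b'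
    refine absurd (mem_of_zpow (p := p) (H := zOne p G) (x := (α uE : G))
      (by rw [hexp]; exact one_mem _) ha0 ?_) hαu
    have h1 : (α (δ x) : G) ∈ zOne p G := by
      rw [← MulAut.mul_apply, show x = lE ^ k from Subtype.ext (by rw [SubgroupClass.coe_zpow]; exact hk.symm),
        map_zpow, SubgroupClass.coe_zpow]
      exact Subgroup.zpow_mem _ (hlα _ (mul_mem hα hδ) lE rfl) k
    rw [hdec, map_mul, map_zpow, map_zpow, Subgroup.coe_mul, SubgroupClass.coe_zpow,
      SubgroupClass.coe_zpow] at h1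
    exact (Subgroup.mul_mem_cancel_right _ (Subgroup.zpow_mem _ (hlα α hα lE rfl) b')).1 h1
  obtain ⟨l, hlZ, hZeq, ⟨γ, hγ, hγu, hγl⟩, -⟩ := key E0 hE0
  have hl1 : l ≠ 1 := fun h => by
    rw [h, Subgroup.zpowers_one_eq_bot, sup_bot_eq] at hZeq
    rw [hZeq, Nat.card_zpowers, orderOf_eq_prime hu.2 hu1] at hz2
    exact absurd hz2.symm (Nat.ne_of_gt (by nlinarith [hp.out.one_lt]))
  refine hcore (Subgroup.zpowers l) (by simpa using hl1) (fun σ hσ x hx => ?_) fun E hE => ?_
  · have hline : ∀ τ : MulAut G, τ u ∈ Subgroup.zpowers u := fun τ => by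
      rw [hudef, map_commutatorElement]
      exact hcomm _ _
    obtain ⟨a, ha⟩ := Subgroup.mem_zpowers_iff.1 (hline σ⁻¹)
    have h2 : (σ * γ * σ⁻¹) u = u⁻¹ := by
      rw [MulAut.mul_apply, MulAut.mul_apply, ← ha, map_zpow, hγu, inv_zpow, map_inv, ha,
        MulAut.apply_inv_self]
    have hσl : σ l ∈ Subgroup.zpowers u ⊔ Subgroup.zpowers l := hZeq.le (zOne_aut σ hlZ)
    have := mem_line D hu hu1 hlZ hσl hγ (mul_mem (mul_mem hσ hγ) (inv_mem hσ)) hγu h2 hγl
      (by rw [MulAut.mul_apply, MulAut.mul_apply, MulAut.inv_apply_self, hγl])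
    obtain ⟨k, rfl⟩ := Subgroup.mem_zpowers_iff.1 hx
    rw [map_zpow]
    exact Subgroup.zpow_mem _ this k
  · obtain ⟨l', hlZ', hZeq', ⟨γ', hγ', hγu', hγl'⟩, hinv⟩ := key E hE
    have a1 : Subgroup.zpowers l ≤ Subgroup.zpowers l' := Subgroup.zpowers_le.2
      (mem_line D hu hu1 hlZ' (hZeq'.le hlZ) hγ' hγ hγu' hγu hγl' hγl)
    have a2 : Subgroup.zpowers l' ≤ Subgroup.zpowers l := Subgroup.zpowers_le.2
      (mem_line D hu hu1 hlZ (hZeq.le hlZ') hγ hγ' hγu hγu' hγl hγl')
    rw [le_antisymm a1 a2]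
    exact ⟨Subgroup.zpowers_le.2 (zOne_le hE hlZ'), hinv⟩

variable {E1 E2 : Subgroup G} (h1 : D.IsEss E1) (hm : Moved D E1) (h2 : D.IsEss E2) {v : G}
  (hv : v ∈ vSub D E1) (hv2 : v ∉ E2)
include h1 hm h2 hv hv2

theorem false_of_fixed (hcore : D.CoreFree) (hfix : ∀ e ∈ E2, ∀ w ∈ vSub D E1, w ∈ E2 → Commute e w) : False := by
  haveI := D.normal h1
  haveI := D.normal h2
  haveI := vSub_normal h1
  have hVel : IsElementaryAbelian p (vSub D E1) := vSub_elem
  have hvp : v ^ p = 1 := hVel.2 v hv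
  have hvE1 : v ∈ E1 := vSub_le_E D E1 hv
  have hve : ∀ x ∈ E1, Commute v x := fun x hx => (vSub_commute hv hx).symm
  have hW : ∀ w ∈ vSub D E1, w ∈ E2 → w ∈ zOne p G := fun w hw hw2 =>
    ⟨mem_center_of h2 hv2 (fun e he => hfix e he w hw hw2) (hve w (vSub_le_E D E1 hw)), hVel.2 w hw⟩
  have hVsup : vSub D E1 = zOne p G ⊔ Subgroup.zpowers v := by
    refine le_antisymm (fun x hx => ?_) (sup_le (zOne_le_vSub h1) (Subgroup.zpowers_le.2 hv))
    obtain ⟨e, he, i, rfl⟩ := exists_decomp h2 hv2 x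
    exact mul_mem (Subgroup.mem_sup_left (hW e (by
      simpa using mul_mem hx (inv_mem (Subgroup.zpow_mem _ hv i))) he))
      (Subgroup.mem_sup_right (Subgroup.zpow_mem _ (Subgroup.mem_zpowers v) i))
  have hvc : ∀ x : G, ⁅v, x⁆ ∈ zOne p G := fun x => hW _ (by
    rw [show ⁅v, x⁆ = v * (x * v * x⁻¹)⁻¹ by rw [commutatorElement_def]; group]
    exact mul_mem hv (inv_mem (Subgroup.Normal.conj_mem inferInstance v hv x))) (comm_mem_E h2 _ _)
  -- an element of `E2` outside `E1`
  have hnot : ¬ vSub D E2 ≤ E1 := fun hle => by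
    refine hv2 (mem_of_stab h2 (U := zOne p G) (fun α hα x hx => ?_) (fun x _ hx => zOne_commute hx v)
      fun x _ => ?_)
    · have hy : (α x : G) ∈ vSub D E2 := Subgroup.subset_closure ⟨α, hα, x, hx, rfl⟩
      exact ⟨mem_center_of h2 hv2 (fun e he => vSub_commute hy he) (hve _ (hle hy)),
        (vSub_elem (E := E2)).2 _ hy⟩
    · rw [show x⁻¹ * (v * x * v⁻¹) = ⁅v, x⁻¹⁆⁻¹ by rw [commutatorElement_def]; group]
      exact inv_mem (hvc _)
  obtain ⟨v', hv', hv'1⟩ := SetLike.not_le_iff_exists.1 hnot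
  have hv'2 : v' ∈ E2 := vSub_le_E D E2 hv'
  have hv'p : v' ^ p = 1 := (vSub_elem (E := E2)).2 v' hv'
  have hv'e : ∀ x ∈ E2, Commute v' x := fun x hx => (vSub_commute hv' hx).symm
  set u := ⁅v, v'⁆ with hudef
  have hu : u ∈ zOne p G := hvc v'
  have hu1 : u ≠ 1 := fun h => hv'1 (center_le h1 (mem_center_of h2 hv2
    (fun e he => vSub_commute hv' he) (commutatorElement_eq_one_iff_commute.1 h)))
  set D0 := E1 ⊓ E2 with hD0
  haveI : D0.Normal := by rw [hD0]; infer_instance
  have hdec : ∀ g : G, ∃ d ∈ D0, ∃ i j : ℤ, g = d * v' ^ j * v ^ i := by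
    intro g
    obtain ⟨e, he, i, rfl⟩ := exists_decomp h2 hv2 g
    obtain ⟨x, hx, j, rfl⟩ := exists_decomp h1 hv'1 e
    exact ⟨x, ⟨hx, by simpa using mul_mem he (inv_mem (Subgroup.zpow_mem _ hv'2 j))⟩, i, j, rfl⟩
  haveI huN : (Subgroup.zpowers u).Normal := ⟨fun x hx g => by
    obtain ⟨k, rfl⟩ := Subgroup.mem_zpowers_iff.1 hx
    rwa [((zOne_commute hu g).zpow_right k).eq, mul_inv_cancel_right]⟩
  set K := fr p D0 ⊔ Subgroup.zpowers u with hK
  haveI : K.Normal := by rw [hK]; infer_instance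
  have hKD : K ≤ D0 := sup_le fr_le (Subgroup.zpowers_le.2 ⟨zOne_le h1 hu, zOne_le h2 hu⟩)
  set s : Set G := (D0 : Set G) ∪ {v, v'}
  have hgen : Subgroup.closure s = ⊤ := by
    rw [eq_top_iff]
    intro g _
    obtain ⟨d, hd, i, j, rfl⟩ := hdec g
    have hvs : v ∈ Subgroup.closure s := Subgroup.subset_closure (Or.inr (Or.inl rfl))
    have hv's : v' ∈ Subgroup.closure s := Subgroup.subset_closure (Or.inr (Or.inr rfl))
    exact mul_mem (mul_mem (Subgroup.subset_closure (Or.inl hd))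
      (Subgroup.zpow_mem _ hv's j)) (Subgroup.zpow_mem _ hvs i)
  have hvd : ∀ d ∈ D0, Commute v d := fun d hd => hve d hd.1
  have hv'd : ∀ d ∈ D0, Commute v' d := fun d hd => hv'e d hd.2
  have hc1 : ∀ {a b : G}, Commute a b → ∀ L : Subgroup G, ⁅a, b⁆ ∈ L := fun {a b} h L => by
    rw [commutatorElement_eq_one_iff_commute.2 h]; exact one_mem _
  have hsmall : Nat.card D0 ≤ Nat.card K * p := by
    by_contra hbig
    have hD2 : Nat.card K * p ^ 2 ≤ Nat.card D0 := by
      obtain ⟨i, hi⟩ := IsPGroup.iff_card.1 (D.pgroup.to_subgroup K)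
      obtain ⟨j, hj⟩ := IsPGroup.iff_card.1 (D.pgroup.to_subgroup D0)
      rw [_root_.not_le, hi, hj, ← pow_succ, Nat.pow_lt_pow_iff_right hp.out.one_lt] at hbig
      rw [hi, hj, ← pow_add]
      exact Nat.pow_le_pow_right hp.out.pos hbig
    refine false_of_gen D.pgroup D.rank (K := K) (s := s) ?_ ?_ ?_
    · rintro a (ha | rfl | rfl) b (hb | rfl | rfl)
      exacts [Subgroup.mem_sup_left (comm_mem_fr ha hb), hc1 (hvd a ha).symm _, hc1 (hv'd a ha).symm _,
        hc1 (hvd b hb) _, hc1 (Commute.refl _) _, Subgroup.mem_sup_right (Subgroup.mem_zpowers u),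
        hc1 (hv'd b hb) _, by
          rw [← commutatorElement_inv]; exact inv_mem (Subgroup.mem_sup_right (Subgroup.mem_zpowers u)),
        hc1 (Commute.refl _) _]
    · rintro a (ha | rfl | rfl)
      exacts [Subgroup.mem_sup_left (pow_mem_fr ha), by rw [hvp]; exact one_mem _,
        by rw [hv'p]; exact one_mem _]
    · rw [hgen, sup_top_eq, Subgroup.card_top, ← card_E_mul h2]
      have hlt : D0 < E2 := lt_of_le_of_ne inf_le_right fun h => hv'1 (h.ge hv'2).1
      have := card_mul_le' D.pgroup hlt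
      calc Nat.card K * p ^ 4 = Nat.card K * p ^ 2 * p * p := by ring
        _ ≤ Nat.card E2 * p := Nat.mul_le_mul_right _ ((Nat.mul_le_mul_right _ hD2).trans this)
  have hDab : ∀ a ∈ D0, ∀ b ∈ D0, Commute a b := by
    obtain ⟨c, hc⟩ : ∃ c, D0 = K ⊔ Subgroup.zpowers c := by
      by_cases h : D0 = K
      · exact ⟨1, by rw [Subgroup.zpowers_one_eq_bot, sup_bot_eq]; exact h⟩
      · obtain ⟨c, hc, hcK⟩ := SetLike.exists_of_lt (lt_of_le_of_ne hKD (Ne.symm h))
        exact ⟨c, eq_sup_zpowers D.pgroup hKD hsmall hc hcK⟩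
    have hgenD : D0 ≤ Subgroup.zpowers u ⊔ Subgroup.zpowers c := by
      have hle : Subgroup.zpowers u ⊔ Subgroup.zpowers c ≤ D0 :=
        sup_le ((le_sup_right : _ ≤ K).trans hKD) (hc ▸ le_sup_right)
      have htop : (Subgroup.zpowers u ⊔ Subgroup.zpowers c).subgroupOf D0 ⊔ frattini D0 = ⊤ := by
        refine Subgroup.map_injective D0.subtype_injective ?_
        rw [Subgroup.map_sup, Subgroup.map_subgroupOf_eq_of_le hle, ← fr_top_eq_frattini (p := p)
          (D.pgroup.to_subgroup D0), map_fr, ← MonoidHom.range_eq_map, Subgroup.range_subtype]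
        conv_rhs => rw [hc, hK]
        ac_rfl
      exact Subgroup.subgroupOf_eq_top.1 (frattini_nongenerating htop)
    intro a ha b hb
    obtain ⟨x, hx, i, rfl⟩ := exists_of_mem_sup (hgenD ha)
    obtain ⟨y, hy, j, rfl⟩ := exists_of_mem_sup (hgenD hb)
    have hcu : ∀ w ∈ Subgroup.zpowers u, ∀ g : G, Commute g w := fun w hw g => by
      obtain ⟨k, rfl⟩ := Subgroup.mem_zpowers_iff.1 hw
      exact (zOne_commute hu g).zpow_right k
    exact ((hcu y hy _).mul_right ((hcu x hx _).symm.mul_left ((Commute.refl c).zpow_zpow i j)))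
  have hDc : ∀ d ∈ D0, d ∈ Subgroup.center G := fun d hd => Subgroup.mem_center_iff.2 fun g => by
    obtain ⟨x, hx, i, j, rfl⟩ := hdec g
    exact (((hDab x hx d hd).mul_left ((hv'd d hd).zpow_left j)).mul_left ((hvd d hd).zpow_left i)).eq
  have hcD : Subgroup.center G ≤ D0 := le_inf (center_le h1) (center_le h2)
  have hcomm : ∀ g h : G, ⁅g, h⁆ ∈ Subgroup.zpowers u := by
    have hle : commutator G ≤ Subgroup.zpowers u := by
      refine FusionOrderFive.commutator_le_of_generators _ hgen ?_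
      rintro a (ha | rfl | rfl) b (hb | rfl | rfl)
      exacts [hc1 (hDab a ha b hb) _, hc1 (hvd a ha).symm _, hc1 (hv'd a ha).symm _,
        hc1 (hvd b hb) _, hc1 (Commute.refl _) _, Subgroup.mem_zpowers u,
        hc1 (hv'd b hb) _, by rw [← commutatorElement_inv]; exact inv_mem (Subgroup.mem_zpowers u),
        hc1 (Commute.refl _) _]
    exact fun g h => hle (Subgroup.commutator_mem_commutator (Subgroup.mem_top g) (Subgroup.mem_top h))
  have htwo : Two p (⊤ : Subgroup G) := by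
    refine ⟨fun a _ b _ x _ => ?_, fun a _ b _ => ?_⟩
    · obtain ⟨k, hk⟩ := Subgroup.mem_zpowers_iff.1 (hcomm a b)
      rw [← hk]
      exact ((zOne_commute hu x).zpow_right k).symm
    · obtain ⟨k, hk⟩ := Subgroup.mem_zpowers_iff.1 (hcomm a b)
      rw [← hk, ← zpow_natCast, ← zpow_mul, mul_comm, zpow_mul, zpow_natCast, hu.2, one_zpow]
  have hzp : ∀ (x : G) (i : ℤ), x ^ p = 1 → (x ^ i) ^ p = 1 := fun x i h => by
    rw [← zpow_natCast, ← zpow_mul, mul_comm, zpow_mul, zpow_natCast, h, one_zpow]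
  have hpow : ∀ g : G, g ^ p ∈ pw p D0 := by
    intro g
    obtain ⟨d, hd, i, j, rfl⟩ := hdec g
    rw [htwo.mul_pow_eq D.odd (Subgroup.mem_top _) (Subgroup.mem_top _),
      htwo.mul_pow_eq D.odd (Subgroup.mem_top _) (Subgroup.mem_top _), hzp v' j hv'p, hzp v i hvp,
      mul_one, mul_one]
    exact pow_mem_pw hd
  have hexp : pw p D0 = ⊥ := by
    by_contra hne
    refine hcore _ hne (fun σ _ x hx => ?_) fun E hE => ⟨pw_le.trans (fun d hd => center_le hE (hDc d hd)),
      fun α _ x hx => ?_⟩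
    · have h := Subgroup.mem_map_of_mem σ.toMonoidHom hx
      rw [map_pw] at h
      refine pw_mono ?_ h
      rintro _ ⟨d, hd, rfl⟩
      refine hcD (Subgroup.mem_center_iff.2 fun g => ?_)
      obtain ⟨g, rfl⟩ := σ.surjective g
      show σ g * σ d = σ d * σ g
      rw [← map_mul, ← map_mul, Subgroup.mem_center_iff.1 (hDc d hd) g]
    · -- the powers of the elements of `E` are powers of central elements
      have hle : pw p D0 ≤ ((pw p D0).comap (E.subtype.comp α.toMonoidHom)).map E.subtype := by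
        refine (Subgroup.closure_le _).2 ?_
        rintro _ ⟨d, hd, rfl⟩
        refine ⟨(⟨d, center_le hE (hDc d hd)⟩ : E) ^ p, ?_, rfl⟩
        show ((α (_ ^ p) : E) : G) ∈ pw p D0
        rw [map_pow, SubgroupClass.coe_pow]
        exact hpow _
      obtain ⟨y, hy, hyx⟩ := hle hx
      obtain rfl : y = x := Subtype.ext hyx
      exact hy
  have hpow1 : ∀ g : G, g ^ p = 1 := fun g => Subgroup.mem_bot.1 (hexp ▸ hpow g)
  have hDZ : D0 = zOne p G := le_antisymm (fun d hd => ⟨hDc d hd, hpow1 d⟩)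
    fun x hx => hcD hx.1
  -- orders
  have hlt : zOne p G < vSub D E1 := lt_vSub h1 hm
  have hGle : Nat.card G ≤ Nat.card (zOne p G) * p ^ 2 := by
    have e1 : E1 ≤ zOne p G ⊔ Subgroup.zpowers v := fun x hx => by
      obtain ⟨d, hd, i, rfl⟩ := exists_decomp h2 hv2 x
      refine mul_mem (Subgroup.mem_sup_left (hDZ.le ⟨?_, hd⟩))
        (Subgroup.mem_sup_right (Subgroup.zpow_mem _ (Subgroup.mem_zpowers v) i))
      simpa using mul_mem hx (inv_mem (Subgroup.zpow_mem _ hvE1 i))
    rw [← card_E_mul h1, sq, ← mul_assoc]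
    exact Nat.mul_le_mul_right _ ((Subgroup.card_le_of_le e1).trans
      (card_sup_zpowers_le (by rw [hvp]; exact one_mem _)))
  rcases card_zOne_cases D hVel hlt with hz | ⟨hz, hV3⟩
  · -- order at most `p ^ 3`
    refine D.rank' (fun a b c => by
      obtain ⟨k, hk⟩ := Subgroup.mem_zpowers_iff.1 (hcomm a b)
      rw [← hk, commutatorElement_eq_one_iff_commute.2 ((zOne_commute hu c).zpow_right k).symm])
      (SectRank.sectionalPRankLE_of_forall fun N H hs => ?_)
    have hm' := SectRank.card_mul_relIndex_of_le N H hs.le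
    have hH : Nat.card H ≤ p ^ 3 := by
      refine (Subgroup.card_le_card_group H).trans (hGle.trans ?_)
      rw [hz, ← pow_succ']
    obtain ⟨a, ha⟩ := IsPGroup.iff_card.1 (D.pgroup.to_subgroup N)
    obtain ⟨b, hb⟩ := IsPGroup.iff_card.1 (D.pgroup.to_subgroup H)
    rw [ha, hb] at hm'
    obtain ⟨r, -, hr⟩ := (Nat.dvd_prime_pow hp.out).1 (Dvd.intro_left _ hm')
    rw [hr] at hm' ⊢
    rw [← pow_add] at hm'
    rw [hb, Nat.pow_le_pow_iff_right hp.out.one_lt] at hH
    have hab := Nat.pow_right_injective hp.out.two_le hm'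
    refine Nat.pow_le_pow_right hp.out.pos ?_
    by_contra hr3
    have hN : N = ⊥ := Subgroup.card_eq_one.1 (by rw [ha, show a = 0 by omega, pow_zero])
    have hHt : H = ⊤ := Subgroup.eq_top_of_card_eq H (le_antisymm (Subgroup.card_le_card_group H) (by
      rw [hb, show b = 3 by omega]
      refine hGle.trans ?_
      rw [hz, ← pow_succ']))
    refine hu1 ?_
    have h := hs.comm v (hHt ▸ Subgroup.mem_top v) v' (hHt ▸ Subgroup.mem_top v')
    rw [hN, Subgroup.mem_bot] at h
    exact h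
  · refine false_of_small D hcore hu hu1 hcomm hpow1 hz (le_antisymm ?_ ?_) h1
    · exact hGle.trans (by rw [hz, ← pow_add])
    · rw [← card_E_mul h1, show p ^ 4 = p ^ 3 * p by ring, ← hV3]
      exact Nat.mul_le_mul_right _ (Subgroup.card_le_of_le (vSub_le_E D E1))

end NormalSys

end Cfsg.Agent.Lib.RankThreeNormal61
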