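import Mathlib
import Cfsg.Agent.Lib.RankThreeNormal61.Block
import Cfsg.Agent.Lib.RankThreeNormal61.Tools
import Cfsg.Agent.Lib.RankThreeEss69.Setup
import Cfsg.Agent.Lib.FusionOrderFive.Setup

/-!
A moved plane commutes with its images under the essential subgroups which keep the centre, unless
the group is a Sylow subgroup of `Sp₄(p)`.
-/

set_option autoImplicit false
set_option linter.unusedSectionVars false

namespace Cfsg.Agent.Lib.RankThreeNormal61

open Cfsg Cfsg.Agent.Lib Cfsg.Agent.Lib.RankThreeEss69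
open scoped commutatorElement

universe u

variable {G : Type u} [Group G] [Finite G] {p : ℕ} [hp : Fact p.Prime] {D : NormalSys p G}

/-- A subgroup which is cyclic over its Frattini part and a central subgroup is abelian. -/
theorem comm_of_cyclic_mod (hG : IsPGroup p G) {C Q : Subgroup G} (hQC : Q ≤ C)
    (hQ : ∀ q ∈ Q, ∀ c ∈ C, Commute q c) (hcard : Nat.card C ≤ Nat.card (fr p C ⊔ Q : Subgroup G) * p) :
    ∀ a ∈ C, ∀ b ∈ C, Commute a b := by
  set K := fr p C ⊔ Q with hK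
  have hKC : K ≤ C := sup_le fr_le hQC
  obtain ⟨c, hc⟩ : ∃ c, C = K ⊔ Subgroup.zpowers c := by
    by_cases h : C = K
    · exact ⟨1, by rw [Subgroup.zpowers_one_eq_bot, sup_bot_eq]; exact h⟩
    · obtain ⟨c, hc, hcK⟩ := SetLike.exists_of_lt (lt_of_le_of_ne hKC (Ne.symm h))
      exact ⟨c, eq_sup_zpowers hG hKC hcard hc hcK⟩
  have hcC : c ∈ C := hc ▸ Subgroup.mem_sup_right (Subgroup.mem_zpowers c)
  have hle : Q ⊔ Subgroup.zpowers c ≤ C := sup_le hQC (Subgroup.zpowers_le.2 hcC)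
  have htop : (Q ⊔ Subgroup.zpowers c).subgroupOf C ⊔ frattini C = ⊤ := by
    refine Subgroup.map_injective C.subtype_injective ?_
    rw [Subgroup.map_sup, Subgroup.map_subgroupOf_eq_of_le hle, ← fr_top_eq_frattini (p := p)
      (hG.to_subgroup C), map_fr, ← MonoidHom.range_eq_map, Subgroup.range_subtype]
    conv_rhs => rw [hc, hK]
    ac_rfl
  have hgen : C ≤ Q ⊔ Subgroup.zpowers c := Subgroup.subgroupOf_eq_top.1 (frattini_nongenerating htop)
  intro a ha b hb
  have e : Q ⊔ Subgroup.zpowers c = Subgroup.closure ((Q : Set G) ∪ {c}) := by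
    rw [Subgroup.closure_union, Subgroup.closure_eq, Subgroup.zpowers_eq_closure]
  refine FusionOrderFive.comm_closure ?_ a (e ▸ hgen ha) b (e ▸ hgen hb)
  rintro x (hx | rfl) y (hy | rfl)
  exacts [(hQ x hx y (hQC hy)).eq, (hQ x hx _ hcC).eq, (hQ y hy _ hcC).eq.symm, rfl]

namespace NormalSys

theorem block_of_not_commute {E1 E2 : Subgroup G} (h1 : D.IsEss E1) (hm : Moved D E1)
    (hV : Nat.card (vSub D E1) = p ^ 2) (h2 : D.IsEss E2) (hu2 : ¬ Moved D E2)
    (hVE : vSub D E1 ≤ E2) {α : MulAut E2} (hα : α ∈ D.aut E2) {x : E2} (hx : (x : G) ∈ vSub D E1)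
    {v : G} (hv : v ∈ vSub D E1) (hev : ¬ Commute (α x : G) v) :
    (∃ e v u z : G, BlockRel p e v u z) ∧ Nat.card G = p ^ 4 := by
  haveI := D.normal h1
  haveI := D.normal h2
  haveI := vSub_normal h1
  set V := vSub D E1
  set e : G := (α x : G) with hedef
  have hVel : IsElementaryAbelian p V := vSub_elem
  have hlt : zOne p G < V := lt_vSub h1 hm
  have hZc : Nat.card (zOne p G) = p := by
    rcases card_zOne_cases D hVel hlt with hz | ⟨-, h3⟩
    · exact hz
    · rw [hV] at h3; exact absurd (Nat.pow_right_injective hp.out.two_le h3) (by norm_num)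
  have hpp : p * p = p ^ 2 := (sq p).symm
  have hstepV : Nat.card V ≤ Nat.card (zOne p G) * p := by rw [hV, hZc, hpp]
  have hvE1 : v ∈ E1 := vSub_le_E D E1 hv
  have hvZ : v ∉ zOne p G := fun h => hev (zOne_commute h e)
  have hzgen : ∀ z ∈ zOne p G, z ≠ 1 → zOne p G = Subgroup.zpowers z := fun z hz hz1 =>
    (Subgroup.eq_of_le_of_card_ge (Subgroup.zpowers_le.2 hz)
      (by rw [hZc, Nat.card_zpowers, orderOf_eq_prime hz.2 hz1])).symm
  have he2 : e ∈ E2 := (α x).2
  have he1 : e ∉ E1 := fun h => hev (vSub_commute hv h)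
  have hep : e ^ p = 1 := by
    rw [hedef, ← SubmonoidClass.coe_pow, ← map_pow,
      show x ^ p = 1 from Subtype.ext (by rw [SubmonoidClass.coe_pow, hVel.2 _ hx, OneMemClass.coe_one]),
      map_one, OneMemClass.coe_one]
  have hcenV : ∀ y ∈ V, Commute e y → y ∈ zOne p G := fun y hy hey =>
    ⟨mem_center_of h1 he1 (fun a ha => vSub_commute hy ha) hey, hVel.2 y hy⟩
  -- the image of the plane
  set V2 := ((V.subgroupOf E2).map α.toMonoidHom).map E2.subtype with hV2
  have heV2 : e ∈ V2 := Subgroup.mem_map_of_mem _ (Subgroup.mem_map_of_mem _ hx)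
  have hV2el : IsElementaryAbelian p V2 :=
    ElemAbelian.map (ElemAbelian.map (ElemAbelian.comap hVel (f := E2.subtype) E2.subtype_injective) _) _
  have hV2n : ∀ a ∈ E2, ∀ y ∈ V2, a * y * a⁻¹ ∈ V2 := by
    rintro a ha _ ⟨_, ⟨y, hy, rfl⟩, rfl⟩
    refine ⟨α (α⁻¹ ⟨a, ha⟩ * y * (α⁻¹ ⟨a, ha⟩)⁻¹), Subgroup.mem_map_of_mem _
      (show ((α⁻¹ ⟨a, ha⟩ : E2) : G) * (y : G) * ((α⁻¹ ⟨a, ha⟩ : E2) : G)⁻¹ ∈ V from
        Subgroup.Normal.conj_mem inferInstance _ hy _), ?_⟩
    rw [map_mul α, map_mul α, map_inv α, MulAut.apply_inv_self]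
    rfl
  have hZV2 : zOne p G ≤ V2 := fun z hz => by
    have h := (not_moved_iff h2).1 hu2 _ ((D.aut E2).inv_mem hα) ⟨z, zOne_le h2 hz⟩ hz
    exact ⟨α (α⁻¹ ⟨z, zOne_le h2 hz⟩), Subgroup.mem_map_of_mem _ (zOne_le_vSub h1 h), by
      rw [MulAut.apply_inv_self]; rfl⟩
  have hV2c : Nat.card V2 = p ^ 2 := by
    rw [hV2, Subgroup.card_map_of_injective E2.subtype_injective,
      Subgroup.card_map_of_injective (f := α.toMonoidHom) (MulEquiv.injective α),
      Nat.card_congr (Subgroup.subgroupOfEquivOfLe hVE).toEquiv, hV]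
  have heZ : e ∉ zOne p G := fun h => hev (zOne_commute h v).symm
  have hmeet : ∀ y ∈ V2, y ∈ E1 → y ∈ zOne p G := by
    intro y hy hy1
    rw [eq_sup_zpowers D.pgroup hZV2 (by rw [hV2c, hZc, hpp]) heV2 heZ] at hy
    obtain ⟨z, hz, i, rfl⟩ := exists_of_mem_sup hy
    have hi : e ^ i ∈ E1 := by
      simpa using E1.mul_mem (E1.inv_mem (zOne_le h1 hz)) hy1
    have h0 : (i : ZMod p) = 0 := by_contra fun h0 =>
      he1 (mem_of_zpow (p := p) (by rw [hep]; exact one_mem _) h0 hi)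
    rw [zpow_congr_mod hep (show (i : ZMod p) = ((0 : ℤ) : ZMod p) by rw [h0, Int.cast_zero]), zpow_zero,
      mul_one]
    exact hz
  set z0 := ⁅e, v⁆ with hz0
  have hz0Z : z0 ∈ zOne p G := by
    refine hcenV _ ?_ ?_
    · rw [hz0, commutatorElement_def]
      exact mul_mem (Subgroup.Normal.conj_mem inferInstance v hv e) (inv_mem hv)
    · have h : z0 ∈ V2 := by
        rw [show z0 = e * (v * e⁻¹ * v⁻¹) by rw [hz0, commutatorElement_def]; group]
        exact mul_mem heV2 (hV2n v (hVE hv) _ (inv_mem heV2))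
      exact ElemAbelian.comm hV2el heV2 h
  have hz01 : z0 ≠ 1 := fun h => hev (commutatorElement_eq_one_iff_commute.1 h)
  set D0 := E1 ⊓ E2 with hD0
  haveI : D0.Normal := by rw [hD0]; infer_instance
  have hvD : v ∈ D0 := ⟨hvE1, hVE hv⟩
  have heD : ∀ d ∈ D0, ⁅e, d⁆ ∈ zOne p G := fun d hd => hmeet _ (by
    rw [show ⁅e, d⁆ = e * (d * e⁻¹ * d⁻¹) by rw [commutatorElement_def]; group]
    exact mul_mem heV2 (hV2n d hd.2 _ (inv_mem heV2))) (comm_mem_E h1 _ _)
  set C := D0 ⊓ Subgroup.centralizer ({e} : Set G) with hC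
  have hmemC : ∀ {d : G}, d ∈ C ↔ d ∈ D0 ∧ Commute e d := fun {d} =>
    ⟨fun h => ⟨h.1, Subgroup.mem_centralizer_iff.1 h.2 e rfl⟩,
      fun h => ⟨h.1, Subgroup.mem_centralizer_iff.2 fun y hy => by
        obtain rfl : y = e := hy
        exact h.2.eq⟩⟩
  have hve : ∀ a ∈ E1, Commute v a := fun a ha => (vSub_commute hv ha).symm
  have hdecD : ∀ d ∈ D0, ∃ c ∈ C, ∃ k : ℤ, d = c * v ^ k := by
    intro d hd
    obtain ⟨k, hk⟩ := Subgroup.mem_zpowers_iff.1 ((hzgen z0 hz0Z hz01).le (heD d hd))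
    refine ⟨d * (v ^ k)⁻¹, hmemC.2 ⟨mul_mem hd (inv_mem (Subgroup.zpow_mem _ hvD k)), ?_⟩, k,
      by rw [inv_mul_cancel_right]⟩
    refine mul_inv_eq_iff_eq_mul.1 ?_
    calc e * (d * (v ^ k)⁻¹) * e⁻¹ = (e * d * e⁻¹) * ((e * v * e⁻¹) ^ k)⁻¹ := by rw [conj_zpow]; group
      _ = ⁅e, d⁆ * d * ((z0 * v) ^ k)⁻¹ := by rw [conj_eq_comm_mul, conj_eq_comm_mul, hz0]
      _ = _ := by
        rw [((zOne_commute hz0Z v).symm).mul_zpow, ← hk, mul_inv_rev]
        have hc : Commute (z0 ^ k) (d * (v ^ k)⁻¹) := ((zOne_commute hz0Z _).symm).zpow_left k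
        rw [← mul_assoc, mul_assoc (z0 ^ k) d, hc.eq, mul_assoc (d * (v ^ k)⁻¹), mul_inv_cancel, mul_one]
  have hZC : zOne p G ≤ C := fun z hz => hmemC.2 ⟨⟨zOne_le h1 hz, zOne_le h2 hz⟩, zOne_commute hz e⟩
  have hvC : v ∉ C := fun h => hev (hmemC.1 h).2
  -- `C` is normalised by `E2`
  have hCn : ∀ a ∈ E2, ∀ c ∈ C, a * c * a⁻¹ ∈ C := by
    intro a ha c hc
    refine hmemC.2 ⟨Subgroup.Normal.conj_mem inferInstance c hc.1 a, ?_⟩
    have h : ⁅a⁻¹, e⁆ ∈ zOne p G := hmeet _ (by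
      rw [commutatorElement_def]
      exact mul_mem (hV2n _ (inv_mem ha) e heV2) (inv_mem heV2)) (comm_mem_E h1 _ _)
    have h2 : Commute (a⁻¹ * e * a⁻¹⁻¹) c := by
      rw [conj_eq_comm_mul]
      exact ((zOne_commute h c).symm).mul_left (hmemC.1 hc).2
    have h3 := h2.map (MulAut.conj a).toMonoidHom
    simpa [mul_assoc] using h3
  -- `C` is abelian
  have hCab : ∀ a ∈ C, ∀ b ∈ C, Commute a b := by
    refine comm_of_cyclic_mod D.pgroup hZC (fun q hq c _ => (zOne_commute hq c).symm) ?_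
    by_contra hbig
    have hC2 : C ≤ E2 := fun c hc => hc.1.2
    haveI : Finite E2 := inferInstance
    haveI : (C.subgroupOf E2).Normal := ⟨fun c hc a => hCn a a.2 _ hc⟩
    haveI : ((zOne p G).subgroupOf E2).Normal := inferInstance
    set K := fr p (C.subgroupOf E2) ⊔ (zOne p G).subgroupOf E2 with hK
    haveI : K.Normal := by rw [hK]; infer_instance
    have hKmap : K.map E2.subtype = fr p C ⊔ zOne p G := by
      rw [hK, Subgroup.map_sup, map_fr, Subgroup.map_subgroupOf_eq_of_le hC2,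
        Subgroup.map_subgroupOf_eq_of_le (zOne_le h2)]
    set K' := fr p C ⊔ zOne p G with hK'
    have hKc : Nat.card K = Nat.card K' := by
      rw [← hKmap, Subgroup.card_map_of_injective E2.subtype_injective]
    have hD2 : Nat.card K' * p ^ 2 ≤ Nat.card C := by
      obtain ⟨i, hi⟩ := IsPGroup.iff_card.1 (D.pgroup.to_subgroup K')
      obtain ⟨j, hj⟩ := IsPGroup.iff_card.1 (D.pgroup.to_subgroup C)
      rw [_root_.not_le, hi, hj, ← pow_succ, Nat.pow_lt_pow_iff_right hp.out.one_lt] at hbig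
      rw [hi, hj, ← pow_add]
      exact Nat.pow_le_pow_right hp.out.pos hbig
    set s : Set E2 := (C.subgroupOf E2 : Set E2) ∪ {⟨v, hVE hv⟩, ⟨e, he2⟩}
    have hz0K : ∀ z : E2, (z : G) ∈ zOne p G → z ∈ K := fun z hz => Subgroup.mem_sup_right hz
    have hc1 : ∀ {a b : E2}, Commute (a : G) b → ⁅a, b⁆ ∈ K := fun {a b} h => by
      rw [commutatorElement_eq_one_iff_commute.2 (Subtype.ext h.eq)]; exact one_mem _
    refine false_of_gen (D.pgroup.to_subgroup E2)
      (sectionalPRankLE_of_injective D.rank E2.subtype E2.subtype_injective) (K := K) (s := s) ?_ ?_ ?_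
    · rintro a (ha | rfl | rfl) b (hb | rfl | rfl)
      exacts [Subgroup.mem_sup_left (comm_mem_fr ha hb), hc1 (hve _ ha.1.1).symm, hc1 (hmemC.1 ha).2.symm,
        hc1 (hve _ hb.1.1), hc1 (Commute.refl _),
        hz0K _ (by
          show ⁅v, e⁆ ∈ zOne p G
          rw [← commutatorElement_inv]; exact inv_mem hz0Z),
        hc1 (hmemC.1 hb).2, hz0K _ hz0Z, hc1 (Commute.refl _)]
    · rintro a (ha | rfl | rfl)
      exacts [Subgroup.mem_sup_left (pow_mem_fr ha),
        hz0K _ (by rw [SubmonoidClass.coe_pow, hVel.2 v hv]; exact one_mem _),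
        hz0K _ (by rw [SubmonoidClass.coe_pow, hep]; exact one_mem _)]
    · have htop : Subgroup.closure s = ⊤ := by
        rw [eq_top_iff]
        intro a _
        obtain ⟨d, hd, i, had⟩ := exists_decomp h1 he1 a
        have hd2 : d ∈ E2 := by
          have : d = (a : G) * (e ^ i)⁻¹ := by rw [had, mul_inv_cancel_right]
          exact this ▸ mul_mem a.2 (inv_mem (Subgroup.zpow_mem _ he2 i))
        obtain ⟨c, hc, k, hdc⟩ := hdecD d ⟨hd, hd2⟩
        rw [show a = ⟨c, hC2 hc⟩ * ⟨v, hVE hv⟩ ^ k * ⟨e, he2⟩ ^ i from Subtype.ext (by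
          rw [Subgroup.coe_mul, Subgroup.coe_mul, SubgroupClass.coe_zpow, SubgroupClass.coe_zpow, had, hdc])]
        have hvs : (⟨v, hVE hv⟩ : E2) ∈ Subgroup.closure s := Subgroup.subset_closure (Or.inr (Or.inl rfl))
        have hes : (⟨e, he2⟩ : E2) ∈ Subgroup.closure s := Subgroup.subset_closure (Or.inr (Or.inr rfl))
        exact mul_mem (mul_mem (Subgroup.subset_closure (Or.inl hc))
          (Subgroup.zpow_mem _ hvs k)) (Subgroup.zpow_mem _ hes i)
      rw [htop, sup_top_eq, Subgroup.card_top, hKc]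
      have a1 := card_mul_le' D.pgroup (lt_of_le_of_ne (inf_le_left : C ≤ D0) fun h => hvC (h.ge hvD))
      have a2 := card_mul_le' D.pgroup (lt_of_le_of_ne (inf_le_right : D0 ≤ E2) fun h => he1 (h.ge he2).1)
      calc Nat.card K' * p ^ 4 = Nat.card K' * p ^ 2 * p * p := by ring
        _ ≤ Nat.card E2 := (Nat.mul_le_mul_right _ ((Nat.mul_le_mul_right _ hD2).trans a1)).trans a2
  have hD0ab : ∀ a ∈ D0, ∀ b ∈ D0, Commute a b := by
    intro a ha b hb
    obtain ⟨c, hc, k, rfl⟩ := hdecD a ha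
    obtain ⟨c', hc', k', rfl⟩ := hdecD b hb
    exact ((hCab c hc c' hc').mul_left ((hve c' hc'.1.1).zpow_left k)).mul_right
      (((hve c hc.1.1).symm.zpow_right k').mul_left ((Commute.refl v).zpow_zpow k k'))
  haveI : C.Normal := by
    refine ⟨fun c hc g => hmemC.2 ⟨Subgroup.Normal.conj_mem inferInstance c hc.1 g, ?_⟩⟩
    obtain ⟨d, hd, i, hdi⟩ := exists_decomp h1 he1 (g⁻¹ * e * g⁻¹⁻¹)
    have hd2 : d ∈ E2 := by
      have : d = g⁻¹ * e * g⁻¹⁻¹ * (e ^ i)⁻¹ := by rw [hdi, mul_inv_cancel_right]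
      exact this ▸ mul_mem (conj_mem_E h2 he2 _) (inv_mem (Subgroup.zpow_mem _ he2 i))
    have h2 : Commute (g⁻¹ * e * g⁻¹⁻¹) c := by
      rw [hdi]
      exact (hD0ab d ⟨hd, hd2⟩ c hc.1).mul_left ((hmemC.1 hc).2.zpow_left i)
    have h3 := h2.map (MulAut.conj g).toMonoidHom
    simpa [mul_assoc] using h3
  obtain ⟨r, hr1, hr2⟩ : ∃ r ∈ E1, r ∉ E2 := SetLike.not_le_iff_exists.1 fun hle => he1 (by
    rw [Subgroup.eq_of_le_of_card_ge hle
      (Nat.le_of_mul_le_mul_right (by rw [card_E_mul h1, card_E_mul h2]) hp.out.pos)]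
    exact he2)
  have hdec1 : ∀ a ∈ E1, ∃ d ∈ D0, ∃ i : ℤ, a = d * r ^ i := by
    intro a ha
    obtain ⟨d, hd, i, rfl⟩ := exists_decomp h2 hr2 a
    exact ⟨d, ⟨by simpa using mul_mem ha (inv_mem (Subgroup.zpow_mem _ hr1 i)), hd⟩, i, rfl⟩
  -- `E1` is abelian
  have hE1ab : ∀ a ∈ E1, ∀ b ∈ E1, Commute a b := by
    by_contra hna
    set N := ⁅E1, E1⁆ with hN
    have hdr : ∀ d ∈ D0, Commute (QuotientGroup.mk' C r) (QuotientGroup.mk' C d) := by
      intro d hd
      obtain ⟨c, hc, k, rfl⟩ := hdecD d hd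
      rw [map_mul, mk'_eq_one.2 hc, one_mul]
      exact ((hve r hr1).symm.zpow_right k).map _
    have hmk : ∀ a ∈ E1, ∀ b ∈ E1, ⁅a, b⁆ ∈ C := by
      intro a ha b hb
      obtain ⟨d, hd, i, rfl⟩ := hdec1 a ha
      obtain ⟨d', hd', j, rfl⟩ := hdec1 b hb
      refine comm_mem_iff.2 ?_
      simp only [map_mul, map_zpow]
      exact (((hD0ab d hd d' hd').map _).mul_left ((hdr d' hd').zpow_left i)).mul_right
        (((hdr d hd).symm.zpow_right j).mul_left ((Commute.refl _).zpow_zpow i j))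
    have hNC : N ≤ C := Subgroup.commutator_le.2 hmk
    have hNinv : D.Inv E1 N := by
      intro β hβ y hy
      have h : ((⁅(⊤ : Subgroup E1), (⊤ : Subgroup E1)⁆ : Subgroup E1).map β.toMonoidHom).map E1.subtype = N := by
        rw [hN, Subgroup.map_commutator, Subgroup.map_commutator, Subgroup.map_top_of_surjective _ β.surjective,
          ← MonoidHom.range_eq_map, Subgroup.range_subtype]
      have hy' : y ∈ ⁅(⊤ : Subgroup E1), (⊤ : Subgroup E1)⁆ := by
        have : N = (⁅(⊤ : Subgroup E1), (⊤ : Subgroup E1)⁆ : Subgroup E1).map E1.subtype := by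
          rw [hN, Subgroup.map_commutator, ← MonoidHom.range_eq_map, Subgroup.range_subtype]
        rw [this] at hy
        exact (Subgroup.mem_map_iff_mem E1.subtype_injective).1 hy
      rw [← h]
      exact Subgroup.mem_map_of_mem _ (Subgroup.mem_map_of_mem _ hy')
    haveI : N.Normal := by rw [hN]; infer_instance
    have hN1 : N ≠ ⊥ := fun h => hna fun a ha b hb => commutatorElement_eq_one_iff_commute.1
      (Subgroup.mem_bot.1 (h ▸ Subgroup.commutator_mem_commutator ha hb))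
    obtain ⟨z, hzN, hz, hz1⟩ := exists_mem_zOne D.pgroup (N := N) hN1
    have hZN : zOne p G ≤ N := (hzgen z hz hz1).le.trans (Subgroup.zpowers_le.2 hzN)
    refine hev (hmemC.1 (hNC ((Subgroup.closure_le N).2 ?_ hv))).2
    rintro _ ⟨β, hβ, y, hy, rfl⟩
    exact hNinv β hβ y (hZN hy)
  by_cases hpow : ∃ a ∈ E1, a ^ p ≠ 1
  · -- the powers would contain the plane
    exfalso
    let P : Subgroup G :=
      { carrier := {b | ∃ a ∈ E1, a ^ p = b}
        one_mem' := ⟨1, one_mem _, one_pow p⟩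
        mul_mem' := by
          rintro _ _ ⟨a, ha, rfl⟩ ⟨b, hb, rfl⟩
          exact ⟨a * b, mul_mem ha hb, (hE1ab a ha b hb).mul_pow p⟩
        inv_mem' := by
          rintro _ ⟨a, ha, rfl⟩
          exact ⟨a⁻¹, inv_mem ha, inv_pow a p⟩ }
    have hPinv : D.Inv E1 P := by
      rintro β - y ⟨a, ha, hay⟩
      refine ⟨(β ⟨a, ha⟩ : G), (β ⟨a, ha⟩).2, ?_⟩
      rw [← SubmonoidClass.coe_pow, ← map_pow, show (⟨a, ha⟩ : E1) ^ p = y from Subtype.ext hay]
    have hPE : P ≤ E1 := by rintro _ ⟨a, ha, rfl⟩; exact Subgroup.pow_mem _ ha p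
    haveI := normal_of_inv h1 hPE hPinv
    obtain ⟨a0, ha0, ha01⟩ := hpow
    have hP1 : P ≠ ⊥ := fun h => ha01 (Subgroup.mem_bot.1 (h ▸ ⟨a0, ha0, rfl⟩ : a0 ^ p ∈ (⊥ : Subgroup G)))
    obtain ⟨z, hzP, hz, hz1⟩ := exists_mem_zOne D.pgroup (N := P) hP1
    have hZP : zOne p G ≤ P := (hzgen z hz hz1).le.trans (Subgroup.zpowers_le.2 hzP)
    obtain ⟨a, ha, hav⟩ : v ∈ P := (Subgroup.closure_le P).2 (by
      rintro _ ⟨β, hβ, y, hy, rfl⟩
      exact hPinv β hβ y (hZP hy)) hv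
    set t := e * a * e⁻¹ * a⁻¹ with ht
    have ht2 : t ∈ D0 := ⟨comm_mem_E h1 e a, comm_mem_E h2 e a⟩
    have ha' : e * a * e⁻¹ = t * a := by rw [ht, inv_mul_cancel_right]
    have hta : Commute t a := hE1ab t ht2.1 a ha
    have hev' : e * v * e⁻¹ = t ^ p * v := by
      rw [← hav, ← conj_pow, ha', hta.mul_pow]
    have ht' := heD t ht2
    set z' := ⁅e, t⁆ with hz'
    have hit : ∀ n : ℕ, e ^ n * a * (e ^ n)⁻¹ = t ^ n * z' ^ n.choose 2 * a := by
      intro n
      induction n with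
      | zero => simp
      | succ n ih =>
        rw [pow_succ', mul_inv_rev, show e * e ^ n * a * ((e ^ n)⁻¹ * e⁻¹) =
          e * (e ^ n * a * (e ^ n)⁻¹) * e⁻¹ by group, ih,
          show e * (t ^ n * z' ^ n.choose 2 * a) * e⁻¹ =
            (e * t ^ n * e⁻¹) * (e * z' ^ n.choose 2 * e⁻¹) * (e * a * e⁻¹) by group,
          ← conj_pow, conj_eq_comm_mul (x := e) (y := t), ← hz', ha',
          ((zOne_commute ht' t).symm).mul_pow, ((zOne_commute ht' e).pow_right _).eq, mul_inv_cancel_right,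
          show (n + 1).choose 2 = n + n.choose 2 by rw [Nat.choose_succ_succ, Nat.choose_one_right],
          pow_succ t, pow_add]
        have c1 : Commute (z' ^ n) (t ^ n) := ((zOne_commute ht' t).symm.pow_pow n n)
        have c2 : Commute (z' ^ n * z' ^ n.choose 2) t := ((zOne_commute ht' t).symm.pow_left _).mul_left
          ((zOne_commute ht' t).symm.pow_left _)
        rw [show z' ^ n * t ^ n * z' ^ n.choose 2 * (t * a) = (z' ^ n * t ^ n) * (z' ^ n.choose 2 * t * a) by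
          simp only [mul_assoc], c1.eq]
        simp only [← mul_assoc]
        rw [mul_assoc (t ^ n) (z' ^ n), mul_assoc (t ^ n) (z' ^ n * z' ^ n.choose 2) t, c2.eq]
        simp only [← mul_assoc]
    have h := hit p
    obtain ⟨q, hq⟩ := hp.out.dvd_choose_self two_ne_zero (lt_of_le_of_ne hp.out.two_le (Ne.symm D.odd))
    rw [hep, one_mul, inv_one, mul_one, hq, pow_mul, ht'.2, one_pow, mul_one, right_eq_mul] at h
    rw [h, one_mul] at hev'
    exact hev (mul_inv_eq_iff_eq_mul.1 hev')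
  · -- the group is a Sylow subgroup of the symplectic group
    push Not at hpow
    have hel1 : IsElementaryAbelian p E1 :=
      ElemAbelian.of_comm_of_pow (fun a ha b hb => (hE1ab a ha b hb).eq) hpow
    have hrV : r ∉ V := fun h => hr2 (hVE h)
    have hltV : V < E1 := lt_of_le_of_ne (vSub_le_E D E1) fun h => hrV (h.ge hr1)
    have hE1c : Nat.card E1 = p ^ 3 := le_antisymm (card_elem_le D hel1) (by
      rw [pow_succ, ← hV]; exact card_mul_le' D.pgroup hltV)
    have hG : Nat.card G = p ^ 4 := by rw [← card_E_mul h1, hE1c, ← pow_succ]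
    refine ⟨?_, hG⟩
    have hD0V : D0 = V := by
      refine (Subgroup.eq_of_le_of_card_ge (le_inf (vSub_le_E D E1) hVE) ?_).symm
      have := card_mul_le' D.pgroup (lt_of_le_of_ne (inf_le_left : D0 ≤ E1) fun h => hr2 (h.ge hr1).2)
      rw [hE1c, pow_succ] at this
      rw [hV]
      exact Nat.le_of_mul_le_mul_right this hp.out.pos
    set d := r⁻¹ * (e * r * e⁻¹) with hd
    have hdV : d ∈ V := by
      rw [← hD0V]
      refine Subgroup.mem_inf.2 ⟨E1.mul_mem (E1.inv_mem hr1) (conj_mem_E h1 hr1 e), ?_⟩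
      rw [show d = ⁅r⁻¹, e⁆ by rw [hd, commutatorElement_def]; group]
      exact comm_mem_E h2 _ _
    have hdZ : d ∉ zOne p G := by
      intro hd0
      obtain ⟨k, hk⟩ := Subgroup.mem_zpowers_iff.1 ((hzgen z0 hz0Z hz01).le hd0)
      have hw : r * (v ^ k)⁻¹ ∈ E1 := mul_mem hr1 (inv_mem (Subgroup.zpow_mem _ hvE1 k))
      have hcom : Commute e (r * (v ^ k)⁻¹) := by
        refine mul_inv_eq_iff_eq_mul.1 ?_
        calc e * (r * (v ^ k)⁻¹) * e⁻¹ = (e * r * e⁻¹) * ((e * v * e⁻¹) ^ k)⁻¹ := by rw [conj_zpow]; group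
          _ = r * d * ((z0 * v) ^ k)⁻¹ := by rw [hd, mul_inv_cancel_left, conj_eq_comm_mul (x := e) (y := v), hz0]
          _ = _ := by
            rw [((zOne_commute hz0Z v).symm).mul_zpow, hk, mul_inv_rev, mul_assoc, ← mul_assoc d,
              ((zOne_commute hd0 _).symm).eq, mul_assoc, mul_inv_cancel, mul_one]
      refine hr2 ?_
      simpa using mul_mem (zOne_le h2
        (show r * (v ^ k)⁻¹ ∈ zOne p G from ⟨mem_center_of h1 he1 (fun a ha => hE1ab a ha _ hw) hcom,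
          hpow _ hw⟩)) (Subgroup.zpow_mem _ (hVE hv) k)
    set z := d⁻¹ * (e * d * e⁻¹) with hzdef
    have hzZ : z ∈ zOne p G := by
      rw [show z = ⁅d⁻¹, e⁆ by rw [hzdef, commutatorElement_def]; group, ← commutatorElement_inv]
      exact inv_mem (heD _ (hD0V.ge (inv_mem hdV)))
    have hz1 : z ≠ 1 := fun h => hdZ (hcenV d hdV (mul_inv_eq_iff_eq_mul.1 (inv_mul_eq_one.1 h).symm))
    refine ⟨e, r, d, z, ⟨hep, hpow r hr1, hVel.2 d hdV, hzZ.2, hE1ab r hr1 d (vSub_le_E D E1 hdV),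
      zOne_commute hzZ r, zOne_commute hzZ d, zOne_commute hzZ e, ?_, ?_, ?_⟩⟩
    · rw [hd, mul_inv_cancel_left]
    · rw [hzdef, mul_inv_cancel_left]
    · rw [eq_top_iff, ← sup_zpowers_eq_top h1 he1]
      have hcl : ∀ y ∈ ({e, r, d, z} : Set G), y ∈ Subgroup.closure ({e, r, d, z} : Set G) := fun y hy =>
        Subgroup.subset_closure hy
      have hVle : V ≤ Subgroup.closure ({e, r, d, z} : Set G) := by
        rw [eq_sup_zpowers D.pgroup hlt.le hstepV hdV hdZ, hzgen z hzZ hz1]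
        exact sup_le (Subgroup.zpowers_le.2 (hcl z (by simp))) (Subgroup.zpowers_le.2 (hcl d (by simp)))
      refine sup_le ?_ (Subgroup.zpowers_le.2 (hcl e (by simp)))
      rw [eq_sup_zpowers D.pgroup hltV.le (by rw [hV, hE1c, ← pow_succ]) hr1 hrV]
      exact sup_le hVle (Subgroup.zpowers_le.2 (hcl r (by simp)))

end NormalSys

end Cfsg.Agent.Lib.RankThreeNormal61
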