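import Mathlib
import Cfsg.Agent.Lib.RankThreeNormal61.Sys

/-!
A normal subgroup `C` of a `p`-group, `p` odd, whose elements of order dividing `p` are central in it:
some power map is a non-trivial homomorphism of `C` into them.
-/

set_option autoImplicit false
set_option linter.unusedSectionVars false

namespace Cfsg.Agent.Lib.RankThreeNormal61

open Cfsg Cfsg.Agent.Lib Cfsg.Agent.Lib.RankThreeEss69
open scoped commutatorElement

universe u

variable {G : Type u} [Group G] {p : ℕ}

/-- The elements of `C` central and of exponent `p` modulo `K`. -/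
def serStep (p : ℕ) (C K : Subgroup G) [C.Normal] [K.Normal] : Subgroup G where
  carrier := {x | x ∈ C ∧ (∀ c ∈ C, ⁅x, c⁆ ∈ K) ∧ x ^ p ∈ K}
  one_mem' := ⟨one_mem _, fun c _ => by simp, by simp⟩
  mul_mem' := fun {a b} ha hb => by
    refine ⟨mul_mem ha.1 hb.1, fun c hc => ?_, ?_⟩
    · rw [show ⁅a * b, c⁆ = a * ⁅b, c⁆ * a⁻¹ * ⁅a, c⁆ by simp only [commutatorElement_def]; group]
      exact mul_mem (Subgroup.Normal.conj_mem inferInstance _ (hb.2.1 c hc) a) (ha.2.1 c hc)
    · rw [← mk'_eq_one, map_pow, map_mul, (commute_mk' (ha.2.1 b hb.1)).mul_pow, ← map_pow, ← map_pow,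
        mk'_eq_one.2 ha.2.2, mk'_eq_one.2 hb.2.2, one_mul]
  inv_mem' := fun {a} ha => ⟨inv_mem ha.1, fun c hc => by
    rw [show ⁅a⁻¹, c⁆ = a⁻¹ * ⁅a, c⁆⁻¹ * a⁻¹⁻¹ by simp only [commutatorElement_def]; group]
    exact Subgroup.Normal.conj_mem inferInstance _ (inv_mem (ha.2.1 c hc)) _, by
    rw [inv_pow]; exact inv_mem ha.2.2⟩

instance serStep_normal (C K : Subgroup G) [C.Normal] [K.Normal] : (serStep p C K).Normal :=
  ⟨fun x hx g => ⟨Subgroup.Normal.conj_mem inferInstance x hx.1 g, fun c hc => by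
    rw [show ⁅g * x * g⁻¹, c⁆ = g * ⁅x, g⁻¹ * c * g⁻¹⁻¹⁆ * g⁻¹ by
      simp only [commutatorElement_def]; group]
    exact Subgroup.Normal.conj_mem inferInstance _
      (hx.2.1 _ (Subgroup.Normal.conj_mem inferInstance c hc g⁻¹)) g, by
    rw [conj_pow]; exact Subgroup.Normal.conj_mem inferInstance _ hx.2.2 g⟩⟩

/-- The series of iterated steps. -/
def serPair (p : ℕ) (C : Subgroup G) [C.Normal] : ℕ → {K : Subgroup G // K.Normal}
  | 0 => ⟨⊥, inferInstance⟩
  | k + 1 => ⟨@serStep G _ p C (serPair p C k).1 _ (serPair p C k).2,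
      @serStep_normal G _ p C (serPair p C k).1 _ (serPair p C k).2⟩

/-- The series as subgroups. -/
def ser (p : ℕ) (C : Subgroup G) [C.Normal] (k : ℕ) : Subgroup G := (serPair p C k).1

instance ser_normal (C : Subgroup G) [C.Normal] (k : ℕ) : (ser p C k).Normal := (serPair p C k).2

theorem mem_ser_succ {C : Subgroup G} [C.Normal] {k : ℕ} {x : G} :
    x ∈ ser p C (k + 1) ↔ x ∈ C ∧ (∀ c ∈ C, ⁅x, c⁆ ∈ ser p C k) ∧ x ^ p ∈ ser p C k := Iff.rfl

variable {C : Subgroup G} [C.Normal]

theorem ser_le (k : ℕ) : ser p C k ≤ C := by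
  cases k with
  | zero => exact bot_le
  | succ k => exact fun x hx => hx.1

theorem ser_mono (k : ℕ) : ser p C k ≤ ser p C (k + 1) := by
  induction k with
  | zero => exact bot_le
  | succ k ih => exact fun x hx => mem_ser_succ.2 ⟨hx.1, fun c hc => ih (hx.2.1 c hc), ih hx.2.2⟩

theorem pow_ser {k : ℕ} {x : G} (hx : x ∈ ser p C (k + 1)) : x ^ p ∈ ser p C k := hx.2.2

theorem pow_ser_add {m : ℕ} : ∀ {j : ℕ} {x : G}, x ∈ ser p C (m + j) → x ^ p ^ j ∈ ser p C m := by
  intro j
  induction j with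
  | zero => intro x hx; simpa using hx
  | succ j ih =>
    intro x hx
    have := ih (pow_ser (show x ∈ ser p C (m + j + 1) from hx))
    rwa [← pow_mul, ← pow_succ'] at this

variable [Finite G] [hp : Fact p.Prime] (hG : IsPGroup p G)

include hG in
theorem exists_ser_eq : ∃ N, ser p C N = C := by
  by_contra hcon
  push Not at hcon
  have hlt : ∀ k, ser p C k < ser p C (k + 1) := fun k => by
    refine lt_of_le_of_ne (ser_mono k) fun heq => ?_
    set π := QuotientGroup.mk' (ser p C k)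
    haveI : (C.map π).Normal :=
      Subgroup.Normal.map inferInstance π (QuotientGroup.mk'_surjective _)
    have hne : C.map π ≠ ⊥ := fun h => hcon k (le_antisymm (ser_le k) fun c hc =>
      mk'_eq_one.1 (Subgroup.mem_bot.1 (h ▸ Subgroup.mem_map_of_mem π hc)))
    haveI : Finite (G ⧸ ser p C k) := inferInstance
    obtain ⟨_, ⟨y, hy, rfl⟩, hy1, hy2⟩ := exists_mem_zOne (hG.to_quotient (ser p C k)) hne
    refine hy2 (mk'_eq_one.2 (heq.ge (mem_ser_succ.2 ⟨hy, fun c _ => comm_mem_iff.2 ?_, ?_⟩)))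
    · exact Subgroup.mem_center_iff.1 hy1.1 (π c) |>.symm
    · rw [← mk'_eq_one, map_pow]; exact hy1.2
  have hcard : ∀ k, k < Nat.card (ser p C k) := fun k => by
    induction k with
    | zero => exact Nat.card_pos
    | succ k ih =>
      have := card_mul_le' hG (hlt k)
      have h2 := hp.out.two_le
      nlinarith
  exact absurd (Subgroup.card_le_card_group (ser p C (Nat.card G))) (hcard (Nat.card G)).not_ge

variable (hp2 : p ≠ 2) {W : Subgroup G} (hWel : IsElementaryAbelian p W) (hWC : W ≤ C)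
  (hcen : ∀ w ∈ W, ∀ c ∈ C, Commute w c) (hΩ : ∀ x ∈ C, x ^ p = 1 → x ∈ W)

include hWel hWC hcen in
theorem le_ser_one : W ≤ ser p C 1 := fun w hw => mem_ser_succ.2 ⟨hWC hw, fun c hc => by
  rw [commutatorElement_eq_one_iff_commute.2 (hcen w hw c hc)]; exact one_mem _,
  by rw [hWel.2 w hw]; exact one_mem _⟩

include hp2 hWel hWC hcen hΩ in
/-- The power map is injective on the steps. -/
theorem mem_ser_of_pow : ∀ (k : ℕ) {x : G}, x ∈ ser p C (k + 2) → x ^ p ∈ ser p C k →
    x ∈ ser p C (k + 1) := by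
  intro k
  induction k with
  | zero =>
    intro x hx hxp
    exact le_ser_one hWel hWC hcen (hΩ x hx.1 (Subgroup.mem_bot.1 hxp))
  | succ k ih =>
    intro x hx hxp
    refine mem_ser_succ.2 ⟨hx.1, fun c hc => ?_, hxp⟩
    set t := ⁅x, c⁆
    have ht : t ∈ ser p C (k + 2) := hx.2.1 c hc
    refine ih ht ?_
    set π := QuotientGroup.mk' (ser p C k)
    set s := ⁅x, t⁆
    have hs : s ∈ ser p C (k + 1) := by
      rw [show s = ⁅t, x⁆⁻¹ from (commutatorElement_inv t x).symm]
      exact inv_mem (ht.2.1 x hx.1)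
    have hsc : ∀ y ∈ C, Commute (π s) (π y) := fun y hy => commute_mk' (hs.2.1 y hy)
    have hsp : π s ^ p = 1 := by rw [← map_pow, mk'_eq_one]; exact hs.2.2
    have hit : ∀ n : ℕ, π (x ^ n * c * (x ^ n)⁻¹) = π t ^ n * π s ^ n.choose 2 * π c := by
      intro n
      induction n with
      | zero => simp
      | succ n ihn =>
        rw [pow_succ' x, mul_inv_rev, show x * x ^ n * c * ((x ^ n)⁻¹ * x⁻¹) =
          x * (x ^ n * c * (x ^ n)⁻¹) * x⁻¹ by group, map_mul, map_mul, map_inv, ihn]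
        rw [show π x * (π t ^ n * π s ^ n.choose 2 * π c) * (π x)⁻¹ =
          (π x * π t * (π x)⁻¹) ^ n * (π x * π s ^ n.choose 2 * (π x)⁻¹) * (π x * π c * (π x)⁻¹) by
            rw [conj_pow]; group,
          ((hsc x hx.1).symm.pow_right _).eq, mul_inv_cancel_right, conj_eq_comm_mul (x := π x) (y := π t),
          conj_eq_comm_mul (x := π x) (y := π c), ← map_commutatorElement, ← map_commutatorElement,
          ((hsc t ht.1)).mul_pow,
          show (n + 1).choose 2 = n + n.choose 2 by rw [Nat.choose_succ_succ, Nat.choose_one_right],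
          pow_succ (π t), pow_add]
        have c2 : Commute (π s ^ n * π s ^ n.choose 2) (π t) :=
          ((hsc t ht.1).pow_left _).mul_left ((hsc t ht.1).pow_left _)
        have c1 : Commute (π s ^ n) (π t ^ n) := (hsc t ht.1).pow_pow n n
        rw [← mul_assoc (π s ^ n * π t ^ n * π s ^ n.choose 2), c1.eq, mul_assoc (π t ^ n) (π s ^ n),
          mul_assoc (π t ^ n) (π s ^ n * π s ^ n.choose 2) (π t), c2.eq]
        simp only [mul_assoc]
    have hp' := hit p
    obtain ⟨q, hq⟩ := hp.out.dvd_choose_self two_ne_zero (lt_of_le_of_ne hp.out.two_le (Ne.symm hp2))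
    rw [hq, pow_mul, hsp, one_pow, mul_one, map_mul, map_mul, map_inv,
      (commute_mk' (hxp.2.1 c hc) : Commute (π (x ^ p)) (π c)).eq, mul_inv_cancel_right, right_eq_mul,
      ← map_pow, mk'_eq_one] at hp'
    exact hp'

include hp2 in
theorem mul_pow_ser {k : ℕ} {a b : G} (ha : a ∈ ser p C (k + 2)) (hb : b ∈ ser p C (k + 2)) :
    QuotientGroup.mk' (ser p C k) ((a * b) ^ p) = QuotientGroup.mk' (ser p C k) (a ^ p * b ^ p) := by
  have h2 : Two p ((ser p C (k + 2)).map (QuotientGroup.mk' (ser p C k))) :=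
    two_map (M := ser p C (k + 1))
      (Subgroup.commutator_le.2 fun x hx y hy => hx.2.1 y hy.1)
      (Subgroup.commutator_le.2 fun x hx y hy => hx.2.1 y hy.1) fun x hx => hx.2.2
  simp only [map_pow, map_mul]
  exact h2.mul_pow_eq hp2 (Subgroup.mem_map_of_mem _ ha) (Subgroup.mem_map_of_mem _ hb)

include hp2 in
theorem mul_pow_ser_iter {x y : G} : ∀ (j m : ℕ), x ∈ ser p C (m + 1 + j) → y ∈ ser p C (m + 1 + j) →
    QuotientGroup.mk' (ser p C m) ((x * y) ^ p ^ j) =
      QuotientGroup.mk' (ser p C m) (x ^ p ^ j * y ^ p ^ j) := by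
  intro j
  induction j with
  | zero => intro m _ _; simp
  | succ j ih =>
    intro m hx hy
    have e : m + 1 + (j + 1) = m + 2 + j := by omega
    rw [e] at hx hy
    set a := x ^ p ^ j
    set b := y ^ p ^ j
    have hxy : (x * y) ^ p ^ j ∈ ser p C (m + 2) := pow_ser_add (mul_mem hx hy)
    have ha : a ∈ ser p C (m + 2) := pow_ser_add hx
    have hb : b ∈ ser p C (m + 2) := pow_ser_add hy
    have hw : (a * b)⁻¹ * (x * y) ^ p ^ j ∈ ser p C (m + 1) := by
      rw [← mk'_eq_one, map_mul, map_inv, inv_mul_eq_one]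
      exact (ih (m + 1) hx hy).symm
    set w := (a * b)⁻¹ * (x * y) ^ p ^ j
    rw [pow_succ, pow_mul, pow_mul, pow_mul, show (x * y) ^ p ^ j = a * b * w from (mul_inv_cancel_left _ _).symm,
      mul_pow_ser hp2 (mul_mem ha hb) (ser_mono _ hw), map_mul, mk'_eq_one.2 (pow_ser hw), mul_one,
      mul_pow_ser hp2 ha hb]

include hG hp2 hWel hWC hcen hΩ in
/-- The power map. -/
theorem exists_power_hom (hC : C ≠ ⊥) : ∃ n : ℕ, (∀ x ∈ C, x ^ p ^ n ∈ W) ∧
    (∀ x ∈ C, ∀ y ∈ C, (x * y) ^ p ^ n = x ^ p ^ n * y ^ p ^ n) ∧ ∃ x ∈ C, x ^ p ^ n ≠ 1 := by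
  classical
  have hex := exists_ser_eq (C := C) hG
  obtain ⟨n, hn⟩ : ∃ n, Nat.find hex = n + 1 := Nat.exists_eq_succ_of_ne_zero fun h => hC (by
    have := Nat.find_spec hex
    rw [h] at this
    exact this.symm)
  have htop : ser p C (n + 1) = C := hn ▸ Nat.find_spec hex
  refine ⟨n, fun x hx => ?_, fun x hx y hy => ?_, ?_⟩
  · have h : x ^ p ^ n ∈ ser p C 1 := pow_ser_add (by rw [Nat.add_comm, htop]; exact hx)
    exact hΩ _ h.1 (Subgroup.mem_bot.1 h.2.2)
  · have h := mul_pow_ser_iter hp2 (C := C) (x := x) (y := y) n 0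
      (by rw [zero_add, Nat.add_comm, htop]; exact hx) (by rw [zero_add, Nat.add_comm, htop]; exact hy)
    have h' := (QuotientGroup.eq (s := ser p C 0)).1 h
    exact inv_mul_eq_one.1 (Subgroup.mem_bot.1 h')
  · by_contra hall
    push Not at hall
    have key : ∀ i m, m + i = n → ∀ x ∈ C, x ^ p ^ m ∈ ser p C i := by
      intro i
      induction i with
      | zero =>
        intro m hm x hx
        rw [Nat.add_zero] at hm
        rw [hm, hall x hx]; exact one_mem _
      | succ i ih =>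
        intro m hm x hx
        refine mem_ser_of_pow hp2 hWel hWC hcen hΩ i (pow_ser_add ?_) ?_
        · rw [show i + 2 + m = n + 1 by omega, htop]; exact hx
        · rw [← pow_mul, ← pow_succ]
          exact ih (m + 1) (by omega) x hx
    refine Nat.find_min hex (show n < Nat.find hex by omega) (le_antisymm (ser_le n) fun x hx => ?_)
    simpa using key n 0 (by omega) x hx

end Cfsg.Agent.Lib.RankThreeNormal61
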