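import Mathlib
import Cfsg.Agent.Lib.RankThreeNormal61.Tools
import Cfsg.Agent.Lib.RankThreeNormal61.Series
import Cfsg.Agent.Lib.RankThreeEss69.Setup

/-!
One moved plane inside an elementary abelian group of order `p ^ 3` kept by two essential subgroups:
an elementary abelian section of order `p ^ 4` appears.
-/

set_option autoImplicit false
set_option linter.unusedSectionVars false

namespace Cfsg.Agent.Lib.RankThreeNormal61

open Cfsg Cfsg.Agent.Lib Cfsg.Agent.Lib.RankThreeEss69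
open scoped commutatorElement

universe u

variable {G : Type u} [Group G] [Finite G] {p : ℕ} [hp : Fact p.Prime] {D : NormalSys p G}

namespace NormalSys

theorem false_of_config {E1 E2 : Subgroup G} (h1 : D.IsEss E1) (hm : Moved D E1)
    (hV : Nat.card (vSub D E1) = p ^ 2) (h2 : D.IsEss E2) (hu2 : ¬ Moved D E2)
    (hVglob : ∀ γ ∈ D.glob, ∀ x ∈ vSub D E1, γ x ∈ vSub D E1)
    {W : Subgroup G} (hWel : IsElementaryAbelian p W) (hWc : Nat.card W = p ^ 3) (hVW : vSub D E1 ≤ W)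
    (hWE1 : W ≤ E1) (hWE2 : W ≤ E2) (hW1 : D.Inv E1 W) (hW2i : D.Inv E2 W)
    (hWgen : W ≤ Subgroup.closure {y | ∃ α ∈ D.aut E2, ∃ x : E2, (x : G) ∈ vSub D E1 ∧ (α x : G) = y})
    (hmove : ∃ α ∈ D.aut E2, ∃ x : E2, (x : G) ∈ vSub D E1 ∧ (α x : G) ∉ vSub D E1) : False := by
  haveI := D.normal h1
  haveI := D.normal h2
  haveI := vSub_normal h1
  haveI := normal_of_inv h1 hWE1 hW1
  set V := vSub D E1
  have hVel : IsElementaryAbelian p V := vSub_elem
  have hlt : zOne p G < V := lt_vSub h1 hm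
  have hZc : Nat.card (zOne p G) = p := by
    rcases card_zOne_cases D hVel hlt with hz | ⟨-, h3⟩
    · exact hz
    · rw [hV] at h3; exact absurd (Nat.pow_right_injective hp.out.two_le h3) (by norm_num)
  have hzgen : ∀ z ∈ zOne p G, z ≠ 1 → zOne p G = Subgroup.zpowers z := fun z hz hz1 =>
    (Subgroup.eq_of_le_of_card_ge (Subgroup.zpowers_le.2 hz)
      (by rw [hZc, Nat.card_zpowers, orderOf_eq_prime hz.2 hz1])).symm
  have hVcomm : ∀ g : G, ∀ v ∈ V, ⁅g, v⁆ ∈ zOne p G := fun g v hv =>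
    comm_le_of_card_le D.pgroup (X := V) (M := zOne p G) hlt.le (by rw [hV, hZc, sq])
      (by rw [Subgroup.commutator_comm]; exact Subgroup.commutator_mem_commutator (Subgroup.mem_top g) hv)
  have hWV : ∀ g : G, ∀ w ∈ W, ⁅g, w⁆ ∈ V := fun g w hw =>
    comm_le_of_card_le D.pgroup (X := W) (M := V) hVW (by rw [hWc, hV, ← pow_succ])
      (by rw [Subgroup.commutator_comm]; exact Subgroup.commutator_mem_commutator (Subgroup.mem_top g) hw)
  have hZinv := (not_moved_iff h2).1 hu2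
  have hWcomm : ∀ x ∈ E2, ∀ w ∈ W, ⁅x, w⁆ ∈ zOne p G := by
    intro x hx w hw
    have hle : ∀ y ∈ Subgroup.closure {y | ∃ α ∈ D.aut E2, ∃ x : E2, (x : G) ∈ V ∧ (α x : G) = y},
        ⁅x, y⁆ ∈ zOne p G := by
      intro y hy
      induction hy using Subgroup.closure_induction with
      | mem y hy =>
        obtain ⟨α, hα, v, hv, rfl⟩ := hy
        have h := hZinv α hα ⁅α⁻¹ ⟨x, hx⟩, v⁆ (hVcomm _ _ hv)
        rwa [map_commutatorElement α, MulAut.apply_inv_self] at h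
      | one => simp
      | mul a b _ _ ha hb =>
        rw [show ⁅x, a * b⁆ = ⁅x, a⁆ * (a * ⁅x, b⁆ * a⁻¹) by simp only [commutatorElement_def]; group]
        exact mul_mem ha (Subgroup.Normal.conj_mem inferInstance _ hb a)
      | inv a _ ha =>
        rw [show ⁅x, a⁻¹⁆ = a⁻¹ * ⁅x, a⁆⁻¹ * a⁻¹⁻¹ by simp only [commutatorElement_def]; group]
        exact Subgroup.Normal.conj_mem inferInstance _ (inv_mem ha) _
    exact hle w (hWgen hw)
  obtain ⟨e', he'2, he'1⟩ : ∃ e ∈ E2, e ∉ E1 := SetLike.not_le_iff_exists.1 fun hle => by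
    have h := Subgroup.eq_of_le_of_card_ge hle
      (Nat.le_of_mul_le_mul_right (by rw [card_E_mul h1, card_E_mul h2]) hp.out.pos)
    exact hu2 (h ▸ hm)
  -- some element does not centralise `W` modulo the centre
  obtain ⟨g0, w0, hw0, hg0⟩ : ∃ g : G, ∃ w ∈ W, ⁅g, w⁆ ∉ zOne p G := by
    by_contra hcon
    push Not at hcon
    let K : Subgroup (MulAut E2) :=
      { carrier := {β | β ∈ D.aut E2 ∧ ∀ x : E2, (x : G) ∈ W → ((x⁻¹ * β x : E2) : G) ∈ zOne p G}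
        one_mem' := ⟨one_mem _, fun x _ => by simp⟩
        mul_mem' := fun {β γ} hβ hγ => ⟨mul_mem hβ.1 hγ.1, fun x hx => by
          have h1 := mul_mem (hγ.2 x hx) (hβ.2 (γ x) (hW2i γ hγ.1 x hx))
          rwa [← Subgroup.coe_mul, mul_assoc, mul_inv_cancel_left] at h1⟩
        inv_mem' := fun {β} hβ => ⟨inv_mem hβ.1, fun x hx => by
          have h1 := inv_mem (hβ.2 (β⁻¹ x) (hW2i _ (inv_mem hβ.1) x hx))
          rwa [MulAut.apply_inv_self, ← Subgroup.coe_inv, mul_inv_rev, inv_inv] at h1⟩ }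
    obtain ⟨α, hα, x, hx, hαx⟩ := hmove
    obtain ⟨β, hβ, γ, hγ, hγx⟩ := D.frattiniArg h2 K (fun β h => h.1)
      (fun β hβ k hk => ⟨mul_mem (mul_mem hβ hk.1) (inv_mem hβ), fun x hx => by
        have h := hZinv β hβ _ (hk.2 (β⁻¹ x) (hW2i _ (inv_mem hβ) x hx))
        rwa [map_mul, map_inv, MulAut.apply_inv_self] at h⟩)
      (fun g a ha => ⟨D.conj_mem h2 g a ha, fun x hx => by
        rw [Subgroup.coe_mul, Subgroup.coe_inv, ha,
          show (x : G)⁻¹ * (g * x * g⁻¹) = ⁅g, (x : G)⁻¹⁆⁻¹ by rw [commutatorElement_def]; group]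
        exact inv_mem (hcon g _ (inv_mem hx))⟩) α hα
    refine hαx ?_
    rw [hγx]
    refine hVglob γ hγ _ ?_
    have h := mul_mem hx (hlt.le (hβ.2 x (hVW hx)))
    rwa [← Subgroup.coe_mul, mul_inv_cancel_left] at h
  -- the fixed points modulo the centre
  let F0 : Subgroup G :=
    { carrier := {w | w ∈ W ∧ ∀ g : G, ⁅g, w⁆ ∈ zOne p G}
      one_mem' := ⟨one_mem _, fun g => by simp⟩
      mul_mem' := fun {a b} ha hb => ⟨mul_mem ha.1 hb.1, fun g => by
        rw [show ⁅g, a * b⁆ = ⁅g, a⁆ * (a * ⁅g, b⁆ * a⁻¹) by simp only [commutatorElement_def]; group]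
        exact mul_mem (ha.2 g) (Subgroup.Normal.conj_mem inferInstance _ (hb.2 g) a)⟩
      inv_mem' := fun {a} ha => ⟨inv_mem ha.1, fun g => by
        rw [show ⁅g, a⁻¹⁆ = a⁻¹ * ⁅g, a⁆⁻¹ * a⁻¹⁻¹ by simp only [commutatorElement_def]; group]
        exact Subgroup.Normal.conj_mem inferInstance _ (inv_mem (ha.2 g)) _⟩ }
  have hF0 : ∀ w ∈ W, (∀ g : G, ⁅g, w⁆ ∈ zOne p G) → w ∈ V := by
    intro w hw hwg
    by_contra hwV
    have hlt' : V < F0 := lt_of_le_of_ne (fun v hv => ⟨hVW hv, fun g => hVcomm g v hv⟩) fun h =>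
      hwV (h.ge ⟨hw, hwg⟩)
    have := card_mul_le' D.pgroup hlt'
    rw [hV, ← pow_succ, ← hWc] at this
    have heq : F0 = W := Subgroup.eq_of_le_of_card_ge (fun x hx => hx.1) this
    exact hg0 ((heq.ge hw0).2 g0)
  have hP : ∀ w ∈ W, (∀ x ∈ E2, Commute x w) → w ∈ zOne p G := by
    have hPV : ∀ y ∈ V, (∀ x ∈ E2, Commute x y) → y ∈ zOne p G := fun y hy hyc =>
      ⟨mem_center_of h1 he'1 (fun a ha => vSub_commute hy ha) (hyc e' he'2), hVel.2 y hy⟩
    intro w hw hwc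
    refine hPV w (hF0 w hw fun g => hPV _ (hWV g w hw) fun x hx => ?_) hwc
    rw [commutatorElement_def]
    refine Commute.mul_right ?_ ((hwc x hx).inv_right)
    have h := (hwc _ (conj_mem_E h2 hx g⁻¹)).map (MulAut.conj g).toMonoidHom
    simpa [mul_assoc] using h
  -- the centralizer of `W`
  set C := Subgroup.centralizer (W : Set G) with hC
  have hmemC : ∀ {x : G}, x ∈ C ↔ ∀ w ∈ W, Commute x w := fun {x} =>
    ⟨fun h w hw => (Subgroup.mem_centralizer_iff.1 h w hw).symm,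
      fun h => Subgroup.mem_centralizer_iff.2 fun w hw => (h w hw).eq.symm⟩
  haveI hCn : C.Normal := ⟨fun c hc g => hmemC.2 fun w hw => by
    have h := (hmemC.1 hc _ (Subgroup.Normal.conj_mem inferInstance w hw g⁻¹)).map
      (MulAut.conj g).toMonoidHom
    simpa [mul_assoc] using h⟩
  have hWC : W ≤ C := fun w hw => hmemC.2 fun w' hw' => ElemAbelian.comm hWel hw hw'
  have hC1 : C ≤ E1 := fun c hc => mem_of_centralizes_vSub h1 hm fun y hy => hmemC.1 hc y (hVW hy)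
  have hC2 : C ≤ E2 := by
    intro c hc
    by_contra hcE
    obtain ⟨e, he, i, rfl⟩ := exists_decomp h2 hcE g0
    refine hg0 ?_
    have h : Commute (c ^ i) w0 := (hmemC.1 hc w0 hw0).zpow_left i
    rw [show ⁅e * c ^ i, w0⁆ = e * ⁅c ^ i, w0⁆ * e⁻¹ * ⁅e, w0⁆ by simp only [commutatorElement_def]; group,
      commutatorElement_eq_one_iff_commute.2 h, mul_one, mul_inv_cancel, one_mul]
    exact hWcomm e he w0 hw0
  have hCinv : ∀ (E : Subgroup G), W ≤ E → D.Inv E W → ∀ α ∈ D.aut E, ∀ x : E, (x : G) ∈ C →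
      (α x : G) ∈ C := by
    intro E hWE hWi α hα x hx
    refine hmemC.2 fun w hw => ?_
    have h := hWi α⁻¹ ((D.aut E).inv_mem hα) ⟨w, hWE hw⟩ hw
    have h2 : Commute x (α⁻¹ ⟨w, hWE hw⟩) := Subtype.ext (hmemC.1 hx _ h).eq
    have h3 := h2.map α.toMonoidHom
    rw [MulEquiv.coe_toMonoidHom, MulAut.apply_inv_self] at h3
    exact congrArg Subtype.val h3.eq
  have hΩ : ∀ x ∈ C, x ^ p = 1 → x ∈ W := by
    intro x hx hxp
    by_contra hxW
    have hel : IsElementaryAbelian p (Subgroup.zpowers x) := by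
      rw [Subgroup.zpowers_eq_closure]
      exact ElemAbelian.closure (by rintro a rfl b rfl; rfl) (by rintro a rfl; exact hxp)
    have h3 := card_elem_le D (elem_sup hWel hel fun w hw y hy => by
      obtain ⟨i, rfl⟩ := Subgroup.mem_zpowers_iff.1 hy
      exact ((hmemC.1 hx w hw).symm.zpow_right i))
    have := card_mul_le' D.pgroup (lt_of_le_of_ne (le_sup_left : W ≤ W ⊔ Subgroup.zpowers x) fun h =>
      hxW (h.ge (Subgroup.mem_sup_right (Subgroup.mem_zpowers x))))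
    rw [hWc, ← pow_succ] at this
    exact absurd (this.trans h3) (_root_.not_le.2 (Nat.pow_lt_pow_right hp.out.one_lt (by norm_num)))
  -- a basis of `W`
  obtain ⟨w1, hw1, hw1Z⟩ := SetLike.exists_of_lt hlt
  obtain ⟨w2, hw2, hw2V⟩ := SetLike.exists_of_lt (lt_of_le_of_ne hVW fun h => by
    rw [← h, hV] at hWc; exact absurd (Nat.pow_right_injective hp.out.two_le hWc) (by norm_num))
  have hVeq : V = zOne p G ⊔ Subgroup.zpowers w1 :=
    eq_sup_zpowers D.pgroup hlt.le (by rw [hV, hZc, sq]) hw1 hw1Z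
  have hWeq : W = V ⊔ Subgroup.zpowers w2 :=
    eq_sup_zpowers D.pgroup hVW (by rw [hWc, hV, ← pow_succ]) hw2 hw2V
  have hkey : ∀ x : G, Commute x w1 → Commute x w2 → x ∈ C := fun x c1 c2 => hmemC.2 fun w hw => by
    obtain ⟨v, hv, i, rfl⟩ := exists_of_mem_sup (hWeq.le hw)
    obtain ⟨z, hz, j, rfl⟩ := exists_of_mem_sup (hVeq.le hv)
    exact ((zOne_commute hz x).mul_right (c1.zpow_right j)).mul_right (c2.zpow_right i)
  let h : E2 →* zOne p G × zOne p G := MonoidHom.mk'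
    (fun x => (⟨⁅(x : G), w1⁆, hWcomm x x.2 w1 (hVW hw1)⟩, ⟨⁅(x : G), w2⁆, hWcomm x x.2 w2 hw2⟩))
    fun x y => by
      have key : ∀ w ∈ W, ⁅(x : G) * y, w⁆ = ⁅(x : G), w⁆ * ⁅(y : G), w⁆ := fun w hw => by
        rw [show ⁅(x : G) * y, w⁆ = x * ⁅(y : G), w⁆ * (x : G)⁻¹ * ⁅(x : G), w⁆ by
          simp only [commutatorElement_def]; group, (zOne_commute (hWcomm y y.2 w hw) _).eq,
          mul_inv_cancel_right, (zOne_commute (hWcomm x x.2 w hw) _).eq]
      exact Prod.ext (Subtype.ext (key w1 (hVW hw1))) (Subtype.ext (key w2 hw2))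
  have hker : ∀ x : E2, h x = 1 ↔ (x : G) ∈ C := fun x => by
    constructor
    · intro hx
      exact hkey _ (commutatorElement_eq_one_iff_commute.1 (congrArg (fun q => (q.1 : G)) hx))
        (commutatorElement_eq_one_iff_commute.1 (congrArg (fun q => (q.2 : G)) hx))
    · intro hx
      exact Prod.ext (Subtype.ext (commutatorElement_eq_one_iff_commute.2 (hmemC.1 hx w1 (hVW hw1))))
        (Subtype.ext (commutatorElement_eq_one_iff_commute.2 (hmemC.1 hx w2 hw2)))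
  have hcommC : ∀ x ∈ E2, ∀ y ∈ E2, ⁅x, y⁆ ∈ C := by
    intro x hx y hy
    refine (hker ⁅(⟨x, hx⟩ : E2), (⟨y, hy⟩ : E2)⁆).1 ?_
    rw [map_commutatorElement, commutatorElement_eq_one_iff_commute]
    exact Prod.ext (Subtype.ext (zOne_commute (h _).1.2 _).eq) (Subtype.ext (zOne_commute (h _).2.2 _).eq)
  have hpowC : ∀ x ∈ E2, x ^ p ∈ C := by
    intro x hx
    refine (hker (⟨x, hx⟩ ^ p)).1 ?_
    rw [map_pow]
    refine Prod.ext (Subtype.ext ?_) (Subtype.ext ?_)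
    · rw [Prod.pow_fst, SubmonoidClass.coe_pow, (h _).1.2.2]; rfl
    · rw [Prod.pow_snd, SubmonoidClass.coe_pow, (h _).2.2.2]; rfl
  -- orders
  have hCE : C.subgroupOf E2 = h.ker := by ext x; rw [MonoidHom.mem_ker, hker]; rfl
  have hEC : Nat.card E2 ≤ Nat.card C * p ^ 2 := by
    rw [← Nat.card_congr (Subgroup.subgroupOfEquivOfLe hC2).toEquiv, hCE, ← h.ker.card_mul_index,
      Subgroup.index_ker, sq]
    refine Nat.mul_le_mul_left _ ((Subgroup.card_le_card_group h.range).trans ?_)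
    rw [Nat.card_prod, hZc]
  set D0 := E1 ⊓ E2 with hD0
  haveI : D0.Normal := by rw [hD0]; infer_instance
  have hw1c : ¬ Commute e' w1 := fun hc => hw1Z
    ⟨mem_center_of h1 he'1 (fun a ha => vSub_commute hw1 ha) hc, hVel.2 w1 hw1⟩
  have hE2e : ∀ x ∈ E2, ∃ d ∈ D0, ∃ i : ℤ, x = d * e' ^ i := by
    intro x hx
    obtain ⟨d, hd, i, rfl⟩ := exists_decomp h1 he'1 x
    exact ⟨d, ⟨hd, by simpa using mul_mem hx (inv_mem (Subgroup.zpow_mem _ he'2 i))⟩, i, rfl⟩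
  have hCD : C < D0 := by
    refine lt_of_le_of_ne (le_inf hC1 hC2) fun heq => ?_
    set c1 := ⁅e', w1⁆
    set c2 := ⁅e', w2⁆
    have hc1 : c1 ∈ zOne p G := hWcomm e' he'2 w1 (hVW hw1)
    have hc2 : c2 ∈ zOne p G := hWcomm e' he'2 w2 hw2
    have hc11 : c1 ≠ 1 := fun h => hw1c (commutatorElement_eq_one_iff_commute.1 h)
    obtain ⟨k, hk⟩ := Subgroup.mem_zpowers_iff.1 ((hzgen c1 hc1 hc11).le hc2)
    have hw : w2 * (w1 ^ k)⁻¹ ∈ W := mul_mem hw2 (inv_mem (Subgroup.zpow_mem _ (hVW hw1) k))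
    have hce : Commute e' (w2 * (w1 ^ k)⁻¹) := by
      refine mul_inv_eq_iff_eq_mul.1 ?_
      calc e' * (w2 * (w1 ^ k)⁻¹) * e'⁻¹ = (e' * w2 * e'⁻¹) * ((e' * w1 * e'⁻¹) ^ k)⁻¹ := by
            rw [conj_zpow]; group
        _ = c2 * w2 * ((c1 * w1) ^ k)⁻¹ := by rw [conj_eq_comm_mul, conj_eq_comm_mul]
        _ = _ := by
          rw [((zOne_commute hc1 w1).symm).mul_zpow, hk, mul_inv_rev, (zOne_commute hc2 w2).symm.eq,
            mul_assoc, ← mul_assoc c2, ((zOne_commute hc2 _).symm).eq, mul_assoc, mul_inv_cancel, mul_one]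
    refine hw2V ?_
    have := hP _ hw fun x hx => by
      obtain ⟨d, hd, i, rfl⟩ := hE2e x hx
      exact (hmemC.1 (heq.ge hd) _ hw).mul_left (hce.zpow_left i)
    simpa using mul_mem (hlt.le this) (Subgroup.zpow_mem _ hw1 k)
  have hDE : D0 < E2 := lt_of_le_of_ne inf_le_right fun h => he'1 (h.ge he'2).1
  have a1 := card_mul_le' D.pgroup hCD
  have a2 := card_mul_le' D.pgroup hDE
  have hDc : Nat.card D0 ≤ Nat.card C * p := Nat.le_of_mul_le_mul_right
    (by rw [mul_assoc, ← sq]; exact a2.trans hEC) hp.out.pos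
  obtain ⟨d0, hd0, hd0C⟩ := SetLike.exists_of_lt hCD
  have hD0eq : D0 = C ⊔ Subgroup.zpowers d0 := eq_sup_zpowers D.pgroup hCD.le hDc hd0 hd0C
  have hDcomm : ∀ g : G, ∀ d ∈ D0, ⁅g, d⁆ ∈ C := fun g d hd =>
    comm_le_of_card_le D.pgroup (X := D0) (M := C) hCD.le hDc
      (by rw [Subgroup.commutator_comm]; exact Subgroup.commutator_mem_commutator (Subgroup.mem_top g) hd)
  -- the power map onto `W`
  have hCne : C ≠ ⊥ := fun hh => zOne_ne_bot D (le_bot_iff.1 ((hlt.le.trans (hVW.trans hWC)).trans hh.le))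
  obtain ⟨n, hφW, hφmul, c0, hc0, hc01⟩ := exists_power_hom D.pgroup D.odd hWel hWC
    (fun w hw c hc => (hmemC.1 hc w hw).symm) hΩ hCne
  have hφcomm : ∀ a ∈ C, ∀ g : G, (g * a * g⁻¹ * a⁻¹) ^ p ^ n = ⁅g, a ^ p ^ n⁆ := fun a ha g => by
    rw [hφmul _ (Subgroup.Normal.conj_mem inferInstance a ha g) _ (inv_mem ha), conj_pow, inv_pow,
      commutatorElement_def]
  let I : Subgroup G :=
    { carrier := {w | ∃ x ∈ C, x ^ p ^ n = w}
      one_mem' := ⟨1, one_mem _, one_pow _⟩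
      mul_mem' := by
        rintro _ _ ⟨a, ha, rfl⟩ ⟨b, hb, rfl⟩
        exact ⟨a * b, mul_mem ha hb, hφmul a ha b hb⟩
      inv_mem' := by
        rintro _ ⟨a, ha, rfl⟩
        exact ⟨a⁻¹, inv_mem ha, inv_pow a _⟩ }
  haveI : I.Normal := ⟨by
    rintro _ ⟨a, ha, rfl⟩ g
    exact ⟨g * a * g⁻¹, Subgroup.Normal.conj_mem inferInstance a ha g, conj_pow⟩⟩
  have hIinv : ∀ (E : Subgroup G), C ≤ E → W ≤ E → D.Inv E W → D.Inv E I := by
    rintro E hCE' hWE hWi α hα y ⟨a, ha, hay⟩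
    refine ⟨(α ⟨a, hCE' ha⟩ : G), hCinv E hWE hWi α hα _ ha, ?_⟩
    rw [← SubmonoidClass.coe_pow, ← map_pow, show (⟨a, hCE' ha⟩ : E) ^ p ^ n = y from Subtype.ext hay]
  have hIW : W ≤ I := by
    have hI1 : I ≠ ⊥ := fun hh => hc01 (Subgroup.mem_bot.1 (hh ▸ ⟨c0, hc0, rfl⟩ : c0 ^ p ^ n ∈ (⊥ : Subgroup G)))
    obtain ⟨z, hzI, hz, hz1⟩ := exists_mem_zOne D.pgroup (N := I) hI1
    have hZI : zOne p G ≤ I := (hzgen z hz hz1).le.trans (Subgroup.zpowers_le.2 hzI)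
    have hVI : V ≤ I := (Subgroup.closure_le I).2 (by
      rintro _ ⟨α, hα, x, hx, rfl⟩
      exact hIinv E1 hC1 hWE1 hW1 α hα x (hZI hx))
    refine hWgen.trans ((Subgroup.closure_le I).2 ?_)
    rintro _ ⟨α, hα, x, hx, rfl⟩
    exact hIinv E2 hC2 hWE2 hW2i α hα x (hVI hx)
  let pre : Subgroup G → Subgroup G := fun L =>
    { carrier := {x | x ∈ C ∧ x ^ p ^ n ∈ L}
      one_mem' := ⟨one_mem _, by rw [one_pow]; exact one_mem _⟩
      mul_mem' := fun {a b} ha hb => ⟨mul_mem ha.1 hb.1, by rw [hφmul a ha.1 b hb.1]; exact mul_mem ha.2 hb.2⟩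
      inv_mem' := fun {a} ha => ⟨inv_mem ha.1, by rw [inv_pow]; exact inv_mem ha.2⟩ }
  have hpren : ∀ L : Subgroup G, L.Normal → (pre L).Normal := fun L hL => ⟨fun x hx g =>
    ⟨Subgroup.Normal.conj_mem inferInstance x hx.1 g, by rw [conj_pow]; exact hL.conj_mem _ hx.2 g⟩⟩
  set K0 := pre (zOne p G) with hK0
  set K1 := pre V with hK1
  haveI : K0.Normal := hpren _ inferInstance
  haveI : K1.Normal := hpren _ inferInstance
  -- commutators of `E2`
  have hT1 : ∀ x ∈ E2, ∀ c ∈ C, ⁅x, c⁆ ∈ K0 := fun x hx c hc =>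
    ⟨hcommC x hx c (hC2 hc), by
      rw [commutatorElement_def, hφcomm c hc x]
      exact hWcomm x hx _ (hφW c hc)⟩
  have hde : ⁅d0, e'⁆ ∈ C := hcommC d0 hd0.2 e' he'2
  have hdeV : ⁅d0, e'⁆ ^ p ^ n ∈ V := by
    refine hF0 _ (hφW _ hde) fun g => ?_
    by_cases hall : ∀ g : G, g ∈ E2
    · exact hWcomm g (hall g) _ (hφW _ hde)
    obtain ⟨r, hr⟩ := not_forall.1 hall
    have hrr : ⁅r, ⁅d0, e'⁆ ^ p ^ n⁆ ∈ zOne p G := by
      rw [← hφcomm _ hde r]
      set π := QuotientGroup.mk' K0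
      have hcen : ∀ x ∈ E2, ∀ c ∈ C, Commute (π x) (π c) := fun x hx c hc => commute_mk' (hT1 x hx c hc)
      have h1' : ∃ c ∈ C, r * d0 * r⁻¹ = d0 * c := ⟨d0⁻¹ * (r * d0 * r⁻¹), by
        have := Subgroup.Normal.conj_mem (inferInstance : C.Normal) _ (hDcomm r d0 hd0) d0⁻¹
        rwa [show d0⁻¹ * ⁅r, d0⁆ * d0⁻¹⁻¹ = d0⁻¹ * (r * d0 * r⁻¹) by rw [commutatorElement_def]; group] at this,
        by rw [mul_inv_cancel_left]⟩
      obtain ⟨c, hc, hcd⟩ := h1'
      have hre : r * e' * r⁻¹ * e'⁻¹ ∈ D0 := ⟨comm_mem_E h1 r e', comm_mem_E h2 r e'⟩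
      obtain ⟨k, hk, i, hki⟩ := exists_of_mem_sup (hD0eq.le hre)
      have hπe : π r * π e' * (π r)⁻¹ = π k * π d0 ^ i * π e' := by
        have hq : r * e' * r⁻¹ = k * d0 ^ i * e' := by rw [← hki, inv_mul_cancel_right]
        simpa only [map_mul, map_inv, map_zpow] using congrArg π hq
      have hπd : π r * π d0 * (π r)⁻¹ = π d0 * π c := by
        simpa only [map_mul, map_inv] using congrArg π hcd
      have hfix : π (r * ⁅d0, e'⁆ * r⁻¹) = π ⁅d0, e'⁆ := by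
        rw [map_mul, map_mul, map_inv, map_commutatorElement,
          show π r * ⁅π d0, π e'⁆ * (π r)⁻¹ = ⁅π r * π d0 * (π r)⁻¹, π r * π e' * (π r)⁻¹⁆ by
            simp only [commutatorElement_def]; group, hπd, hπe]
        have q1 : Commute (π d0) (π c) := hcen d0 hd0.2 c hc
        have q2 : Commute (π e') (π c) := hcen e' he'2 c hc
        have q3 : Commute (π d0) (π k) := hcen d0 hd0.2 k hk
        have q4 : Commute (π e') (π k) := hcen e' he'2 k hk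
        have q5 : Commute (π c) (π k) := hcen c (hC2 hc) k hk
        simp only [commutatorElement_def]
        calc π d0 * π c * (π k * π d0 ^ i * π e') * (π d0 * π c)⁻¹ * (π k * π d0 ^ i * π e')⁻¹
            = π d0 * (π c * (π k * π d0 ^ i * π e')) * (π c)⁻¹ * (π d0)⁻¹ * (π e')⁻¹ * (π d0 ^ i)⁻¹ * (π k)⁻¹ := by group
          _ = π d0 * ((π k * π d0 ^ i * π e') * π c) * (π c)⁻¹ * (π d0)⁻¹ * (π e')⁻¹ * (π d0 ^ i)⁻¹ * (π k)⁻¹ := by
              rw [((q5.mul_right (q1.symm.zpow_right i)).mul_right q2.symm).eq]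
          _ = π d0 * π k * π d0 ^ i * π e' * (π d0)⁻¹ * (π e')⁻¹ * (π d0 ^ i)⁻¹ * (π k)⁻¹ := by group
          _ = π k * π d0 ^ i * (π d0 * π e' * (π d0)⁻¹ * (π e')⁻¹) * (π d0 ^ i)⁻¹ * (π k)⁻¹ := by
              rw [q3.eq, mul_assoc (π k) (π d0), ((Commute.refl (π d0)).zpow_right i).eq]; group
          _ = _ := by
              rw [← commutatorElement_def, ← map_commutatorElement, ← map_zpow]
              have q6 : Commute (π k * π (d0 ^ i)) (π ⁅d0, e'⁆) :=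
                (hcen k (hC2 hk) _ hde).mul_left (hcen _ (Subgroup.zpow_mem _ hd0.2 i) _ hde)
              rw [q6.eq, map_commutatorElement, commutatorElement_def, map_zpow]; group
      have h3 : r * ⁅d0, e'⁆ * r⁻¹ * ⁅d0, e'⁆⁻¹ ∈ K0 := by
        rw [← mk'_eq_one, map_mul, hfix, map_inv, mul_inv_cancel]
      exact h3.2
    obtain ⟨e, he, i, rfl⟩ := exists_decomp h2 hr g
    have hi : ∀ j : ℤ, ⁅r ^ j, ⁅d0, e'⁆ ^ p ^ n⁆ ∈ zOne p G := by
      set w := ⁅d0, e'⁆ ^ p ^ n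
      intro j
      obtain ⟨k, hk⟩ : ∃ k, k = ⁅r, w⁆ := ⟨_, rfl⟩
      have hrw : r * w * r⁻¹ = k * w := by rw [hk, conj_eq_comm_mul]
      have hkZ : k ∈ zOne p G := hk ▸ hrr
      have hj : r ^ j * w * (r ^ j)⁻¹ = k ^ j * w := by
        induction j using Int.induction_on with
        | zero => simp
        | succ j ihj =>
          rw [show r ^ ((j : ℤ) + 1) * w * (r ^ ((j : ℤ) + 1))⁻¹ = r ^ (j : ℤ) * (r * w * r⁻¹) * (r ^ (j : ℤ))⁻¹ by group,
            hrw, show r ^ (j : ℤ) * (k * w) * (r ^ (j : ℤ))⁻¹ = (r ^ (j : ℤ) * k) * w * (r ^ (j : ℤ))⁻¹ by group,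
            (zOne_commute hkZ _).eq, show k * r ^ (j : ℤ) * w * (r ^ (j : ℤ))⁻¹ = k * (r ^ (j : ℤ) * w * (r ^ (j : ℤ))⁻¹) by group,
            ihj, ← mul_assoc, ← zpow_one_add, add_comm]
        | pred j ihj =>
          have hrw' : r⁻¹ * w * r = k⁻¹ * w := by
            have h5 : r * (k⁻¹ * w) * r⁻¹ = w := by
              rw [show r * (k⁻¹ * w) * r⁻¹ = (r * k⁻¹) * w * r⁻¹ by group, (zOne_commute (inv_mem hkZ) r).eq,
                show k⁻¹ * r * w * r⁻¹ = k⁻¹ * (r * w * r⁻¹) by group, hrw, inv_mul_cancel_left]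
            calc r⁻¹ * w * r = r⁻¹ * (r * (k⁻¹ * w) * r⁻¹) * r := by rw [h5]
              _ = _ := by group
          rw [show r ^ (-(j : ℤ) - 1) * w * (r ^ (-(j : ℤ) - 1))⁻¹ = r ^ (-(j : ℤ)) * (r⁻¹ * w * r) * (r ^ (-(j : ℤ)))⁻¹ by group,
            hrw', show r ^ (-(j : ℤ)) * (k⁻¹ * w) * (r ^ (-(j : ℤ)))⁻¹ = (r ^ (-(j : ℤ)) * k⁻¹) * w * (r ^ (-(j : ℤ)))⁻¹ by group,
            (zOne_commute (inv_mem hkZ) _).eq,
            show k⁻¹ * r ^ (-(j : ℤ)) * w * (r ^ (-(j : ℤ)))⁻¹ = k⁻¹ * (r ^ (-(j : ℤ)) * w * (r ^ (-(j : ℤ)))⁻¹) by group,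
            ihj, ← mul_assoc, ← zpow_neg_one k, ← zpow_add, show -1 + -(j : ℤ) = -(j : ℤ) - 1 by ring]
      rw [commutatorElement_def, hj, mul_inv_cancel_right]
      exact Subgroup.zpow_mem _ hkZ j
    rw [show ⁅e * r ^ i, ⁅d0, e'⁆ ^ p ^ n⁆ = e * ⁅r ^ i, ⁅d0, e'⁆ ^ p ^ n⁆ * e⁻¹ * ⁅e, ⁅d0, e'⁆ ^ p ^ n⁆ by
      simp only [commutatorElement_def]; group]
    exact mul_mem (Subgroup.Normal.conj_mem inferInstance _ (hi i) e) (hWcomm e he _ (hφW _ hde))
  have hK01 : K0 ≤ K1 := fun x hx => ⟨hx.1, hlt.le hx.2⟩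
  have hcommV : ∀ x ∈ E2, ∀ y ∈ E2, ⁅x, y⁆ ^ p ^ n ∈ V := by
    intro x hx y hy
    set π := QuotientGroup.mk' K1
    have hcen : ∀ x ∈ E2, ∀ c ∈ C, Commute (π x) (π c) := fun x hx c hc =>
      commute_mk' (hK01 (hT1 x hx c hc))
    have hde' : Commute (π d0) (π e') := commute_mk' ⟨hde, hdeV⟩
    have hdec : ∀ x ∈ E2, ∃ c ∈ C, ∃ i j : ℤ, π x = π c * π d0 ^ i * π e' ^ j := by
      intro x hx
      obtain ⟨d, hd, j, rfl⟩ := hE2e x hx
      obtain ⟨c, hc, i, rfl⟩ := exists_of_mem_sup (hD0eq.le hd)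
      exact ⟨c, hc, i, j, by simp only [map_mul, map_zpow]⟩
    obtain ⟨c, hc, i, j, hxe⟩ := hdec x hx
    obtain ⟨c', hc', i', j', hye⟩ := hdec y hy
    have h5 : ⁅x, y⁆ ∈ K1 := by
      refine comm_mem_iff.2 ?_
      show Commute (π x) (π y)
      rw [hye]
      refine ((hcen x hx c' hc').mul_right ?_).mul_right ?_
      · rw [hxe]
        exact (((hcen d0 hd0.2 c hc).symm.mul_left ((Commute.refl _).zpow_left i)).mul_left
          (hde'.symm.zpow_left j)).zpow_right i'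
      · rw [hxe]
        exact (((hcen e' he'2 c hc).symm.mul_left (hde'.zpow_left i)).mul_left
          ((Commute.refl _).zpow_left j)).zpow_right j'
    exact h5.2
  have hcommK : ∀ x ∈ E2, ∀ y ∈ E2, ⁅x, y⁆ ∈ K0 := by
    intro x hx y hy
    refine ⟨hcommC x hx y hy, by_contra fun hv => ?_⟩
    obtain ⟨α, hα, xv, hxv, hαxv⟩ := hmove
    refine hαxv ?_
    set v' := ⁅x, y⁆ ^ p ^ n
    have hVeq' : V = zOne p G ⊔ Subgroup.zpowers v' :=
      eq_sup_zpowers D.pgroup hlt.le (by rw [hV, hZc, sq]) (hcommV x hx y hy) hv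
    obtain ⟨z, hz, i, hzi⟩ := exists_of_mem_sup (hVeq'.le hxv)
    have hz2 : z ∈ E2 := zOne_le h2 hz
    rw [show xv = (⟨z, hz2⟩ : E2) * (⁅(⟨x, hx⟩ : E2), ⟨y, hy⟩⁆ ^ p ^ n) ^ i from Subtype.ext hzi,
      map_mul, map_zpow, map_pow, map_commutatorElement α, Subgroup.coe_mul, SubgroupClass.coe_zpow,
      SubmonoidClass.coe_pow]
    exact mul_mem (hlt.le (hZinv α hα _ hz))
      (Subgroup.zpow_mem _ (hcommV _ (α ⟨x, hx⟩).2 _ (α ⟨y, hy⟩).2) i)
  have hpowK : ∀ x ∈ E2, x ^ p ∈ K0 := by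
    intro x hx
    refine ⟨hpowC x hx, ?_⟩
    set c := x ^ p with hc
    refine hP _ (hφW c (hpowC x hx)) fun y hy => ?_
    refine mul_inv_eq_iff_eq_mul.1 ?_
    rw [← conj_pow]
    set c' := x⁻¹ * (y * x * y⁻¹) with hc'
    have hc'K : c' ∈ K0 := by
      rw [show c' = ⁅x⁻¹, y⁆ by rw [hc', commutatorElement_def]; group]
      exact hcommK _ (inv_mem hx) y hy
    have hycy : y * c * y⁻¹ = (x * c') ^ p := by rw [hc, hc', mul_inv_cancel_left, conj_pow]
    haveI : (pre ⊥).Normal := hpren _ inferInstance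
    have hxc : Commute (QuotientGroup.mk' (pre ⊥) x) (QuotientGroup.mk' (pre ⊥) c') := commute_mk'
      ⟨hcommC x hx c' (hC2 hc'K.1), by
        rw [commutatorElement_def, hφcomm c' hc'K.1 x, commutatorElement_eq_one_iff_commute.2
          (zOne_commute hc'K.2 x)]
        exact one_mem _⟩
    have hc'p : c' ^ p ∈ pre ⊥ := ⟨Subgroup.pow_mem _ hc'K.1 p, by
      rw [← pow_mul, mul_comm, pow_mul, hc'K.2.2]; exact one_mem _⟩
    have heq : c⁻¹ * (y * c * y⁻¹) ∈ pre ⊥ := by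
      rw [← mk'_eq_one, hycy, hc, map_mul, map_inv, map_pow, map_pow, map_mul, hxc.mul_pow,
        ← map_pow _ c', mk'_eq_one.2 hc'p, mul_one, inv_mul_cancel]
    have h6 := Subgroup.mem_bot.1 heq.2
    rw [hφmul _ (inv_mem (hpowC x hx)) _ (Subgroup.Normal.conj_mem inferInstance c (hpowC x hx) y), inv_pow,
      inv_mul_eq_one] at h6
    exact h6.symm
  -- the section of order `p ^ 4`
  have hsec : SectRank.IsElemSection p K0 E2 :=
    ⟨fun x hx => hC2 hx.1, fun a ha b hb => hcommK a ha b hb, hpowK⟩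
  have hb1 := card_le_of_rank D.pgroup D.rank hsec
  obtain ⟨x1, hx1, hx1w⟩ := hIW (hVW hw1)
  obtain ⟨x2, hx2, hx2w⟩ := hIW hw2
  have b1 := card_mul_le' D.pgroup (lt_of_le_of_ne hK01 fun hh =>
    hw1Z (hx1w ▸ ((hh.ge (show x1 ∈ K1 from ⟨hx1, hx1w.symm ▸ hw1⟩)) : x1 ∈ K0).2))
  have b2 := card_mul_le' D.pgroup (lt_of_le_of_ne (fun x hx => hx.1 : K1 ≤ C) fun hh =>
    hw2V (hx2w ▸ ((hh.ge hx2) : x2 ∈ K1).2))
  have hbig : Nat.card K0 * p ^ 4 ≤ Nat.card E2 := by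
    calc Nat.card K0 * p ^ 4 = Nat.card K0 * p * p * p * p := by ring
      _ ≤ Nat.card E2 := (Nat.mul_le_mul_right _ ((Nat.mul_le_mul_right _
          ((Nat.mul_le_mul_right _ b1).trans b2)).trans a1)).trans a2
  exact absurd (Nat.le_of_mul_le_mul_left (hbig.trans hb1) Nat.card_pos)
    (_root_.not_le.2 (Nat.pow_lt_pow_right hp.out.one_lt (by norm_num)))

end NormalSys

end Cfsg.Agent.Lib.RankThreeNormal61
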