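import Mathlib
import Cfsg.Agent.Lib.RankThreeEss69.Basic

/-!
Triple commutators which are central of exponent `p` modulo a normal subgroup are multilinear and
depend only on the arguments modulo the Frattini part.
-/

set_option autoImplicit false
set_option linter.unusedSectionVars false

namespace Cfsg.Agent.Lib.RankThreeNormal61

open Cfsg Cfsg.Agent.Lib Cfsg.Agent.Lib.RankThreeEss69
open scoped commutatorElement

universe u

variable {G : Type u} [Group G]

/-- Triple commutators central and of exponent `p` modulo `K`. -/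
structure Tri (p : ℕ) (K : Subgroup G) : Prop where
  cen : ∀ a b c q : G, ⁅⁅⁅a, b⁆, c⁆, q⁆ ∈ K
  pow : ∀ a b c : G, ⁅⁅a, b⁆, c⁆ ^ p ∈ K

namespace Tri

variable {p : ℕ} {K : Subgroup G} [K.Normal] (h : Tri p K)

/-- The class of a triple commutator. -/
def val (K : Subgroup G) [K.Normal] (a b c : G) : G ⧸ K := QuotientGroup.mk' K ⁅⁅a, b⁆, c⁆

include h

theorem commute (a b c : G) (q : G ⧸ K) : Commute (val K a b c) q :=
  QuotientGroup.induction_on q fun x => commute_mk' (h.cen a b c x)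

theorem pow_one' (a b c : G) : val K a b c ^ p = 1 := by
  rw [val, ← map_pow, mk'_eq_one]; exact h.pow a b c

theorem mul₃ (a b c c' : G) : val K a b (c * c') = val K a b c * val K a b c' := by
  simp only [val]
  rw [show ⁅⁅a, b⁆, c * c'⁆ = ⁅⁅a, b⁆, c⁆ * (c * ⁅⁅a, b⁆, c'⁆ * c⁻¹) by
    simp only [commutatorElement_def]; group]
  simp only [map_mul, map_inv]
  have hc : Commute (QuotientGroup.mk' K ⁅⁅a, b⁆, c'⁆) (QuotientGroup.mk' K c) := h.commute a b c' _
  rw [← hc.eq, mul_inv_cancel_right]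

theorem mul₁ (a a' b c : G) : val K (a * a') b c = val K a b c * val K a' b c := by
  simp only [val]
  set π := QuotientGroup.mk' K
  have key : ∀ (x y w : G), (∀ q, Commute (π ⁅y, w⁆) q) → π ⁅x * y, w⁆ = π ⁅x, w⁆ * π ⁅y, w⁆ := by
    intro x y w hq
    rw [show ⁅x * y, w⁆ = x * ⁅y, w⁆ * x⁻¹ * ⁅x, w⁆ by simp only [commutatorElement_def]; group]
    simp only [map_mul, map_inv]
    rw [← (hq (π x)).eq, mul_inv_cancel_right, (hq _).eq]
  have e : ⁅a * a', b⁆ = a * ⁅a', b⁆ * a⁻¹ * ⁅a, b⁆ := by simp only [commutatorElement_def]; group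
  rw [e, key _ _ _ (h.commute a b c)]
  have e2 : a * ⁅a', b⁆ * a⁻¹ = ⁅⁅a', b⁆, a⁆⁻¹ * ⁅a', b⁆ := by
    simp only [commutatorElement_def]; group
  rw [e2, key _ _ _ (h.commute a' b c)]
  have h0 : π ⁅⁅⁅a', b⁆, a⁆⁻¹, c⁆ = 1 := by
    rw [map_commutatorElement, commutatorElement_eq_one_iff_commute, map_inv]
    exact (h.commute a' b a _).inv_left
  rw [h0, one_mul]
  exact (h.commute a b c _).symm.eq

theorem one₁ (b c : G) : val K 1 b c = 1 := by
  simp [val, commutatorElement_def]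

theorem one₃ (a b : G) : val K a b 1 = 1 := by
  simp [val, commutatorElement_def]

theorem swap (a b c : G) : val K b a c = (val K a b c)⁻¹ := by
  refine eq_inv_of_mul_eq_one_left ?_
  simp only [val]
  set π := QuotientGroup.mk' K
  rw [← commutatorElement_inv a b, show ⁅⁅a, b⁆⁻¹, c⁆ = ⁅a, b⁆⁻¹ * ⁅⁅a, b⁆, c⁆⁻¹ * ⁅a, b⁆ by
    simp only [commutatorElement_def]; group]
  simp only [map_mul, map_inv]
  have hc : Commute (π ⁅⁅a, b⁆, c⁆)⁻¹ (π ⁅a, b⁆) := (h.commute a b c _).inv_left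
  rw [mul_assoc _ _ (π ⁅a, b⁆), hc.eq, inv_mul_cancel_left, inv_mul_cancel]

theorem mul₂ (a b b' c : G) : val K a (b * b') c = val K a b c * val K a b' c := by
  rw [← inv_inv (val K a (b * b') c), ← h.swap a (b * b') c, h.mul₁, h.swap a b c, h.swap a b' c,
    mul_inv_rev, inv_inv, inv_inv]
  exact (h.commute a b' c _).eq

/-- The form in the first variable. -/
noncomputable def hom₁ (b c : G) : G →* Subgroup.center (G ⧸ K) :=
  MonoidHom.mk' (fun a => ⟨val K a b c, Subgroup.mem_center_iff.2 fun q => (h.commute a b c q).eq.symm⟩)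
    fun a a' => Subtype.ext (h.mul₁ a a' b c)

/-- The form in the last variable. -/
noncomputable def hom₃ (a b : G) : G →* Subgroup.center (G ⧸ K) :=
  MonoidHom.mk' (fun c => ⟨val K a b c, Subgroup.mem_center_iff.2 fun q => (h.commute a b c q).eq.symm⟩)
    fun c c' => Subtype.ext (h.mul₃ a b c c')

omit h in
theorem ker_fr (f : G →* Subgroup.center (G ⧸ K)) (hf : ∀ x, f x ^ p = 1) :
    fr p (⊤ : Subgroup G) ⊔ K ≤ f.ker ⊔ K := by
  refine sup_le_sup_right (fr_le_of (fun x _ => ?_) fun x _ y _ => ?_) K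
  · rw [MonoidHom.mem_ker, map_pow]; exact hf x
  · rw [MonoidHom.mem_ker, map_commutatorElement, commutatorElement_eq_one_iff_commute]
    exact Subtype.ext (Subgroup.mem_center_iff.1 (f y).2 _)

theorem zero₁ {u : G} (hu : u ∈ fr p (⊤ : Subgroup G) ⊔ K) (b c : G) : val K u b c = 1 := by
  have hK : K ≤ (h.hom₁ b c).ker := fun x hx => by
    refine Subtype.ext (?_ : val K x b c = 1)
    have hx' : QuotientGroup.mk' K x = 1 := mk'_eq_one.2 hx
    rw [val, map_commutatorElement, map_commutatorElement, hx', commutatorElement_one_left,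
      commutatorElement_one_left]
  have := (ker_fr (h.hom₁ b c) (fun x => Subtype.ext (h.pow_one' x b c)) hu)
  rw [sup_eq_left.2 hK] at this
  exact congrArg Subtype.val (MonoidHom.mem_ker.1 this)

theorem zero₂ {u : G} (hu : u ∈ fr p (⊤ : Subgroup G) ⊔ K) (a c : G) : val K a u c = 1 := by
  rw [← inv_inv (val K a u c), ← h.swap a u c, h.zero₁ hu, inv_one]

theorem zero₃ {u : G} (hu : u ∈ fr p (⊤ : Subgroup G) ⊔ K) (a b : G) : val K a b u = 1 := by
  have hK : K ≤ (h.hom₃ a b).ker := fun x hx => by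
    refine Subtype.ext (?_ : val K a b x = 1)
    have hx' : QuotientGroup.mk' K x = 1 := mk'_eq_one.2 hx
    rw [val, map_commutatorElement, hx', commutatorElement_one_right]
  have := (ker_fr (h.hom₃ a b) (fun x => Subtype.ext (h.pow_one' a b x)) hu)
  rw [sup_eq_left.2 hK] at this
  exact congrArg Subtype.val (MonoidHom.mem_ker.1 this)

theorem congr₁ {a a' : G} (e : a⁻¹ * a' ∈ fr p (⊤ : Subgroup G) ⊔ K) (b c : G) :
    val K a b c = val K a' b c := by
  conv_rhs => rw [← mul_inv_cancel_left a a', h.mul₁, h.zero₁ e, mul_one]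

theorem congr₂ {b b' : G} (e : b⁻¹ * b' ∈ fr p (⊤ : Subgroup G) ⊔ K) (a c : G) :
    val K a b c = val K a b' c := by
  conv_rhs => rw [← mul_inv_cancel_left b b', h.mul₂, h.zero₂ e, mul_one]

theorem congr₃ {c c' : G} (e : c⁻¹ * c' ∈ fr p (⊤ : Subgroup G) ⊔ K) (a b : G) :
    val K a b c = val K a b c' := by
  conv_rhs => rw [← mul_inv_cancel_left c c', h.mul₃, h.zero₃ e, mul_one]

theorem inv₁ (a b c : G) : val K a⁻¹ b c = (val K a b c)⁻¹ := by
  refine eq_inv_of_mul_eq_one_left ?_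
  rw [← h.mul₁, inv_mul_cancel, h.one₁]

theorem inv₂ (a b c : G) : val K a b⁻¹ c = (val K a b c)⁻¹ := by
  rw [← inv_inv (val K a b⁻¹ c), ← h.swap a b⁻¹ c, h.inv₁, h.swap a b c, inv_inv]

theorem inv₃ (a b c : G) : val K a b c⁻¹ = (val K a b c)⁻¹ := by
  refine eq_inv_of_mul_eq_one_left ?_
  rw [← h.mul₃, inv_mul_cancel, h.one₃]

theorem zpow₁ (a b c : G) (i : ℤ) : val K (a ^ i) b c = val K a b c ^ i := by
  have := congrArg Subtype.val (map_zpow (h.hom₁ b c) a i)
  rwa [SubgroupClass.coe_zpow] at this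

theorem zpow₂ (a b c : G) (i : ℤ) : val K a (b ^ i) c = val K a b c ^ i := by
  rw [← inv_inv (val K a (b ^ i) c), ← h.swap a (b ^ i) c, h.zpow₁, h.swap a b c, inv_zpow, inv_inv]

theorem zpow₃ (a b c : G) (i : ℤ) : val K a b (c ^ i) = val K a b c ^ i := by
  have := congrArg Subtype.val (map_zpow (h.hom₃ a b) c i)
  rwa [SubgroupClass.coe_zpow] at this

theorem refl (a c : G) : val K a a c = 1 := by simp [val, commutatorElement_def]

end Tri

end Cfsg.Agent.Lib.RankThreeNormal61
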