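import Mathlib
import Cfsg.Agent.Lib.RankThreeNormal61.Tools

/-!
An essential subgroup moving a centre of order `p` to a plane `V` has at most one normal elementary
abelian subgroup of order `p ^ 3` over `V`.
-/

set_option autoImplicit false
set_option linter.unusedSectionVars false

namespace Cfsg.Agent.Lib.RankThreeNormal61

open Cfsg Cfsg.Agent.Lib Cfsg.Agent.Lib.RankThreeEss69
open scoped commutatorElement

universe u

variable {G : Type u} [Group G] [Finite G] {p : ℕ} [hp : Fact p.Prime] {D : NormalSys p G}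

namespace NormalSys

/-- An elementary abelian subgroup of order `p ^ 3` of `E` over the plane, normalised by `E`. -/
def Big (D : NormalSys p G) (E Y : Subgroup G) : Prop :=
  Y ≤ E ∧ vSub D E ≤ Y ∧ IsElementaryAbelian p Y ∧ Nat.card Y = p ^ 3 ∧
    ∀ e ∈ E, ∀ y ∈ Y, e * y * e⁻¹ ∈ Y

variable {E : Subgroup G} (hE : D.IsEss E)
include hE

omit hE in
theorem big_image {Y : Subgroup G} (hY : Big D E Y) {α : MulAut E} (hα : α ∈ D.aut E) :
    Big D E (((Y.subgroupOf E).map α.toMonoidHom).map E.subtype) := by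
  obtain ⟨hYE, hVY, hel, hc, hn⟩ := hY
  refine ⟨Subgroup.map_subtype_le _, fun x hx => ?_, ?_, ?_, ?_⟩
  · have h := vSub_inv _ ((D.aut E).inv_mem hα) ⟨x, vSub_le_E D E hx⟩ hx
    exact ⟨α (α⁻¹ ⟨x, vSub_le_E D E hx⟩), Subgroup.mem_map_of_mem _ (hVY h), by
      rw [MulAut.apply_inv_self]; rfl⟩
  · exact ElemAbelian.map (ElemAbelian.map (ElemAbelian.comap hel (f := E.subtype) E.subtype_injective) _) _
  · rw [Subgroup.card_map_of_injective E.subtype_injective,
      Subgroup.card_map_of_injective (f := α.toMonoidHom) (MulEquiv.injective α),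
      Nat.card_congr (Subgroup.subgroupOfEquivOfLe hYE).toEquiv, hc]
  · rintro e he _ ⟨_, ⟨y, hy, rfl⟩, rfl⟩
    refine ⟨α (α⁻¹ ⟨e, he⟩ * y * (α⁻¹ ⟨e, he⟩)⁻¹), Subgroup.mem_map_of_mem _
      (hn _ (α⁻¹ ⟨e, he⟩).2 _ hy), ?_⟩
    rw [map_mul α, map_mul α, map_inv α, MulAut.apply_inv_self]
    rfl

theorem big_unique (hm : Moved D E) (hV : Nat.card (vSub D E) = p ^ 2) {Y Y' : Subgroup G}
    (hY : Big D E Y) (hY' : Big D E Y') : Y = Y' := by
  by_contra hne
  haveI := vSub_normal hE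
  set V := vSub D E
  have hVel : IsElementaryAbelian p V := vSub_elem
  set s : Set G := {y | ∃ Z : Subgroup G, Big D E Z ∧ y ∈ Z}
  have hsE : ∀ y ∈ s, y ∈ E := fun y ⟨Z, hZ, hy⟩ => hZ.1 hy
  have hsp : ∀ y ∈ s, y ^ p = 1 := fun y ⟨Z, hZ, hy⟩ => hZ.2.2.1.2 y hy
  have hsc : ∀ a ∈ s, ∀ b ∈ s, ⁅a, b⁆ ∈ V := by
    rintro a ⟨A, hA, ha⟩ b ⟨B, hB, hb⟩
    have hmA : ⁅a, b⁆ ∈ A := by
      rw [show ⁅a, b⁆ = a * (b * a⁻¹ * b⁻¹) by rw [commutatorElement_def]; group]
      exact mul_mem ha (hA.2.2.2.2 b (hB.1 hb) _ (inv_mem ha))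
    have hmB : ⁅a, b⁆ ∈ B := by
      rw [commutatorElement_def]
      exact mul_mem (hB.2.2.2.2 a (hA.1 ha) b hb) (inv_mem hb)
    by_cases hAB : A = B
    · subst hAB
      rw [commutatorElement_eq_one_iff_commute.2 (ElemAbelian.comm hA.2.2.1 ha hb)]
      exact one_mem _
    · have hlt : A ⊓ B < A := lt_of_le_of_ne inf_le_left fun h => hAB
        (Subgroup.eq_of_le_of_card_ge (h.ge.trans inf_le_right) (by rw [hA.2.2.2.1, hB.2.2.2.1]))
      have hc := card_mul_le' D.pgroup hlt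
      rw [hA.2.2.2.1, pow_succ] at hc
      exact (Subgroup.eq_of_le_of_card_ge (le_inf hA.2.1 hB.2.1) (by
        rw [hV]; exact Nat.le_of_mul_le_mul_right hc hp.out.pos)).ge ⟨hmA, hmB⟩
  set X := Subgroup.closure s with hX
  have hYX : Y ≤ X := fun y hy => Subgroup.subset_closure ⟨Y, hY, hy⟩
  have hY'X : Y' ≤ X := fun y hy => Subgroup.subset_closure ⟨Y', hY', hy⟩
  have hVX : V ≤ X := hY.2.1.trans hYX
  have hXE : X ≤ E := (Subgroup.closure_le _).2 hsE
  have hsec : SectRank.IsElemSection p V X := by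
    have h := isElemSection_of_gen (K := V) hsc fun a ha => by rw [hsp a ha]; exact one_mem _
    rwa [sup_eq_right.2 hVX] at h
  have htwo : Two p X := ⟨fun a ha b hb x hx => (vSub_commute (hsec.comm a ha b hb) (hXE hx)).symm,
    fun a ha b hb => hVel.2 _ (hsec.comm a ha b hb)⟩
  have hexp : ∀ x ∈ X, x ^ p = 1 := by
    intro x hx
    induction hx using Subgroup.closure_induction with
    | mem y hy => exact hsp y hy
    | one => exact one_pow p
    | mul a b ha hb h1 h2 => rw [htwo.mul_pow_eq D.odd ha hb, h1, h2, one_mul]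
    | inv a _ h => rw [inv_pow, h, inv_one]
  have hXinv : ∀ α ∈ D.aut E, ∀ x : E, (x : G) ∈ X → (α x : G) ∈ X := by
    intro α hα x hx
    have hle : X ≤ ((X.subgroupOf E).comap α.toMonoidHom).map E.subtype := by
      refine (Subgroup.closure_le _).2 ?_
      rintro y ⟨Z, hZ, hy⟩
      exact ⟨⟨y, hZ.1 hy⟩, Subgroup.subset_closure ⟨_, big_image hZ hα,
        Subgroup.mem_map_of_mem _ (Subgroup.mem_map_of_mem _
          (show (⟨y, hZ.1 hy⟩ : E) ∈ Z.subgroupOf E from hy))⟩, rfl⟩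
    obtain ⟨y, hy, hyx⟩ := hle hx
    obtain rfl : y = x := Subtype.ext hyx
    exact hy
  have hXup : Nat.card X ≤ p ^ 5 := by
    have := card_le_of_rank D.pgroup D.rank hsec
    rwa [hV, ← pow_add] at this
  have hXlo : p ^ 4 ≤ Nat.card X := by
    have := card_mul_le' D.pgroup (lt_of_le_of_ne hYX fun h => hne
      (Subgroup.eq_of_le_of_card_ge (h.symm ▸ hY'X : Y' ≤ Y) (by rw [hY.2.2.2.1, hY'.2.2.2.1])).symm)
    rwa [hY.2.2.2.1, ← pow_succ] at this
  -- no two independent commuting elements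
  have hcen : ∀ x ∈ X, ∀ y ∈ V, Commute x y := fun x hx y hy => vSub_commute hy (hXE hx)
  have hR : ∀ a ∈ X, a ∉ V → ∀ b ∈ X, b ∉ V ⊔ Subgroup.zpowers a → ¬ Commute a b := by
    intro a ha haV b hb hb' hab
    have h1 := card_mul_le' D.pgroup (lt_of_le_of_ne (le_sup_left : V ≤ V ⊔ Subgroup.zpowers a)
      fun h => haV (h.ge (Subgroup.mem_sup_right (Subgroup.mem_zpowers a))))
    have h2 := card_mul_le' D.pgroup (lt_of_le_of_ne
      (le_sup_left : V ⊔ Subgroup.zpowers a ≤ V ⊔ Subgroup.zpowers a ⊔ Subgroup.zpowers b)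
      fun h => hb' (h.ge (Subgroup.mem_sup_right (Subgroup.mem_zpowers b))))
    have hela : IsElementaryAbelian p (Subgroup.zpowers a) := by
      rw [Subgroup.zpowers_eq_closure]
      exact ElemAbelian.closure (by rintro x rfl y rfl; rfl) (by rintro x rfl; exact hexp _ ha)
    have helb : IsElementaryAbelian p (Subgroup.zpowers b) := by
      rw [Subgroup.zpowers_eq_closure]
      exact ElemAbelian.closure (by rintro x rfl y rfl; rfl) (by rintro x rfl; exact hexp _ hb)
    have h3 := card_elem_le D (elem_sup (elem_sup hVel hela fun v hv x hx => by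
      obtain ⟨i, rfl⟩ := Subgroup.mem_zpowers_iff.1 hx
      exact ((hcen a ha v hv).symm.zpow_right i)) helb fun v hv x hx => by
      obtain ⟨i, rfl⟩ := Subgroup.mem_zpowers_iff.1 hx
      obtain ⟨w, hw, j, rfl⟩ := exists_of_mem_sup hv
      exact ((hcen b hb w hw).symm.mul_left (hab.zpow_left j)).zpow_right i)
    rw [hV] at h1
    have h4 := (Nat.mul_le_mul_right p h1).trans (h2.trans h3)
    rw [← pow_succ, ← pow_succ, Nat.pow_le_pow_iff_right hp.out.one_lt] at h4
    omega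
  obtain ⟨a, haX, haV⟩ := SetLike.exists_of_lt (lt_of_le_of_ne hVX fun h => by
    rw [← h, hV, Nat.pow_le_pow_iff_right hp.out.one_lt] at hXlo; omega)
  have hMa : Nat.card (V ⊔ Subgroup.zpowers a : Subgroup G) ≤ p ^ 3 := by
    rw [pow_succ, ← hV]
    exact card_sup_zpowers_le (by rw [hexp a haX]; exact one_mem _)
  have hMaX : V ⊔ Subgroup.zpowers a ≤ X := sup_le hVX (Subgroup.zpowers_le.2 haX)
  obtain ⟨b, hbX, hbM⟩ := SetLike.exists_of_lt (lt_of_le_of_ne hMaX fun h => by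
    rw [h] at hMa
    exact absurd (hXlo.trans hMa) (_root_.not_le.2 (Nat.pow_lt_pow_right hp.out.one_lt (by norm_num))))
  set M := V ⊔ Subgroup.zpowers a ⊔ Subgroup.zpowers b with hM
  have hMX : M ≤ X := sup_le hMaX (Subgroup.zpowers_le.2 hbX)
  by_cases hMeq : M = X
  · -- one commutator generates all of them
    set c := ⁅a, b⁆ with hc
    have hstep : ∀ x ∈ X, ⁅x, a⁆ ∈ Subgroup.zpowers c → ⁅x, b⁆ ∈ Subgroup.zpowers c →
        ∀ y ∈ X, ⁅x, y⁆ ∈ Subgroup.zpowers c := by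
      intro x hx hxa hxb y hy
      let C : Subgroup G :=
        { carrier := {y | y ∈ X ∧ ⁅x, y⁆ ∈ Subgroup.zpowers c}
          one_mem' := ⟨one_mem _, by simp⟩
          mul_mem' := fun {y z} hy hz => ⟨mul_mem hy.1 hz.1, by
            rw [htwo.cr hx hy.1 hz.1]; exact mul_mem hy.2 hz.2⟩
          inv_mem' := fun {y} hy => ⟨inv_mem hy.1, by
            have h := htwo.zr hx hy.1 (-1)
            rw [zpow_neg_one, zpow_neg_one] at h
            rw [h]; exact inv_mem hy.2⟩ }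
      refine ((sup_le (sup_le (fun v hv => ?_) (Subgroup.zpowers_le.2 ?_)) (Subgroup.zpowers_le.2 ?_) :
        M ≤ C) (hMeq.ge hy)).2
      exacts [⟨hVX hv, by rw [commutatorElement_eq_one_iff_commute.2 (hcen x hx v hv)]; exact one_mem _⟩,
        ⟨haX, hxa⟩, ⟨hbX, hxb⟩]
    have hca : ∀ y ∈ X, ⁅a, y⁆ ∈ Subgroup.zpowers c :=
      hstep a haX (by simp) (Subgroup.mem_zpowers c)
    have hcb : ∀ y ∈ X, ⁅b, y⁆ ∈ Subgroup.zpowers c :=
      hstep b hbX (by rw [← commutatorElement_inv]; exact inv_mem (Subgroup.mem_zpowers c)) (by simp)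
    have hall : ∀ x ∈ X, ∀ y ∈ X, ⁅x, y⁆ ∈ Subgroup.zpowers c := fun x hx y hy =>
      hstep x hx (by rw [← commutatorElement_inv]; exact inv_mem (hca x hx))
        (by rw [← commutatorElement_inv]; exact inv_mem (hcb x hx)) y hy
    have hc1 : c ≠ 1 := fun h => hR a haX haV b hbX hbM (commutatorElement_eq_one_iff_commute.1 h)
    have hcV : c ∈ V := hsec.comm a haX b hbX
    have hcE : c ∈ E := vSub_le_E D E hcV
    have hcinv : D.Inv E (Subgroup.zpowers c) := fun α hα x hx => by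
      obtain ⟨k, hk⟩ := Subgroup.mem_zpowers_iff.1 hx
      rw [show x = ⁅(⟨a, hXE haX⟩ : E), ⟨b, hXE hbX⟩⁆ ^ k from Subtype.ext hk.symm, map_zpow,
        map_commutatorElement]
      exact Subgroup.zpow_mem _ (hall _ (hXinv α hα _ haX) _ (hXinv α hα _ hbX)) k
    haveI := normal_of_inv hE (Subgroup.zpowers_le.2 hcE) hcinv
    have hcp : c ^ p = 1 := hVel.2 c hcV
    have hcc := Lib.NormalElem.le_center_of_card_prime D.pgroup (A := Subgroup.zpowers c)
      (by rw [Nat.card_zpowers, orderOf_eq_prime hcp hc1]) (Subgroup.mem_zpowers c)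
    refine hm ?_
    rcases card_zOne_cases D hVel (lt_vSub hE hm) with hz | ⟨-, hV3⟩
    · rwa [← Subgroup.eq_of_le_of_card_ge
        (Subgroup.zpowers_le.2 (show c ∈ zOne p G from ⟨hcc, hcp⟩))
        (by rw [hz, Nat.card_zpowers, orderOf_eq_prime hcp hc1])]
    · rw [hV] at hV3
      exact absurd (Nat.pow_right_injective hp.out.two_le hV3) (by norm_num)
  · obtain ⟨c, hcX, hcM⟩ := SetLike.exists_of_lt (lt_of_le_of_ne hMX hMeq)
    let el : ZMod p × ZMod p → G := fun q => b ^ (q.1.val : ℤ) * c ^ (q.2.val : ℤ)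
    have helX : ∀ q, el q ∈ X := fun q => mul_mem (Subgroup.zpow_mem _ hbX _) (Subgroup.zpow_mem _ hcX _)
    let f : ZMod p × ZMod p → V := fun q => ⟨⁅a, el q⁆, hsec.comm a haX _ (helX q)⟩
    have hf : Function.Injective f := by
      intro q r h
      have h' : ⁅a, el q * (el r)⁻¹⁆ = 1 := by
        rw [htwo.cr haX (helX q) (inv_mem (helX r)), ← zpow_neg_one (el r), htwo.zr haX (helX r), zpow_neg_one,
          mul_inv_eq_one]
        exact congrArg Subtype.val h
      have hy : el q * (el r)⁻¹ ∈ V ⊔ Subgroup.zpowers a := by_contra fun hcon =>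
        hR a haX haV _ (mul_mem (helX q) (inv_mem (helX r))) hcon
          (commutatorElement_eq_one_iff_commute.1 h')
      have hb' : ∀ k : ℤ, b ^ k ∈ M := fun k =>
        Subgroup.mem_sup_right (Subgroup.zpow_mem _ (Subgroup.mem_zpowers b) k)
      have hc' : c ^ ((q.2.val : ℤ) - r.2.val) ∈ M := by
        rw [zpow_sub, show c ^ (q.2.val : ℤ) * (c ^ (r.2.val : ℤ))⁻¹ =
          (b ^ (q.1.val : ℤ))⁻¹ * (el q * (el r)⁻¹) * b ^ (r.1.val : ℤ) by simp only [el]; group]
        exact mul_mem (mul_mem (inv_mem (hb' _)) (Subgroup.mem_sup_left hy)) (hb' _)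
      have e2 : (((q.2.val : ℤ) - r.2.val : ℤ) : ZMod p) = 0 := by
        by_contra h0
        exact hcM (mem_of_zpow (p := p) (by rw [hexp c hcX]; exact one_mem _) h0 hc')
      push_cast at e2
      rw [ZMod.natCast_zmod_val, ZMod.natCast_zmod_val, sub_eq_zero] at e2
      have hb0 : b ^ ((q.1.val : ℤ) - r.1.val) ∈ V ⊔ Subgroup.zpowers a := by
        rw [zpow_sub]
        rw [show el q * (el r)⁻¹ = b ^ (q.1.val : ℤ) * (b ^ (r.1.val : ℤ))⁻¹ by
          simp only [el, e2]; group] at hy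
        exact hy
      have e1 : (((q.1.val : ℤ) - r.1.val : ℤ) : ZMod p) = 0 := by
        by_contra h0
        exact hbM (mem_of_zpow (p := p) (by rw [hexp b hbX]; exact one_mem _) h0 hb0)
      push_cast at e1
      rw [ZMod.natCast_zmod_val, ZMod.natCast_zmod_val, sub_eq_zero] at e1
      exact Prod.ext e1 e2
    have hsurj : Function.Surjective f := ((Nat.bijective_iff_injective_and_card f).2
      ⟨hf, by rw [Nat.card_prod, Nat.card_zmod, hV, sq]⟩).2
    obtain ⟨q, hq⟩ := hsurj ⟨⁅b, c⁆, hsec.comm b hbX c hcX⟩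
    have hbc : ⁅b, c⁆ = ⁅a, b⁆ ^ (q.1.val : ℤ) * ⁅a, c⁆ ^ (q.2.val : ℤ) := by
      refine (congrArg Subtype.val hq).symm.trans ?_
      show ⁅a, el q⁆ = _
      rw [htwo.cr haX (Subgroup.zpow_mem _ hbX _) (Subgroup.zpow_mem _ hcX _), htwo.zr haX hbX,
        htwo.zr haX hcX]
    set i := (q.1.val : ℤ)
    set j := (q.2.val : ℤ)
    have ha1 : ∀ k : ℤ, a ^ k ∈ X := fun k => Subgroup.zpow_mem _ haX k
    have hcom : ⁅b * a ^ (-j), c * a ^ i⁆ = 1 := by
      rw [htwo.cl hbX (ha1 _) (mul_mem hcX (ha1 _)), htwo.cr hbX hcX (ha1 _),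
        htwo.cr (ha1 _) hcX (ha1 _), htwo.zr hbX haX, htwo.zl haX hcX, htwo.zl haX (ha1 _),
        htwo.zr haX haX, commutatorElement_self, one_zpow, one_zpow, mul_one, ← commutatorElement_inv a b,
        inv_zpow', hbc]
      have hcm : Commute (⁅a, c⁆ ^ j) (⁅a, b⁆ ^ (-i)) :=
        ((htwo.comm a haX c hcX _ (hVX (hsec.comm a haX b hbX))).zpow_zpow j (-i))
      rw [mul_assoc (⁅a, b⁆ ^ i), hcm.eq, ← mul_assoc, ← zpow_add, add_neg_cancel, zpow_zero, one_mul,
        ← zpow_add, add_neg_cancel, zpow_zero]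
    refine hR (b * a ^ (-j)) (mul_mem hbX (ha1 _)) (fun h => hbM ?_) (c * a ^ i) (mul_mem hcX (ha1 _))
      (fun h => hcM ?_) (commutatorElement_eq_one_iff_commute.1 hcom)
    · simpa using mul_mem (Subgroup.mem_sup_left h : _ ∈ V ⊔ Subgroup.zpowers a)
        (Subgroup.mem_sup_right (Subgroup.zpow_mem _ (Subgroup.mem_zpowers a) j))
    · have hle : V ⊔ Subgroup.zpowers (b * a ^ (-j)) ≤ M := sup_le (le_sup_left.trans le_sup_left)
        (Subgroup.zpowers_le.2 (mul_mem (Subgroup.mem_sup_right (Subgroup.mem_zpowers b))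
          (Subgroup.mem_sup_left (Subgroup.mem_sup_right (Subgroup.zpow_mem _ (Subgroup.mem_zpowers a) _)))))
      have hai : a ^ i ∈ M :=
        Subgroup.mem_sup_left (Subgroup.mem_sup_right (Subgroup.zpow_mem _ (Subgroup.mem_zpowers a) _))
      simpa using mul_mem (hle h) (inv_mem hai)

end NormalSys

end Cfsg.Agent.Lib.RankThreeNormal61
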