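import Mathlib
import Cfsg.Agent.Lib.RankThreeNormal61.CaseOne
import Cfsg.Agent.Lib.RankThreeNormal61.CentralPair
import Cfsg.Agent.Lib.RankThreeNormal61.Planes
import Cfsg.Agent.Lib.RankThreeNormal61.Commutes
import Cfsg.Agent.Lib.RankThreeNormal61.Config

/-!
With all essential subgroups normal, the group is a Sylow subgroup of `Sp₄(p)`.
-/

set_option autoImplicit false
set_option linter.unusedSectionVars false

namespace Cfsg.Agent.Lib.RankThreeNormal61

open Cfsg Cfsg.Agent.Lib Cfsg.Agent.Lib.RankThreeEss69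
open scoped commutatorElement

universe u

variable {G : Type u} [Group G] [Finite G] {p : ℕ} [hp : Fact p.Prime] {D : NormalSys p G}

namespace NormalSys

theorem vSub_image_le {E : Subgroup G} (hE : D.IsEss E) {σ : MulAut G} (hσ : σ ∈ D.glob) :
    (vSub D E).map σ.toMonoidHom ≤ vSub D (E.map σ.toMonoidHom) := by
  obtain ⟨-, himg⟩ := D.image hE σ hσ
  rw [Subgroup.map_le_iff_le_comap, vSub, Subgroup.closure_le]
  rintro _ ⟨α, hα, x, hx, rfl⟩
  obtain ⟨α', hα', hαx⟩ := himg α hα
  exact Subgroup.subset_closure ⟨α', hα', ⟨σ x, Subgroup.mem_map_of_mem _ x.2⟩, zOne_aut σ hx, hαx x _⟩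

theorem map_inv_map (E : Subgroup G) (σ : MulAut G) :
    (E.map σ.toMonoidHom).map (σ⁻¹).toMonoidHom = E := by
  ext x
  constructor
  · rintro ⟨_, ⟨y, hy, rfl⟩, rfl⟩
    show σ⁻¹ (σ y) ∈ E
    rwa [MulAut.inv_apply_self]
  · intro hx
    exact ⟨σ x, Subgroup.mem_map_of_mem _ hx, MulAut.inv_apply_self _ σ x⟩

theorem vSub_image {E : Subgroup G} (hE : D.IsEss E) {σ : MulAut G} (hσ : σ ∈ D.glob) :
    vSub D (E.map σ.toMonoidHom) = (vSub D E).map σ.toMonoidHom := by
  refine le_antisymm (fun x hx => ?_) (vSub_image_le hE hσ)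
  have h := vSub_image_le (D.image hE σ hσ).1 (inv_mem hσ) (Subgroup.mem_map_of_mem _ hx)
  rw [map_inv_map] at h
  exact ⟨σ⁻¹ x, h, MulAut.apply_inv_self _ σ x⟩

theorem moved_image {E : Subgroup G} (hE : D.IsEss E) (hm : Moved D E) {σ : MulAut G} (hσ : σ ∈ D.glob) :
    D.IsEss (E.map σ.toMonoidHom) ∧ Moved D (E.map σ.toMonoidHom) := by
  refine ⟨(D.image hE σ hσ).1, fun hinv => (lt_vSub hE hm).not_ge fun x hx => ?_⟩
  have hle : vSub D (E.map σ.toMonoidHom) ≤ zOne p G := (Subgroup.closure_le _).2 (by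
    rintro _ ⟨α, hα, y, hy, rfl⟩; exact hinv α hα y hy)
  have h := zOne_aut σ⁻¹ (hle ((vSub_image hE hσ).ge (Subgroup.mem_map_of_mem _ hx)))
  rwa [MulEquiv.coe_toMonoidHom, MulAut.inv_apply_self] at h

/-- The join of the images of `V` under the automorphisms of `E`. -/
def imgJoin (D : NormalSys p G) (E V : Subgroup G) : Subgroup G :=
  Subgroup.closure {y | ∃ α ∈ D.aut E, ∃ x : E, (x : G) ∈ V ∧ (α x : G) = y}

theorem imgJoin_le_E {E V : Subgroup G} : imgJoin D E V ≤ E :=
  (Subgroup.closure_le E).2 fun _ ⟨α, _, x, _, h⟩ => h ▸ (α x).2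

theorem le_imgJoin {E V : Subgroup G} (hVE : V ≤ E) : V ≤ imgJoin D E V := fun x hx =>
  Subgroup.subset_closure ⟨1, one_mem _, ⟨x, hVE hx⟩, hx, rfl⟩

theorem imgJoin_inv {E V : Subgroup G} : D.Inv E (imgJoin D E V) := by
  intro α hα x hx
  have hle : imgJoin D E V ≤ (((imgJoin D E V).subgroupOf E).comap α.toMonoidHom).map E.subtype := by
    refine (Subgroup.closure_le _).2 ?_
    rintro _ ⟨β, hβ, w, hw, rfl⟩
    exact ⟨β w, show (α (β w) : G) ∈ imgJoin D E V from
      Subgroup.subset_closure ⟨α * β, mul_mem hα hβ, w, hw, rfl⟩, rfl⟩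
  obtain ⟨y, hy, hyx⟩ := hle hx
  obtain rfl : y = x := Subtype.ext hyx
  exact hy

theorem eq_of_vSub_le {E E' : Subgroup G} (hE : D.IsEss E) (hE' : D.IsEss E') (hm' : Moved D E')
    (hle : vSub D E' ≤ vSub D E) : E = E' := by
  refine Subgroup.eq_of_le_of_card_ge
    (fun x hx => mem_of_centralizes_vSub hE' hm' fun y hy => vSub_commute (hle hy) hx) ?_
  exact Nat.le_of_mul_le_mul_right (by rw [card_E_mul hE, card_E_mul hE']) hp.out.pos

/-- The main theorem. -/
theorem exists_block (D : NormalSys p G) (hcore : D.CoreFree) :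
    (∃ e v u z : G, BlockRel p e v u z) ∧ Nat.card G = p ^ 4 := by
  by_contra hno
  obtain ⟨E1, h1, hm⟩ : ∃ E, D.IsEss E ∧ Moved D E := by
    by_contra hcon
    push Not at hcon
    exact hcore (zOne p G) (zOne_ne_bot D) (fun γ _ x hx => zOne_aut γ hx) fun E hE =>
      ⟨zOne_le hE, (not_moved_iff hE).1 (hcon E hE)⟩
  -- every moved centre lies in every essential subgroup
  have hall : ∀ E, D.IsEss E → Moved D E → ∀ E2, D.IsEss E2 → vSub D E ≤ E2 := by
    intro E hE hEm E2 hE2
    by_contra hle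
    obtain ⟨v, hv, hv2⟩ := SetLike.not_le_iff_exists.1 hle
    by_cases hfix : ∀ e ∈ E2, ∀ w ∈ vSub D E, w ∈ E2 → Commute e w
    · exact false_of_fixed hE hEm hE2 hv hv2 hcore hfix
    push Not at hfix
    obtain ⟨e, he, w, hw, hw2, hew⟩ := hfix
    exact hno (block_of_not_fixed hE hEm hE2 hv hv2 he hw hw2 hew)
  have hcommV : ∀ E, D.IsEss E → Moved D E → Nat.card (vSub D E) = p ^ 2 → ∀ E2, D.IsEss E2 →
      ¬ Moved D E2 → ∀ α ∈ D.aut E2, ∀ x : E2, (x : G) ∈ vSub D E → ∀ v ∈ vSub D E,
      Commute (α x : G) v := by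
    intro E hE hEm hV E2 hE2 hu α hα x hx v hv
    by_contra hc
    exact hno (block_of_not_commute hE hEm hV hE2 hu (hall E hE hEm E2 hE2) hα hx hv hc)
  have hjoin : ∀ E, D.IsEss E → Moved D E → Nat.card (vSub D E) = p ^ 2 → ∀ E2, D.IsEss E2 →
      ¬ Moved D E2 → IsElementaryAbelian p (imgJoin D E2 (vSub D E)) ∧
        (imgJoin D E2 (vSub D E) = vSub D E ∨ Big D E (imgJoin D E2 (vSub D E))) := by
    intro E hE hEm hV E2 hE2 hu
    set V := vSub D E
    set W := imgJoin D E2 V
    have hel : IsElementaryAbelian p W := by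
      refine ElemAbelian.closure ?_ ?_
      · rintro _ ⟨α, hα, x, hx, rfl⟩ _ ⟨β, hβ, y, hy, rfl⟩
        have h := hcommV E hE hEm hV E2 hE2 hu (β⁻¹ * α) (mul_mem (inv_mem hβ) hα) x hx y hy
        have h2 : Commute ((β⁻¹ * α) x) y := Subtype.ext h.eq
        have h3 := h2.map β.toMonoidHom
        rw [MulEquiv.coe_toMonoidHom, MulAut.mul_apply, MulAut.apply_inv_self] at h3
        exact congrArg Subtype.val h3.eq
      · rintro _ ⟨α, -, x, hx, rfl⟩
        rw [← SubmonoidClass.coe_pow, ← map_pow, show x ^ p = 1 from Subtype.ext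
          (by rw [SubmonoidClass.coe_pow, (vSub_elem (E := E)).2 _ hx, OneMemClass.coe_one]), map_one,
          OneMemClass.coe_one]
    refine ⟨hel, ?_⟩
    have hVW : V ≤ W := le_imgJoin (hall E hE hEm E2 hE2)
    by_cases hVeq : W = V
    · exact Or.inl hVeq
    refine Or.inr ⟨fun x hx => mem_of_centralizes_vSub hE hEm fun y hy =>
      ElemAbelian.comm hel hx (hVW hy), hVW, hel, le_antisymm (card_elem_le D hel) ?_,
      fun e _ y hy => (normal_of_inv hE2 imgJoin_le_E imgJoin_inv).conj_mem y hy e⟩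
    rw [pow_succ, ← hV]
    exact card_mul_le' D.pgroup (lt_of_le_of_ne hVW (Ne.symm hVeq))
  set V := vSub D E1 with hVdef
  haveI := D.normal h1
  haveI := vSub_normal h1
  by_cases huniq : ∀ E, D.IsEss E → Moved D E → vSub D E = V
  · -- one moved subgroup
    have hE1 : ∀ E, D.IsEss E → Moved D E → E = E1 := fun E hE hEm =>
      eq_of_vSub_le hE h1 hm (huniq E hE hEm).ge
    have hVglob : ∀ γ ∈ D.glob, ∀ x ∈ V, γ x ∈ V := fun γ hγ x hx => by
      obtain ⟨e1, e2⟩ := moved_image h1 hm hγ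
      exact (huniq _ e1 e2).le ((vSub_image h1 hγ).ge (Subgroup.mem_map_of_mem _ hx))
    have hE1glob : ∀ γ ∈ D.glob, ∀ x ∈ E1, γ x ∈ E1 := fun γ hγ x hx => by
      obtain ⟨e1, e2⟩ := moved_image h1 hm hγ
      exact (hE1 _ e1 e2).le (Subgroup.mem_map_of_mem _ hx)
    have hVel : IsElementaryAbelian p V := vSub_elem
    have hlt : zOne p G < V := lt_vSub h1 hm
    have hV1 : V ≠ ⊥ := fun h => not_lt_bot (h ▸ hlt)
    rcases card_zOne_cases D hVel hlt with hz | ⟨hz, hV3⟩
    · have hle := card_mul_le' D.pgroup hlt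
      rw [hz, ← sq] at hle
      obtain ⟨k, hk⟩ := IsPGroup.iff_card.1 (D.pgroup.to_subgroup V)
      have hup := vSub_card_le (D := D) (E := E1)
      rw [← hVdef, hk, Nat.pow_le_pow_iff_right hp.out.one_lt] at hup
      rw [hk, Nat.pow_le_pow_iff_right hp.out.one_lt] at hle
      rcases (show k = 2 ∨ k = 3 by omega) with rfl | rfl
      · -- a plane
        by_cases hfix : ∀ E, D.IsEss E → ¬ Moved D E → D.Inv E V
        · refine hcore V hV1 hVglob fun E hE => ⟨hall E1 h1 hm E hE, ?_⟩
          by_cases hEm : Moved D E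
          · obtain rfl := hE1 E hE hEm
            exact vSub_inv
          · exact hfix E hE hEm
        push Not at hfix
        obtain ⟨E2, h2, hu, hni⟩ := hfix
        obtain ⟨hel, hW⟩ := hjoin E1 h1 hm hk E2 h2 hu
        set W := imgJoin D E2 V
        have hne : W ≠ V := fun h => hni fun α hα x hx =>
          h.le (Subgroup.subset_closure ⟨α, hα, x, hx, rfl⟩)
        have hbig := hW.resolve_left hne
        have hW1 : D.Inv E1 W := fun α hα x hx => (big_unique h1 hm hk (big_image hbig hα) hbig).le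
          (Subgroup.mem_map_of_mem _ (Subgroup.mem_map_of_mem _ hx))
        simp only [NormalSys.Inv] at hni
        push Not at hni
        exact false_of_config h1 hm hk h2 hu hVglob hel hbig.2.2.2.1 hbig.2.1 hbig.1 imgJoin_le_E
          hW1 imgJoin_inv le_rfl hni
      · -- order `p ^ 3`
        refine hcore V hV1 hVglob fun E hE => ⟨hall E1 h1 hm E hE, ?_⟩
        by_cases hEm : Moved D E
        · obtain rfl := hE1 E hE hEm
          exact vSub_inv
        intro α hα x hx
        set V2 := ((V.subgroupOf E).map α.toMonoidHom).map E.subtype with hV2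
        have hVE := hall E1 h1 hm E hE
        have hxV2 : (α x : G) ∈ V2 := Subgroup.mem_map_of_mem _ (Subgroup.mem_map_of_mem _ hx)
        have hV2el : IsElementaryAbelian p V2 :=
          ElemAbelian.map (ElemAbelian.map (ElemAbelian.comap hVel (f := E.subtype) E.subtype_injective) _) _
        have hV2c : Nat.card V2 = p ^ 3 := by
          rw [hV2, Subgroup.card_map_of_injective E.subtype_injective,
            Subgroup.card_map_of_injective (f := α.toMonoidHom) (MulEquiv.injective α),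
            Nat.card_congr (Subgroup.subgroupOfEquivOfLe hVE).toEquiv, hk]
        have hV2n : ∀ a ∈ E, ∀ y ∈ V2, a * y * a⁻¹ ∈ V2 := by
          rintro a ha _ ⟨_, ⟨y, hy, rfl⟩, rfl⟩
          refine ⟨α (α⁻¹ ⟨a, ha⟩ * y * (α⁻¹ ⟨a, ha⟩)⁻¹), Subgroup.mem_map_of_mem _
            (show ((α⁻¹ ⟨a, ha⟩ : E) : G) * (y : G) * ((α⁻¹ ⟨a, ha⟩ : E) : G)⁻¹ ∈ V from
              Subgroup.Normal.conj_mem inferInstance _ hy _), ?_⟩
          rw [map_mul α, map_mul α, map_inv α, MulAut.apply_inv_self]
          rfl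
        by_cases hc : ∀ a ∈ V, ∀ b ∈ V2, Commute a b
        · have h := card_elem_le D (elem_sup hVel hV2el hc)
          rw [← hk] at h
          exact (Subgroup.eq_of_le_of_card_ge le_sup_left h).ge (Subgroup.mem_sup_right hxV2)
        push Not at hc
        obtain ⟨w, hw, y, hy, hwy⟩ := hc
        have hy1 : y ∉ E1 := fun h => hwy (vSub_commute hw h).symm
        have hI : ∀ i ∈ V, i ∈ V2 → i ∈ zOne p G := fun i hi hi2 =>
          ⟨mem_center_of h1 hy1 (fun a ha => vSub_commute hi ha) (ElemAbelian.comm hV2el hy hi2),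
            hVel.2 i hi⟩
        have hVy : ∀ b ∈ V ⊔ Subgroup.zpowers y, b ∈ V2 → b ∈ zOne p G ⊔ Subgroup.zpowers y := by
          intro b hb hb2
          obtain ⟨v, hv, i, rfl⟩ := exists_of_mem_sup hb
          refine mul_mem (Subgroup.mem_sup_left (hI v hv ?_))
            (Subgroup.mem_sup_right (Subgroup.zpow_mem _ (Subgroup.mem_zpowers y) i))
          simpa using mul_mem hb2 (inv_mem (Subgroup.zpow_mem _ hy i))
        obtain ⟨b, hb, hb'⟩ : ∃ b ∈ V2, b ∉ V ⊔ Subgroup.zpowers y := by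
          by_contra hcon
          push Not at hcon
          have h := (Subgroup.card_le_of_le (fun b hb => hVy b (hcon b hb) hb)).trans
            (card_sup_zpowers_le (show y ^ p ∈ zOne p G by rw [hV2el.2 y hy]; exact one_mem _))
          rw [hV2c, hz, ← sq, Nat.pow_le_pow_iff_right hp.out.one_lt] at h
          omega
        have hcomm : ∀ v ∈ V, ∀ b ∈ V2, ⁅v, b⁆ ∈ zOne p G := fun v hv b hb => hI _
          (by
            rw [show ⁅v, b⁆ = v * (b * v⁻¹ * b⁻¹) by rw [commutatorElement_def]; group]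
            exact mul_mem hv (Subgroup.Normal.conj_mem inferInstance _ (inv_mem hv) b))
          (by
            rw [commutatorElement_def]
            exact mul_mem (hV2n v (hVE hv) b hb) (inv_mem hb))
        refine (false_of_gen D.pgroup D.rank (K := zOne p G) (s := (V : Set G) ∪ (V2 : Set G)) ?_ ?_ ?_).elim
        · rintro a (ha | ha) c (hc | hc)
          exacts [by rw [commutatorElement_eq_one_iff_commute.2 (ElemAbelian.comm hVel ha hc)]; exact one_mem _,
            hcomm a ha c hc,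
            by rw [← commutatorElement_inv]; exact inv_mem (hcomm c hc a ha),
            by rw [commutatorElement_eq_one_iff_commute.2 (ElemAbelian.comm hV2el ha hc)]; exact one_mem _]
        · rintro a (ha | ha)
          exacts [by rw [hVel.2 a ha]; exact one_mem _, by rw [hV2el.2 a ha]; exact one_mem _]
        · have hX : ∀ a, a ∈ V ∨ a ∈ V2 →
              a ∈ zOne p G ⊔ Subgroup.closure ((V : Set G) ∪ (V2 : Set G)) := fun a ha =>
            Subgroup.mem_sup_right (Subgroup.subset_closure ha)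
          have a1 := card_mul_le' D.pgroup (lt_of_le_of_ne (le_sup_left : V ≤ V ⊔ Subgroup.zpowers y)
            fun h => hy1 (vSub_le_E D E1 (h.ge (Subgroup.mem_sup_right (Subgroup.mem_zpowers y)))))
          have a2 := card_mul_le' D.pgroup (lt_of_le_of_ne
            (sup_le (fun a ha => hX a (Or.inl ha)) (Subgroup.zpowers_le.2 (hX y (Or.inr hy))))
            fun h => hb' (h.ge (hX b (Or.inr hb))))
          rw [hz, show p * p ^ 4 = p ^ 3 * p * p by ring, ← hk]
          exact (Nat.mul_le_mul_right _ a1).trans a2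
    · -- the centre of order `p ^ 2`: a line
      obtain ⟨l, hl, hl1, hlα⟩ := exists_line h1 (vSub_le_E D E1) vSub_inv
        (fun x hx e he => vSub_commute hx he) hVel hlt hz hV3
      let L : Subgroup G :=
        { carrier := {x | x ∈ zOne p G ∧ ∀ α ∈ D.aut E1, ∀ y : E1, (y : G) = x → (α y : G) ∈ zOne p G}
          one_mem' := ⟨one_mem _, fun α _ y hy => by
            rw [show y = 1 from Subtype.ext hy, map_one]; exact one_mem _⟩
          mul_mem' := fun {a b} ha hb => ⟨mul_mem ha.1 hb.1, fun α hα y hy => by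
            rw [show y = ⟨a, zOne_le h1 ha.1⟩ * ⟨b, zOne_le h1 hb.1⟩ from Subtype.ext hy, map_mul,
              Subgroup.coe_mul]
            exact mul_mem (ha.2 α hα _ rfl) (hb.2 α hα _ rfl)⟩
          inv_mem' := fun {a} ha => ⟨inv_mem ha.1, fun α hα y hy => by
            rw [show y = (⟨a, zOne_le h1 ha.1⟩ : E1)⁻¹ from Subtype.ext hy, map_inv, Subgroup.coe_inv]
            exact inv_mem (ha.2 α hα _ rfl)⟩ }
      have hL1 : D.Inv E1 L := fun α hα x hx => ⟨hx.2 α hα x rfl, fun β hβ y hy => by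
        obtain rfl : y = α x := Subtype.ext hy
        exact hx.2 (β * α) (mul_mem hβ hα) x rfl⟩
      have hLglob : ∀ γ ∈ D.glob, ∀ x ∈ L, γ x ∈ L := fun γ hγ x hx => by
        obtain ⟨a, ha, hax⟩ := D.restrict h1 γ hγ (hE1glob γ hγ)
        have h := hL1 a ha ⟨x, zOne_le h1 hx.1⟩ hx
        rwa [hax] at h
      refine hcore L (fun h => hl1 ?_) hLglob fun E hE => ⟨fun x hx => zOne_le hE hx.1, ?_⟩
      · have : l ∈ L := ⟨hl, fun α hα y hy => hlα α hα y hy⟩
        rwa [h, Subgroup.mem_bot] at this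
      by_cases hEm : Moved D E
      · obtain rfl := hE1 E hE hEm
        exact hL1
      intro α hα x hx
      let K : Subgroup (MulAut E) :=
        { carrier := {β | β ∈ D.aut E ∧ ∀ x : E, (x : G) ∈ zOne p G → β x = x}
          one_mem' := ⟨one_mem _, fun x _ => rfl⟩
          mul_mem' := fun {β γ} hβ hγ => ⟨mul_mem hβ.1 hγ.1, fun x hx => by
            rw [MulAut.mul_apply, hγ.2 x hx, hβ.2 x hx]⟩
          inv_mem' := fun {β} hβ => ⟨inv_mem hβ.1, fun x hx => β.injective (by
            rw [MulAut.apply_inv_self, hβ.2 x hx])⟩ }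
      obtain ⟨β, hβ, γ, hγ, hγx⟩ := D.frattiniArg hE K (fun β h => h.1)
        (fun β hβ k hk => ⟨mul_mem (mul_mem hβ hk.1) (inv_mem hβ), fun x hx => by
          rw [MulAut.mul_apply, MulAut.mul_apply,
            hk.2 _ ((not_moved_iff hE).1 hEm _ (inv_mem hβ) x hx), MulAut.apply_inv_self]⟩)
        (fun g a ha => ⟨D.conj_mem hE g a ha, fun x hx => Subtype.ext (by
          rw [ha, (zOne_commute hx g).eq, mul_inv_cancel_right])⟩) α hα
      rw [hγx, hβ.2 x hx.1]
      exact hLglob γ hγ x hx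
  · -- two moved subgroups
    push Not at huniq
    obtain ⟨E1', h1', hm', hne⟩ := huniq
    have hpair : ∀ A B, D.IsEss A → Moved D A → D.IsEss B → Moved D B → vSub D B ≠ vSub D A →
        Nat.card (vSub D A) = p ^ 2 ∧ Big D A (vSub D A ⊔ vSub D B) := by
      intro A B hA hAm hB hBm hAB
      haveI := vSub_normal hA
      haveI := vSub_normal hB
      have hBA := hall B hB hBm A hA
      have hel : IsElementaryAbelian p (vSub D A ⊔ vSub D B : Subgroup G) :=
        elem_sup vSub_elem vSub_elem fun a ha b hb => (vSub_commute ha (hBA hb)).symm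
      have hlt1 : vSub D A < vSub D A ⊔ vSub D B := lt_of_le_of_ne le_sup_left fun h => hAB (by
        obtain rfl := eq_of_vSub_le hA hB hBm (le_sup_right.trans h.ge); rfl)
      have c1 := card_mul_le' D.pgroup hlt1
      have c2 := card_mul_le' D.pgroup (lt_vSub hA hAm)
      have c3 := card_elem_le D hel
      have c0 := le_card_zOne D
      have h2 : Nat.card (vSub D A) = p ^ 2 := le_antisymm
        (Nat.le_of_mul_le_mul_right (by rw [← pow_succ]; exact c1.trans c3) hp.out.pos)
        (by rw [sq]; exact (Nat.mul_le_mul_right p c0).trans c2)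
      refine ⟨h2, sup_le (vSub_le_E D A) hBA, le_sup_left, hel,
        le_antisymm c3 (by rw [pow_succ, ← h2]; exact c1), fun e _ y hy => ?_⟩
      exact (inferInstance : (vSub D A ⊔ vSub D B).Normal).conj_mem y hy e
    haveI := vSub_normal h1'
    obtain ⟨hV2, hU⟩ := hpair E1 E1' h1 hm h1' hm' hne
    obtain ⟨hV2', hU'⟩ := hpair E1' E1 h1' hm' h1 hm (Ne.symm hne)
    set U := vSub D E1 ⊔ vSub D E1' with hUdef
    rw [sup_comm, ← hUdef] at hU'
    have hmU : ∀ E, D.IsEss E → Moved D E → vSub D E ≤ U ∧ Nat.card (vSub D E) = p ^ 2 := by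
      intro E hE hEm
      by_cases hEV : vSub D E = vSub D E1
      · rw [hEV]; exact ⟨le_sup_left, hV2⟩
      · refine ⟨?_, (hpair E E1 hE hEm h1 hm (Ne.symm hEV)).1⟩
        rw [← big_unique h1 hm hV2 (hpair E1 E h1 hm hE hEm hEV).2 hU]
        exact le_sup_right
    refine hcore U (fun h => not_lt_bot (((lt_vSub h1 hm).trans_le (le_sup_left : _ ≤ U)).trans_le h.le)) (fun γ hγ x hx => ?_)
      fun E hE => ⟨sup_le (hall E1 h1 hm E hE) (hall E1' h1' hm' E hE), ?_⟩
    · have hle : U ≤ U.comap γ.toMonoidHom := by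
        refine sup_le ?_ ?_
        · intro y hy
          obtain ⟨a, b⟩ := moved_image h1 hm hγ
          exact (hmU _ a b).1 ((vSub_image h1 hγ).ge (Subgroup.mem_map_of_mem _ hy))
        · intro y hy
          obtain ⟨a, b⟩ := moved_image h1' hm' hγ
          exact (hmU _ a b).1 ((vSub_image h1' hγ).ge (Subgroup.mem_map_of_mem _ hy))
      exact hle hx
    by_cases hEm : Moved D E
    · obtain ⟨hle, hc⟩ := hmU E hE hEm
      have hB : Big D E U := ⟨sup_le (hall E1 h1 hm E hE) (hall E1' h1' hm' E hE), hle, hU.2.2.1, hU.2.2.2.1,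
        fun e _ y hy => (inferInstance : (vSub D E1 ⊔ vSub D E1').Normal).conj_mem y hy e⟩
      intro α hα x hx
      exact (big_unique hE hEm hc (big_image hB hα) hB).le
        (Subgroup.mem_map_of_mem _ (Subgroup.mem_map_of_mem _ hx))
    intro α hα x hx
    have himg : ∀ A, D.IsEss A → Moved D A → Nat.card (vSub D A) = p ^ 2 → vSub D A ≤ U → Big D A U →
        ∀ y : E, (y : G) ∈ vSub D A → (α y : G) ∈ U := by
      intro A hA hAm hAc hAU hAB y hy
      obtain ⟨-, hW⟩ := hjoin A hA hAm hAc E hE hEm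
      have hmem : (α y : G) ∈ imgJoin D E (vSub D A) := Subgroup.subset_closure ⟨α, hα, y, hy, rfl⟩
      rcases hW with hW | hW
      · exact hAU (hW.le hmem)
      · exact (big_unique hA hAm hAc hW hAB).le hmem
    have hle : U ≤ ((U.subgroupOf E).comap α.toMonoidHom).map E.subtype := by
      refine sup_le (fun y hy => ?_) fun y hy => ?_
      · exact ⟨⟨y, hall E1 h1 hm E hE hy⟩, himg E1 h1 hm hV2 le_sup_left hU _ hy, rfl⟩
      · exact ⟨⟨y, hall E1' h1' hm' E hE hy⟩, himg E1' h1' hm' hV2' le_sup_right hU' _ hy, rfl⟩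
    obtain ⟨y, hy, hyx⟩ := hle hx
    obtain rfl : y = x := Subtype.ext hyx
    exact hy

end NormalSys

end Cfsg.Agent.Lib.RankThreeNormal61
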