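import Mathlib
import Cfsg.Agent.Lib.RankThreeNormal61.Config
import Cfsg.Agent.Lib.RankThreeNormal61.Main
import Cfsg.Agent.Lib.RankThreeNormal61.Apart

/-!
A minimal subgroup kept by the automorphisms of both distinguished subgroups is central.
-/

set_option autoImplicit false
set_option linter.unusedSectionVars false

namespace Cfsg.Agent.Lib.RankThreeNormal61

open Cfsg Cfsg.Agent.Lib Cfsg.Agent.Lib.RankThreeEss69
open scoped commutatorElement

universe u

variable {G : Type u} [Group G] [Finite G] {p : ℕ} [hp : Fact p.Prime]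

namespace NormalSys

/-- A subgroup kept by all the automorphisms of the two distinguished subgroups. -/
structure Common (D : NormalSys p G) (E1 E2 N : Subgroup G) : Prop where
  le1 : N ≤ E1
  le2 : N ≤ E2
  glob : ∀ γ ∈ D.glob, ∀ x ∈ N, γ x ∈ N
  inv1 : D.Inv E1 N
  inv2 : D.Inv E2 N

variable {D : NormalSys p G} {E1 E2 N : Subgroup G}

theorem Common.symm (h : Common D E1 E2 N) : Common D E2 E1 N :=
  ⟨h.le2, h.le1, h.glob, h.inv2, h.inv1⟩

theorem Common.normal (h : Common D E1 E2 N) : N.Normal :=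
  ⟨fun x hx g => h.glob _ (D.inn g) x hx⟩

theorem cent_inv {E : Subgroup G} (hNE : N ≤ E) (hN : D.Inv E N) :
    D.Inv E (Subgroup.centralizer (N : Set G)) := by
  intro α hα x hx
  rw [Subgroup.mem_centralizer_iff] at hx ⊢
  intro n hn
  obtain ⟨m, hm⟩ := α.surjective ⟨n, hNE hn⟩
  have hm' : (m : G) ∈ N := by
    have h := hN _ (inv_mem hα) (α m) (by rw [hm]; exact hn)
    rwa [MulAut.inv_apply_self] at h
  rw [show n = ((α m : E) : G) from (congrArg Subtype.val hm).symm, ← Subgroup.coe_mul,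
    ← Subgroup.coe_mul, ← map_mul, ← map_mul]
  exact congrArg Subtype.val (congrArg α (Subtype.ext (hx _ hm')))

/-- A common subgroup whose centralisers in `G` and in `E2` are `E1` and the intersection. -/
theorem false_of_cent (hP : D.Pair E1 E2) (hN : Common D E1 E2 N)
    (h1 : ∀ x ∈ E1 ⊓ E2, ∀ n ∈ N, Commute n x)
    (h2 : ∀ g : G, (∀ n ∈ N, Commute n g) → g ∈ E1) : False := by
  refine not_inv_meet hP ?_
  intro α hα x hx
  refine ⟨h2 _ fun n hn => ?_, (α x).2⟩
  exact Subgroup.mem_centralizer_iff.1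
    (cent_inv hN.le2 hN.inv2 α hα x (Subgroup.mem_centralizer_iff.2 fun m hm => h1 _ hx m hm)) n hn

theorem not_cent (hP : D.Pair E1 E2) (hN : Common D E1 E2 N) (hc : ¬ N ≤ Subgroup.center G) :
    ¬ ∀ x ∈ E1, ∀ n ∈ N, Commute n x := fun h => by
  refine false_of_cent hP hN (fun x hx => h x hx.1) fun g hg => by_contra fun hgE => hc fun n hn =>
    mem_center_of hP.h1 hgE (fun e he => (h e he n hn).symm) (hg n hn).symm

/-- A minimal common subgroup is central. -/
theorem le_center_of_minimal (hP : D.Pair E1 E2) (hN : Common D E1 E2 N) (hN1 : N ≠ ⊥)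
    (hel : IsElementaryAbelian p N)
    (hmin : ∀ K ≤ N, K ≠ ⊥ → Common D E1 E2 K → K = N) : N ≤ Subgroup.center G := by
  haveI := hN.normal
  set Z := N ⊓ Subgroup.center G
  have hZ1 : Z ≠ ⊥ := fun h => by
    obtain ⟨z, hz, hz', hz1⟩ := exists_mem_zOne D.pgroup hN1
    exact hz1 (Subgroup.mem_bot.1 (h.le ⟨hz, hz'.1⟩))
  have hZZ : Z ≤ zOne p G := fun x hx => ⟨hx.2, hel.2 x hx.1⟩
  by_contra hc
  wlog h1 : ¬ D.Inv E1 Z generalizing E1 E2
  · refine this hP.symm hN.symm (fun K hK hK1 hKC => hmin K hK hK1 hKC.symm) fun h2 => ?_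
    refine hc ((hmin Z inf_le_left hZ1 ⟨inf_le_left.trans hN.le1, inf_le_left.trans hN.le2,
      fun γ hγ x hx => ⟨hN.glob γ hγ x hx.1, ?_⟩, not_not.1 h1, h2⟩).ge.trans inf_le_right)
    refine Subgroup.mem_center_iff.2 fun g => ?_
    obtain ⟨g, rfl⟩ := γ.surjective g
    rw [← map_mul, ← map_mul, Subgroup.mem_center_iff.1 hx.2 g]
  have hm : Moved D E1 := fun hinv => h1 fun α hα x hx =>
    ⟨hN.inv1 α hα x hx.1, (hinv α hα x (hZZ hx)).1⟩
  set V := vSub D E1
  have hcomm : ∀ n ∈ N, ∀ v ∈ V, Commute n v := fun n hn v hv => vSub_commute hv (hN.le1 hn)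
  have hp3 := card_elem_le D (elem_sup hel (vSub_elem (D := D)) hcomm)
  have hnc := not_cent hP hN hc
  -- the order of `N`
  set V' := N ⊓ V
  have hZV' : Z < V' := lt_of_le_of_ne (le_inf inf_le_left ((hZZ).trans (zOne_le_vSub hP.h1))) fun e =>
    h1 fun α hα x hx => e.ge ⟨hN.inv1 α hα x hx.1, vSub_inv α hα x (e.le hx).2⟩
  have hV'N : V' < N := lt_of_le_of_ne inf_le_left fun e =>
    hnc fun x hx n hn => (vSub_commute (e.ge hn).2 hx).symm
  have hc1 := card_mul_le' D.pgroup hZV'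
  have hc2 := card_mul_le' D.pgroup hV'N
  have hZp : p ≤ Nat.card Z := by
    obtain ⟨k, hk⟩ := IsPGroup.iff_card.1 (D.pgroup.to_subgroup Z)
    rw [hk]
    exact Nat.le_self_pow (fun h => hZ1 (by rwa [h, pow_zero, Subgroup.card_eq_one] at hk)) p
  have hNle : Nat.card N ≤ Nat.card (N ⊔ V : Subgroup G) := Subgroup.card_le_of_le le_sup_left
  have hV2 : p ^ 2 ≤ Nat.card V' := le_trans (by rw [sq]; exact Nat.mul_le_mul_right p hZp) hc1
  have hN3 : p ^ 3 ≤ Nat.card N := le_trans (by rw [pow_succ]; exact Nat.mul_le_mul_right p hV2) hc2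
  have hNc : Nat.card N = p ^ 3 := le_antisymm (hNle.trans hp3) hN3
  have hVN : V ≤ N := sup_eq_left.1 (Subgroup.eq_of_le_of_card_ge le_sup_left (hp3.trans hN3)).symm
  have hV'V : V' = V := inf_eq_right.2 hVN
  have hVc : Nat.card V = p ^ 2 := by
    rw [hV'V] at hV2 hc2
    refine le_antisymm (Nat.le_of_mul_le_mul_right ?_ hp.out.pos) hV2
    rw [← pow_succ, ← hNc]
    exact hc2
  have hlt : V < N := hV'V ▸ hV'N
  by_cases hm2 : Moved D E2
  · set V2 := vSub D E2
    have hcomm2 : ∀ n ∈ N, ∀ v ∈ V2, Commute n v := fun n hn v hv => vSub_commute hv (hN.le2 hn)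
    have hV2N : V2 ≤ N := sup_eq_left.1 (Subgroup.eq_of_le_of_card_ge le_sup_left
      ((card_elem_le D (elem_sup hel (vSub_elem (D := D)) hcomm2)).trans hN3)).symm
    have hNeq : V ⊔ V2 = N := by
      refine Subgroup.eq_of_le_of_card_ge (sup_le hVN hV2N) (hNc.le.trans ?_)
      have hlt2 : V < V ⊔ V2 := lt_of_le_of_ne le_sup_left fun e =>
        hP.ne (eq_of_vSub_le hP.h1 hP.h2 hm2 (le_sup_right.trans e.ge))
      exact le_trans (by rw [pow_succ, hVc]) (card_mul_le' D.pgroup hlt2)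
    refine false_of_cent hP hN (fun x hx n hn => ?_) fun g hg => ?_
    · have hle : N ≤ Subgroup.centralizer {x} := by
        rw [← hNeq]
        refine sup_le (fun v hv => ?_) fun v hv => ?_ <;> rw [Subgroup.mem_centralizer_singleton_iff]
        exacts [((vSub_commute hv hx.1).symm).eq, ((vSub_commute hv hx.2).symm).eq]
      exact Subgroup.mem_centralizer_singleton_iff.1 (hle hn)
    · exact mem_of_centralizes_vSub hP.h1 hm fun v hv => (hg v (hVN hv)).symm
  · have hVglob : ∀ γ ∈ D.glob, ∀ x ∈ V, γ x ∈ V := fun γ hγ x hx => by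
      have hE : E1.map γ.toMonoidHom = E1 := Subgroup.eq_of_le_of_card_ge
        (by rintro _ ⟨e, he, rfl⟩; exact hP.glob1 γ hγ e he)
        (Subgroup.card_map_of_injective γ.injective).ge
      have h := vSub_image_le hP.h1 hγ (Subgroup.mem_map_of_mem _ hx)
      rwa [hE] at h
    have hmove : ∃ α ∈ D.aut E2, ∃ x : E2, (x : G) ∈ V ∧ (α x : G) ∉ V := by
      by_contra hcon
      push Not at hcon
      exact hlt.ne (hmin V hVN (fun h => by
        rw [h, Subgroup.card_bot] at hVc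
        exact absurd hVc.symm (by
          have := hp.out.one_lt
          exact (Nat.one_lt_pow two_ne_zero this).ne'))
        ⟨hVN.trans hN.le1, hVN.trans hN.le2, hVglob, vSub_inv, hcon⟩)
    refine false_of_config hP.h1 hm hVc hP.h2 hm2 hVglob hel hNc hVN hN.le1 hN.le2 hN.inv1 hN.inv2
      ?_ hmove
    obtain ⟨α, hα, x, hx, hxV⟩ := hmove
    have hJN : imgJoin D E2 V ≤ N := (Subgroup.closure_le _).2 (by
      rintro _ ⟨β, hβ, y, hy, rfl⟩; exact hN.inv2 β hβ y (hVN hy))
    have hVJ : V < imgJoin D E2 V := lt_of_le_of_ne (le_imgJoin (hVN.trans hN.le2)) fun e =>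
      hxV (e.ge (Subgroup.subset_closure ⟨α, hα, x, hx, rfl⟩))
    exact (Subgroup.eq_of_le_of_card_ge hJN (by
      rw [hNc, pow_succ, ← hVc]; exact card_mul_le' D.pgroup hVJ)).ge

end NormalSys

end Cfsg.Agent.Lib.RankThreeNormal61
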