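import Mathlib
import Cfsg.Agent.Lib.RankThreeNormal61.Min
import Cfsg.Agent.Lib.SectRank.Metacyclic

/-!
The quotient by a central subgroup kept by the automorphisms of both distinguished subgroups.
-/

set_option autoImplicit false
set_option linter.unusedSectionVars false

namespace Cfsg.Agent.Lib.RankThreeNormal61

open Cfsg Cfsg.Agent.Lib Cfsg.Agent.Lib.RankThreeEss69
open scoped commutatorElement

universe u

variable {G : Type u} [Group G] [Finite G] {p : ℕ} [hp : Fact p.Prime]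

namespace NormalSys

/-- Every element of `glob` has a power of exponent prime to `p` which is inner. -/
def GlobInner (D : NormalSys p G) : Prop :=
  ∀ γ ∈ D.glob, ∃ k : ℕ, p.Coprime k ∧ ∃ g : G, γ ^ k = MulAut.conj g

variable (D : NormalSys p G) {N : Subgroup G} [N.Normal]

/-- The induced automorphisms of a subgroup of the quotient. -/
def autQ (A : Subgroup (G ⧸ N)) : Subgroup (MulAut A) where
  carrier := {a | ∃ α ∈ D.aut (A.comap (QuotientGroup.mk' N)), ∀ x : A.comap (QuotientGroup.mk' N),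
    (a ⟨QuotientGroup.mk' N x, x.2⟩ : G ⧸ N) = QuotientGroup.mk' N (α x)}
  one_mem' := ⟨1, one_mem _, fun _ => rfl⟩
  mul_mem' := fun {a b} ⟨α, hα, ha⟩ ⟨β, hβ, hb⟩ => ⟨α * β, mul_mem hα hβ, fun x => by
    rw [MulAut.mul_apply, MulAut.mul_apply,
      show b ⟨QuotientGroup.mk' N x, x.2⟩ = ⟨QuotientGroup.mk' N (β x), (β x).2⟩ from Subtype.ext (hb x)]
    exact ha _⟩
  inv_mem' := fun {a} ⟨α, hα, ha⟩ => ⟨α⁻¹, inv_mem hα, fun x => by
    have h := ha (α⁻¹ x)
    rw [MulAut.apply_inv_self] at h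
    rw [show (⟨QuotientGroup.mk' N x, x.2⟩ : A) = a ⟨QuotientGroup.mk' N (α⁻¹ x : _), (α⁻¹ x).2⟩ from
      Subtype.ext h.symm, MulAut.inv_apply_self]⟩

variable {D} {A : Subgroup (G ⧸ N)}

theorem mem_comap_N {x : G} (hx : x ∈ N) : x ∈ A.comap (QuotientGroup.mk' N) := by
  rw [Subgroup.mem_comap, mk'_eq_one.2 hx]
  exact one_mem _

theorem exists_induced (hNi : D.Inv (A.comap (QuotientGroup.mk' N)) N)
    (α : D.aut (A.comap (QuotientGroup.mk' N))) : ∃ a : MulAut A, ∀ x : A.comap (QuotientGroup.mk' N),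
      (a ⟨QuotientGroup.mk' N x, x.2⟩ : G ⧸ N) = QuotientGroup.mk' N ((α : MulAut (A.comap (QuotientGroup.mk' N))) x : G) := by
  set q : A.comap (QuotientGroup.mk' N) →* A := (QuotientGroup.mk' N).subgroupComap A
  have hq : Function.Surjective q := by
    rintro ⟨y, hy⟩
    obtain ⟨x, rfl⟩ := QuotientGroup.mk'_surjective N y
    exact ⟨⟨x, hy⟩, Subtype.ext rfl⟩
  set f : A.comap (QuotientGroup.mk' N) →* A :=
    q.comp (α : MulAut (A.comap (QuotientGroup.mk' N))).toMonoidHom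
  have hker : q.ker ≤ f.ker := fun x hx => by
    have hx' : (x : G) ∈ N := mk'_eq_one.1 (congrArg Subtype.val (MonoidHom.mem_ker.1 hx))
    exact MonoidHom.mem_ker.2 (Subtype.ext (mk'_eq_one.2 (hNi _ α.2 x hx')))
  set g := q.liftOfSurjective hq ⟨f, hker⟩
  have hg : ∀ x, g (q x) = f x := fun x => MonoidHom.liftOfRightInverse_comp_apply q _ _ ⟨f, hker⟩ x
  have hgs : Function.Surjective g := fun y => by
    obtain ⟨x, rfl⟩ := hq y
    obtain ⟨w, rfl⟩ := (α : MulAut (A.comap (QuotientGroup.mk' N))).surjective x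
    exact ⟨q w, hg w⟩
  exact ⟨MulEquiv.ofBijective g ⟨Finite.injective_iff_surjective.2 hgs, hgs⟩,
    fun x => congrArg Subtype.val (hg x)⟩

/-- The action of the automorphisms on the quotient. -/
noncomputable def resQ (hNi : D.Inv (A.comap (QuotientGroup.mk' N)) N) :
    D.aut (A.comap (QuotientGroup.mk' N)) →* MulAut A :=
  MonoidHom.mk' (fun α => (exists_induced hNi α).choose) fun α β => MulEquiv.ext fun y => by
    obtain ⟨y, hy⟩ := y
    obtain ⟨x, rfl⟩ := QuotientGroup.mk'_surjective N y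
    refine Subtype.ext ?_
    rw [(exists_induced hNi (α * β)).choose_spec ⟨x, hy⟩, MulAut.mul_apply,
      show (exists_induced hNi β).choose ⟨QuotientGroup.mk' N x, hy⟩ =
        ⟨QuotientGroup.mk' N ((β : MulAut (A.comap (QuotientGroup.mk' N))) ⟨x, hy⟩ : G),
          ((β : MulAut (A.comap (QuotientGroup.mk' N))) ⟨x, hy⟩).2⟩ from
          Subtype.ext ((exists_induced hNi β).choose_spec ⟨x, hy⟩)]
    exact ((exists_induced hNi α).choose_spec _).symm

theorem resQ_apply (hNi : D.Inv (A.comap (QuotientGroup.mk' N)) N)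
    (α : D.aut (A.comap (QuotientGroup.mk' N))) (x : A.comap (QuotientGroup.mk' N)) :
    (resQ hNi α ⟨QuotientGroup.mk' N x, x.2⟩ : G ⧸ N) = QuotientGroup.mk' N ((α : MulAut (A.comap (QuotientGroup.mk' N))) x : G) :=
  (exists_induced hNi α).choose_spec x

theorem mem_autQ (hNi : D.Inv (A.comap (QuotientGroup.mk' N)) N) {a : MulAut A} :
    a ∈ autQ D A ↔ ∃ α, resQ hNi α = a := by
  constructor
  · rintro ⟨α, hα, h⟩
    refine ⟨⟨α, hα⟩, MulEquiv.ext fun y => ?_⟩
    obtain ⟨y, hy⟩ := y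
    obtain ⟨x, rfl⟩ := QuotientGroup.mk'_surjective N y
    exact Subtype.ext ((resQ_apply hNi ⟨α, hα⟩ ⟨x, hy⟩).trans (h ⟨x, hy⟩).symm)
  · rintro ⟨α, rfl⟩
    exact ⟨α, α.2, resQ_apply hNi α⟩

variable (hA : D.IsEss (A.comap (QuotientGroup.mk' N))) (hNi : D.Inv (A.comap (QuotientGroup.mk' N)) N)

theorem resQ_conj (g : G) (x : A) :
    (resQ hNi ⟨cAut hA g, cAut_mem hA g⟩ x : G ⧸ N) =
      QuotientGroup.mk' N g * x * (QuotientGroup.mk' N g)⁻¹ := by
  obtain ⟨y, hy⟩ := x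
  obtain ⟨x, rfl⟩ := QuotientGroup.mk'_surjective N y
  rw [resQ_apply hNi _ ⟨x, hy⟩, cAut_apply, map_mul, map_mul, map_inv]

/-- The lifts of a group of induced automorphisms. -/
noncomputable def liftQ (K : Subgroup (MulAut A)) :
    Subgroup (MulAut (A.comap (QuotientGroup.mk' N))) :=
  (K.comap (resQ hNi)).map (D.aut _).subtype

theorem liftQ_conj {K : Subgroup (MulAut A)} (hK : ∀ b ∈ autQ D A, ∀ k ∈ K, b * k * b⁻¹ ∈ K) :
    ∀ β ∈ D.aut _, ∀ k ∈ liftQ hNi K, β * k * β⁻¹ ∈ liftQ hNi K := by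
  rintro β hβ _ ⟨k, hk, rfl⟩
  refine ⟨⟨β, hβ⟩ * k * ⟨β, hβ⟩⁻¹, ?_, rfl⟩
  show resQ hNi _ ∈ K
  rw [map_mul, map_mul, map_inv]
  exact hK _ ((mem_autQ hNi).2 ⟨_, rfl⟩) _ hk

/-- The lifts of a `p`-group which fix `N` form a `p`-group. -/
theorem isPGroup_liftQ (hNp : ∀ x ∈ N, x ^ p = 1) {K : Subgroup (MulAut A)} (hK : IsPGroup p K) :
    IsPGroup p (liftQ hNi K ⊓ trivOn D hNi bot_inv : Subgroup (MulAut _)) := by
  rintro ⟨_, ⟨α, hαK, rfl⟩, hfix⟩
  obtain ⟨k, hk⟩ := hK ⟨resQ hNi α, hαK⟩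
  refine ⟨k + 1, Subtype.ext ?_⟩
  set δ : MulAut (A.comap (QuotientGroup.mk' N)) := (α : MulAut _) ^ p ^ k with hδ
  have hmod : ∀ x, ((x⁻¹ * δ x : A.comap (QuotientGroup.mk' N)) : G) ∈ N := fun x => by
    have h1 : resQ hNi (α ^ p ^ k) = 1 := by rw [map_pow]; exact congrArg Subtype.val hk
    have h := resQ_apply hNi (α ^ p ^ k) x
    rw [h1, MulAut.one_apply, SubgroupClass.coe_pow] at h
    exact QuotientGroup.eq.1 h
  have hfx : ∀ x : A.comap (QuotientGroup.mk' N), (x : G) ∈ N → δ x = x := fun x hx => by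
    have h := (Subgroup.pow_mem _ hfix (p ^ k)).2 x hx
    rw [Subgroup.mem_bot, Subgroup.coe_mul, Subgroup.coe_inv, inv_mul_eq_one] at h
    exact Subtype.ext h.symm
  have hj : ∀ (j : ℕ) (x), (δ ^ j) x = x * (x⁻¹ * δ x) ^ j := by
    intro j x
    induction j with
    | zero => simp
    | succ j ih =>
      rw [pow_succ', MulAut.mul_apply, ih, map_mul, map_pow, hfx _ (hmod x), pow_succ', ← mul_assoc,
        ← mul_assoc, mul_inv_cancel, one_mul]
  rw [SubgroupClass.coe_pow, OneMemClass.coe_one, pow_succ, pow_mul]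
  refine MulEquiv.ext fun x => ?_
  rw [show ((D.aut _).subtype α) ^ p ^ k = δ from rfl, hj, MulAut.one_apply, mul_eq_left]
  exact Subtype.ext (by rw [SubgroupClass.coe_pow, hNp _ (hmod x), OneMemClass.coe_one])

variable (D) in
theorem card_comap (K : Subgroup (G ⧸ N)) :
    Nat.card (K.comap (QuotientGroup.mk' N)) = Nat.card K * Nat.card N := by
  have h1 := (K.comap (QuotientGroup.mk' N)).card_mul_index
  rw [Subgroup.index_comap_of_surjective _ (QuotientGroup.mk'_surjective N),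
    Subgroup.card_eq_card_quotient_mul_card_subgroup N] at h1
  have h2 := K.card_mul_index
  rw [← h2, mul_right_comm] at h1
  exact Nat.eq_of_mul_eq_mul_right (Nat.pos_of_ne_zero Subgroup.index_ne_zero_of_finite) h1

/-- The quotient system. -/
theorem exists_quot {E1 E2 : Subgroup G} (hP : D.Pair E1 E2) (hN : Common D E1 E2 N)
    (hNc : N ≤ Subgroup.center G) (hNp : ∀ x ∈ N, x ^ p = 1) (hgi : GlobInner D)
    (h3 : ∃ a b c : G, ⁅⁅a, b⁆, c⁆ ∉ N) :
    ∃ D' : NormalSys p (G ⧸ N), D'.Pair (E1.map (QuotientGroup.mk' N)) (E2.map (QuotientGroup.mk' N)) ∧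
      GlobInner D' := by
  classical
  set π := QuotientGroup.mk' N
  have hπ : Function.Surjective π := QuotientGroup.mk'_surjective N
  have hcm : ∀ {E : Subgroup G}, N ≤ E → (E.map π).comap π = E := fun {E} h => by
    rw [Subgroup.comap_map_eq, QuotientGroup.ker_mk']
    exact sup_eq_left.2 h
  have hess : ∀ {A : Subgroup (G ⧸ N)}, (A = E1.map π ∨ A = E2.map π) →
      D.IsEss (A.comap π) ∧ D.Inv (A.comap π) N := by
    rintro A (rfl | rfl)
    · rw [hcm hN.le1]; exact ⟨hP.h1, hN.inv1⟩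
    · rw [hcm hN.le2]; exact ⟨hP.h2, hN.inv2⟩
  have hσN : ∀ γ ∈ D.glob, N.map (γ : MulAut G).toMonoidHom = N := fun γ hγ =>
    Subgroup.eq_of_le_of_card_ge (by rintro _ ⟨x, hx, rfl⟩; exact hN.glob γ hγ x hx)
      (Subgroup.card_map_of_injective γ.injective).ge
  let glob' : Subgroup (MulAut (G ⧸ N)) :=
    { carrier := {c | ∃ γ ∈ D.glob, ∀ x, c (π x) = π (γ x)}
      one_mem' := ⟨1, one_mem _, fun _ => rfl⟩
      mul_mem' := fun {a b} ⟨α, hα, ha⟩ ⟨β, hβ, hb⟩ => ⟨α * β, mul_mem hα hβ, fun x => by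
        rw [MulAut.mul_apply, hb, ha, MulAut.mul_apply]⟩
      inv_mem' := fun {a} ⟨α, hα, ha⟩ => ⟨α⁻¹, inv_mem hα, fun x => by
        rw [← a.injective.eq_iff, MulAut.apply_inv_self, ha, MulAut.apply_inv_self]⟩ }
  have hgi' : ∀ c ∈ glob', ∃ k : ℕ, p.Coprime k ∧ ∃ g : G ⧸ N, c ^ k = MulAut.conj g := by
    rintro c ⟨γ, hγ, hc⟩
    obtain ⟨k, hk, g, hg⟩ := hgi γ hγ
    refine ⟨k, hk, π g, MulEquiv.ext fun y => ?_⟩
    obtain ⟨x, rfl⟩ := hπ y
    have hj : ∀ (j : ℕ) x, (c ^ j) (π x) = π ((γ ^ j) x) := by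
      intro j
      induction j with
      | zero => intro x; rfl
      | succ j ih => intro x; rw [pow_succ', pow_succ', MulAut.mul_apply, MulAut.mul_apply, ih, hc]
    rw [hj, hg, MulAut.conj_apply, MulAut.conj_apply, map_mul, map_mul, map_inv]
  refine ⟨{
    IsEss := fun A => A = E1.map π ∨ A = E2.map π
    aut := autQ D
    glob := glob'
    pgroup := D.pgroup.to_quotient N
    odd := D.odd
    rank := SectRank.sectionalPRankLE_quotient D.rank N
    rank' := fun h _ => by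
      obtain ⟨a, b, c, habc⟩ := h3
      refine habc (mk'_eq_one.1 ?_)
      rw [map_commutatorElement, map_commutatorElement]
      exact h _ _ _
    inn := fun y => ?_
    normal := fun {A} hA => ?_
    index := fun {A} hA => ?_
    centric := fun {A} hA => ?_
    conj_mem := fun {A} hA => ?_
    radical := fun {A} hA => ?_
    noInv := fun {A} hA => ?_
    sylowConj := fun {A} hA => ?_
    frattiniArg := fun {A} hA => ?_
    extend := fun {A} hA => ?_
    restrict := fun {A} hA => ?_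
    image := fun {A} hA => ?_
    shear := ?_ }, ⟨Or.inl rfl, Or.inr rfl, fun h => hP.ne ?_, fun _ h => h, ?_, ?_⟩, hgi'⟩
  · obtain ⟨g, rfl⟩ := hπ y
    exact ⟨MulAut.conj g, D.inn g, fun x => by
      rw [MulAut.conj_apply, MulAut.conj_apply, map_mul, map_mul, map_inv]⟩
  · obtain ⟨hE, -⟩ := hess hA
    have h := (D.normal hE).map π hπ
    rwa [Subgroup.map_comap_eq_self_of_surjective hπ] at h
  · rw [← D.index (hess hA).1, Subgroup.index_comap_of_surjective _ hπ]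
  · intro y hy
    obtain ⟨hE, hNi⟩ := hess hA
    obtain ⟨g, rfl⟩ := hπ y
    refine mem_of_stab hE hNi (fun x _ hx => (Subgroup.mem_center_iff.1 (hNc hx) g)) fun x hx => ?_
    rw [← mk'_eq_one, map_mul, map_inv, map_mul, map_mul, map_inv, (hy _ hx).eq, mul_inv_cancel_right,
      inv_mul_cancel]
  · intro y a ha
    obtain ⟨hE, hNi⟩ := hess hA
    obtain ⟨g, rfl⟩ := hπ y
    exact (mem_autQ hNi).2 ⟨⟨cAut hE g, cAut_mem hE g⟩, MulEquiv.ext fun x => Subtype.ext
      ((resQ_conj hE hNi g x).trans (ha x).symm)⟩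
  · intro K hKA hK hKp y a ha hax
    obtain ⟨hE, hNi⟩ := hess hA
    obtain ⟨g, rfl⟩ := hπ y
    refine D.radical hE (liftQ hNi K ⊓ trivOn D hNi bot_inv) (fun b hb => hb.2.1)
      (fun β hβ k hk => ⟨liftQ_conj hNi hK β hβ k hk.1, trivOn_conj _ _ hβ hk.2⟩)
      (isPGroup_liftQ hNi hNp hKp) g (cAut hE g) ⟨⟨⟨_, cAut_mem hE g⟩, ?_, rfl⟩,
        cAut_trivOn hE _ _ fun x hx _ => Subgroup.mem_bot.2 (commutatorElement_eq_one_iff_commute.2
          (Subgroup.mem_center_iff.1 (hNc hx) g))⟩ (cAut_apply hE g)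
    show resQ hNi _ ∈ K
    convert ha
    exact MulEquiv.ext fun x => Subtype.ext ((resQ_conj hE hNi g x).trans (hax x).symm)
  · intro W hW hΦ hi hr hinv
    obtain ⟨hE, hNi⟩ := hess hA
    set E := A.comap π with hEdef
    set U := (fr p A).comap π
    set W1 := (W.map A.subtype).comap π
    have hmemW : ∀ (x : G) (hx : π x ∈ A), x ∈ W1 ↔ (⟨π x, hx⟩ : A) ∈ W := fun x hx =>
      Subgroup.mem_map_iff_mem (f := A.subtype) A.subtype_injective (x := (⟨π x, hx⟩ : A))
    have hW1E : W1 ≤ E := Subgroup.comap_mono (Subgroup.map_subtype_le _)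
    have hUW : U ≤ W1 := Subgroup.comap_mono fun y hy =>
      ⟨⟨y, fr_le hy⟩, hΦ ((mem_fr_iff (D.pgroup.to_quotient N) _).1 hy), rfl⟩
    have hUeq : U = fr p E ⊔ N := by
      show (fr p A).comap π = _
      rw [← Subgroup.map_comap_eq_self_of_surjective hπ A, ← map_fr, Subgroup.comap_map_eq,
        QuotientGroup.ker_mk']
    have hW1i : D.Inv E W1 := fun α hα x hx => by
      rw [hmemW _ (α x).2]
      have h2 : (⟨π x, x.2⟩ : A) ∈ W := (hmemW _ x.2).1 hx
      convert hinv _ ((mem_autQ hNi).2 ⟨⟨α, hα⟩, rfl⟩) _ h2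
      exact Subtype.ext (resQ_apply hNi ⟨α, hα⟩ x).symm
    have hUi : D.Inv E U := by
      rw [hUeq]; exact sup_inv fr_le (fun x hx => mem_comap_N hx) fr_inv hNi
    haveI := D.normal hE
    haveI := normal_of_inv hE hW1E hW1i
    haveI := normal_of_inv hE (hUW.trans hW1E) hUi
    have hcW : Nat.card (W.map A.subtype) = Nat.card W :=
      Subgroup.card_map_of_injective A.subtype_injective
    have hEW : Nat.card E ≤ Nat.card W1 * p := by
      rw [hEdef, card_comap, card_comap, hcW, mul_right_comm, ← W.card_mul_index]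
      exact Nat.mul_le_mul_right _ (Nat.mul_le_mul_left _ (Nat.le_of_dvd hp.out.pos hi))
    have hWU : Nat.card W1 ≤ Nat.card U * p := by
      rw [card_comap, card_comap, hcW, mul_right_comm]
      refine Nat.mul_le_mul_right _ ?_
      have hf : Nat.card (fr p A) = Nat.card (frattini A) := by
        have h0 : (fr p A).subgroupOf A = frattini A :=
          Subgroup.ext fun w => mem_fr_iff (D.pgroup.to_quotient N) w
        rw [← h0, Nat.card_congr (Subgroup.subgroupOfEquivOfLe fr_le).toEquiv]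
      have h := Subgroup.relIndex_mul_relIndex ⊥ (frattini A) W bot_le hΦ
      rw [Subgroup.relIndex_bot_left, Subgroup.relIndex_bot_left] at h
      rw [hf, ← h]
      exact Nat.mul_le_mul_left _ (Nat.le_of_dvd hp.out.pos hr)
    refine ne_top hE (eq_top_iff.2 fun g _ => mem_of_layers hE (hUW.trans hW1E) hW1i hUi
      (fun x hx => ?_) (fun x hx _ => ?_) fun x hx => ?_)
    · exact comm_le_of_card_le D.pgroup hW1E hEW
        (by rw [Subgroup.commutator_comm]; exact Subgroup.commutator_mem_commutator (Subgroup.mem_top g) hx)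
    · exact comm_le_of_card_le D.pgroup hUW hWU
        (by rw [Subgroup.commutator_comm]; exact Subgroup.commutator_mem_commutator (Subgroup.mem_top g) hx)
    · rw [hUeq] at hx
      haveI := fr_normal hE
      obtain ⟨f, hf, n, hn, rfl⟩ : ∃ f ∈ fr p E, ∃ n ∈ N, f * n = x := Subgroup.mem_sup_of_normal_left.1 hx
      rw [show ⁅g, f * n⁆ = ⁅g, f⁆ * (f * ⁅g, n⁆ * f⁻¹) by simp only [commutatorElement_def]; group,
        commutatorElement_eq_one_iff_commute.2 (Subgroup.mem_center_iff.1 (hNc hn) g), mul_one,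
        mul_inv_cancel, mul_one]
      exact comm_fr hE g hf
  · intro T hT hTp
    obtain ⟨hE, hNi⟩ := hess hA
    haveI : Finite (MulAut (A.comap π)) :=
      Finite.of_injective (fun f : MulAut (A.comap π) => (f : A.comap π → A.comap π)) DFunLike.coe_injective
    set f := resQ hNi
    have hTr : T ≤ f.range := fun t ht => (mem_autQ hNi).1 (hT ht)
    obtain ⟨Q⟩ : Nonempty (Sylow p (T.comap f)) := inferInstance
    have hsurj : Function.Surjective (f.subgroupComap T) := by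
      rintro ⟨t, ht⟩
      obtain ⟨q, hq⟩ := hTr ht
      exact ⟨⟨q, show f q ∈ T by rw [hq]; exact ht⟩, Subtype.ext hq⟩
    have hQ : ((Q.mapSurjective hsurj : Sylow p T) : Subgroup T) = ⊤ :=
      ((Q.mapSurjective hsurj).3 (hTp.of_equiv Subgroup.topEquiv.symm) le_top).symm
    set T0 := ((Q : Subgroup (T.comap f)).map (T.comap f).subtype).map (D.aut (A.comap π)).subtype
    obtain ⟨β, hβ, hβT⟩ := D.sylowConj hE T0 (by rintro _ ⟨q, -, rfl⟩; exact q.2) ((Q.2.map _).map _)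
    refine ⟨f ⟨β, hβ⟩, (mem_autQ hNi).2 ⟨_, rfl⟩, fun t ht => ?_⟩
    obtain ⟨q, hq, hqt⟩ : (⟨t, ht⟩ : T) ∈ (Q : Subgroup (T.comap f)).map (f.subgroupComap T) := by
      rw [← Sylow.coe_mapSurjective hsurj, hQ]
      exact Subgroup.mem_top _
    obtain ⟨g, hg⟩ := hβT (q : D.aut (A.comap π)) ⟨_, ⟨q, hq, rfl⟩, rfl⟩
    refine ⟨π g, fun x => ?_⟩
    rw [← resQ_conj hE hNi g x, show t = f (q : D.aut (A.comap π)) from (congrArg Subtype.val hqt).symm,
      ← map_inv, ← map_mul, ← map_mul]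
    refine congrArg (fun a : D.aut (A.comap π) => (f a x : G ⧸ N)) (Subtype.ext (MulEquiv.ext fun w => ?_))
    exact Subtype.ext ((hg w).trans (cAut_apply hE g w).symm)
  · intro K hKA hK hKi a ha
    obtain ⟨hE, hNi⟩ := hess hA
    obtain ⟨α, rfl⟩ := (mem_autQ hNi).1 ha
    obtain ⟨β, hβ, γ, hγ, hαβ⟩ := D.frattiniArg hE (liftQ hNi K)
      (by rintro _ ⟨b, -, rfl⟩; exact b.2) (liftQ_conj hNi hK) (fun g c hc =>
        ⟨⟨c, D.conj_mem hE g c hc⟩, hKi (π g) _ fun x => by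
          obtain ⟨y, hy⟩ := x
          obtain ⟨x, rfl⟩ := hπ y
          rw [resQ_apply hNi _ ⟨x, hy⟩, hc, map_mul, map_mul, map_inv], rfl⟩) α α.2
    obtain ⟨β, hβK, rfl⟩ := hβ
    refine ⟨_, hβK, QuotientGroup.congr N N γ (hσN γ hγ), ⟨γ, hγ, fun _ => rfl⟩, fun x => ?_⟩
    obtain ⟨y, hy⟩ := x
    obtain ⟨x, rfl⟩ := hπ y
    rw [resQ_apply hNi _ ⟨x, hy⟩, resQ_apply hNi _ ⟨x, hy⟩, hαβ]
    rfl
  · intro b hb hcond
    obtain ⟨hE, hNi⟩ := hess hA
    obtain ⟨β, rfl⟩ := (mem_autQ hNi).1 hb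
    haveI := D.normal hE
    haveI hAn : A.Normal := by
      have h := (D.normal hE).map π hπ
      rwa [Subgroup.map_comap_eq_self_of_surjective hπ] at h
    haveI : Finite (MulAut (A.comap π)) :=
      Finite.of_injective (fun f : MulAut (A.comap π) => (f : A.comap π → A.comap π)) DFunLike.coe_injective
    set C := (MulAut.conjNormal : G ⧸ N →* MulAut A).range
    have hC : IsPGroup p C := by
      have h := ((D.pgroup.to_quotient N).to_subgroup ⊤).map (MulAut.conjNormal : G ⧸ N →* MulAut A)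
      rwa [← MonoidHom.range_eq_map] at h
    set H := liftQ hNi C ⊓ trivOn D hNi bot_inv
    have hHA : H ≤ D.aut (A.comap π) := fun a ha => ha.2.1
    set cG := (MulAut.conjNormal : G →* MulAut (A.comap π)).range
    have hcH : cG ≤ H := by
      rintro _ ⟨g, rfl⟩
      refine ⟨⟨⟨cAut hE g, cAut_mem hE g⟩, ⟨π g, MulEquiv.ext fun x => Subtype.ext ?_⟩, rfl⟩,
        cAut_trivOn hE _ _ fun x hx _ => Subgroup.mem_bot.2 (commutatorElement_eq_one_iff_commute.2
          (Subgroup.mem_center_iff.1 (hNc hx) g))⟩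
      rw [MulAut.conjNormal_apply, resQ_conj]
    obtain ⟨δ, -, hδH⟩ := D.sylowConj hE H hHA (isPGroup_liftQ hNi hNp hC)
    have hHeq : H = cG := by
      refine (Subgroup.eq_of_le_of_card_ge hcH ?_).symm
      rw [← Subgroup.card_map_of_injective (f := (MulAut.conj δ).toMonoidHom) (MulEquiv.injective _)]
      refine Subgroup.card_le_of_le ?_
      rintro _ ⟨h, hh, rfl⟩
      obtain ⟨g, hg⟩ := hδH h hh
      exact ⟨g, MulEquiv.ext fun x => Subtype.ext ((MulAut.conjNormal_apply g x).trans (hg x).symm)⟩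
    obtain ⟨γ, hγ, hγx⟩ := D.extend hE β β.2 fun g => by
      obtain ⟨y, hy⟩ := hcond (π g)
      have hmem : (β : MulAut _) * cAut hE g * (β : MulAut _)⁻¹ ∈ H := by
        refine ⟨⟨β * ⟨cAut hE g, cAut_mem hE g⟩ * β⁻¹, ?_, rfl⟩, trivOn_conj _ _ β.2 ?_⟩
        · refine ⟨y, MulEquiv.ext fun x => Subtype.ext ?_⟩
          rw [MulAut.conjNormal_apply, map_mul, map_mul, map_inv, MulAut.mul_apply, MulAut.mul_apply,
            show resQ hNi ⟨cAut hE g, cAut_mem hE g⟩ ((resQ hNi β)⁻¹ x) =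
              ⟨π g * ((resQ hNi β)⁻¹ x : A) * (π g)⁻¹, hAn.conj_mem _ (SetLike.coe_mem _) _⟩ from
              Subtype.ext (resQ_conj hE hNi g _)]
          exact (hy x _).symm
        · exact cAut_trivOn hE _ _ fun x hx _ => Subgroup.mem_bot.2
            (commutatorElement_eq_one_iff_commute.2 (Subgroup.mem_center_iff.1 (hNc hx) g))
      rw [hHeq] at hmem
      obtain ⟨h, hh⟩ := hmem
      refine ⟨h, fun x hx => ?_⟩
      refine Eq.trans ?_ (MulAut.conjNormal_apply h x)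
      rw [hh, MulAut.mul_apply, MulAut.mul_apply]
      exact congrArg (fun w : A.comap π => ((β : MulAut (A.comap π)) w : G))
        (Subtype.ext (cAut_apply hE g _).symm)
    refine ⟨QuotientGroup.congr N N γ (hσN γ hγ), ⟨γ, hγ, fun _ => rfl⟩, fun x => ?_⟩
    obtain ⟨y, hy⟩ := x
    obtain ⟨x, rfl⟩ := hπ y
    rw [resQ_apply hNi _ ⟨x, hy⟩, ← hγx]
    rfl
  · rintro c ⟨γ, hγ, hc⟩ hcA
    obtain ⟨hE, hNi⟩ := hess hA
    obtain ⟨α, hα, hαx⟩ := D.restrict hE γ hγ fun x hx => by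
      rw [Subgroup.mem_comap, ← hc]; exact hcA _ hx
    refine ⟨resQ hNi ⟨α, hα⟩, (mem_autQ hNi).2 ⟨_, rfl⟩, fun y => ?_⟩
    obtain ⟨y, hy⟩ := y
    obtain ⟨x, rfl⟩ := hπ y
    rw [resQ_apply hNi _ ⟨x, hy⟩, hc, hαx]
  · rintro c ⟨γ, hγ, hc⟩
    obtain ⟨hE, hNi⟩ := hess hA
    have heq : (A.map c.toMonoidHom).comap π = (A.comap π).map γ.toMonoidHom := by
      ext x
      constructor
      · rintro ⟨y, hy, hyx⟩
        refine ⟨γ⁻¹ x, ?_, MulAut.apply_inv_self _ γ x⟩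
        show π (γ⁻¹ x) ∈ A
        have : c (π (γ⁻¹ x)) = c y := by rw [hc, MulAut.apply_inv_self]; exact hyx.symm
        rwa [c.injective this]
      · rintro ⟨w, hw, rfl⟩
        exact ⟨π w, hw, hc w⟩
    obtain ⟨h1, h2⟩ := D.image hE γ hγ
    have hA' : A.map c.toMonoidHom = E1.map π ∨ A.map c.toMonoidHom = E2.map π := by
      rw [← Subgroup.map_comap_eq_self_of_surjective hπ (A.map c.toMonoidHom), heq]
      exact (hP.only _ h1).imp (fun h => by rw [h]) fun h => by rw [h]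
    refine ⟨hA', fun a ha => ?_⟩
    obtain ⟨α, rfl⟩ := (mem_autQ hNi).1 ha
    rw [← heq] at h2
    obtain ⟨α', hα', hαx⟩ := h2 α α.2
    obtain ⟨-, hNi'⟩ := hess hA'
    refine ⟨resQ hNi' ⟨α', hα'⟩, (mem_autQ hNi').2 ⟨_, rfl⟩, fun y hy => ?_⟩
    obtain ⟨y, hyA⟩ := y
    obtain ⟨x, rfl⟩ := hπ y
    have hx : γ x ∈ (A.map c.toMonoidHom).comap π := by
      rw [Subgroup.mem_comap, ← hc]; exact hy
    calc (resQ hNi' ⟨α', hα'⟩ ⟨c (π x), hy⟩ : G ⧸ N)
        = (resQ hNi' ⟨α', hα'⟩ ⟨π (γ x), hx⟩ : G ⧸ N) :=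
          congrArg (fun w => (resQ hNi' ⟨α', hα'⟩ w : G ⧸ N)) (Subtype.ext (hc x))
      _ = _ := by
        rw [resQ_apply hNi' _ ⟨γ x, hx⟩, resQ_apply hNi α ⟨x, hyA⟩, hc, hαx ⟨x, hyA⟩ hx]
  · intro κ hκ w hw d hd hdp h
    obtain ⟨k, hk, g, hg⟩ := hgi' κ hκ
    have hj : ∀ j : ℕ, (κ ^ j) w = w * d ^ j := by
      intro j
      induction j with
      | zero => simp
      | succ j ih => rw [pow_succ', MulAut.mul_apply, ih, map_mul, map_pow, hd, h, mul_assoc, pow_succ']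
    have h2 : (κ ^ k) w = w := by
      rw [hg, MulAut.conj_apply, Subgroup.mem_center_iff.1 hw g, mul_inv_cancel_right]
    rw [hj, mul_eq_left] at h2
    rw [← pow_one d, ← hk.gcd_eq_one]
    exact pow_gcd_eq_one.2 ⟨hdp, h2⟩
  · rw [← hcm hN.le1, h, hcm hN.le2]
  · rintro c ⟨γ, hγ, hc⟩ _ ⟨x, hx, rfl⟩
    exact ⟨γ x, hP.glob1 γ hγ x hx, (hc x).symm⟩
  · rintro c ⟨γ, hγ, hc⟩ _ ⟨x, hx, rfl⟩
    exact ⟨γ x, hP.glob2 γ hγ x hx, (hc x).symm⟩

end NormalSys

end Cfsg.Agent.Lib.RankThreeNormal61
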