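import Mathlib
import Cfsg.Agent.Lib.RankThreeNormal61.Apart
import Cfsg.Agent.Lib.RankThreeNormal61.Form

/-!
The signs of the two tori on the generators of the group, and the vanishing of triple commutators.
-/

set_option autoImplicit false
set_option linter.unusedSectionVars false

namespace Cfsg.Agent.Lib.RankThreeNormal61

open Cfsg Cfsg.Agent.Lib Cfsg.Agent.Lib.RankThreeEss69
open scoped commutatorElement

universe u

variable {G : Type u} [Group G] [Finite G] {p : ℕ} [hp : Fact p.Prime]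

theorem fr_top_aut (σ : MulAut G) {x : G} (hx : x ∈ fr p (⊤ : Subgroup G)) : σ x ∈ fr p (⊤ : Subgroup G) := by
  have h := Subgroup.mem_map_of_mem σ.toMonoidHom hx
  rw [map_fr, Subgroup.map_top_of_surjective _ σ.surjective] at h
  exact h

theorem eq_one_of_eq_inv (hp2 : p ≠ 2) {H : Type*} [Group H] {x : H} (hx : x ^ p = 1) (h : x = x⁻¹) :
    x = 1 := by
  obtain ⟨c, hc⟩ := hp.out.odd_of_ne_two hp2
  have h2 : x ^ 2 = 1 := by rw [pow_two]; exact eq_inv_iff_mul_eq_one.1 h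
  rwa [hc, pow_succ, pow_mul, h2, one_pow, one_mul] at hx

namespace NormalSys

variable {D : NormalSys p G} {E1 E2 : Subgroup G}

/-- The signs of a torus of `E2` on the elements of the intersection. -/
theorem torus_meet (hP : D.Pair E1 E2) {N : Subgroup G} {τ : MulAut G} {g z z' : G} {φ : MulAut E2}
    (T : D.Torus E2 E2 (fr p E2) N τ g z z' φ) {x : G} (hx : x ∈ E1 ⊓ E2) :
    x⁻¹ * τ x ∈ fr p (⊤ : Subgroup G) := by
  have hΦ : fr p E2 ≤ fr p (⊤ : Subgroup G) := fr_mono le_top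
  obtain ⟨x0, -, hz⟩ := T.z_eq
  have hzΦ : z ∈ fr p (⊤ : Subgroup G) := by
    rw [hz]; exact comm_mem_fr (Subgroup.mem_top _) (Subgroup.mem_top _)
  haveI hn : (fr p (⊤ : Subgroup G)).Normal := normal_of_map fun a => by rw [map_fr, map_conj_eq]
  set π := QuotientGroup.mk' (fr p (⊤ : Subgroup G))
  obtain ⟨i, l, -, -, hl, -, hd⟩ := meet_form hP T hx
  have hx1 : π x = π l := by
    rw [show π x = π (z ^ i * l) from QuotientGroup.eq.2 (hΦ hd), map_mul, map_zpow, mk'_eq_one.2 hzΦ,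
      one_zpow, one_mul]
  refine QuotientGroup.eq.1 (?_ : π x = π (τ x))
  rw [show π (τ x) = π (τ l) from QuotientGroup.eq.2 (by
      rw [← map_inv, ← map_mul]; exact fr_top_aut τ (QuotientGroup.eq.1 hx1)), hx1]
  exact QuotientGroup.eq.2 (hΦ hl)

/-- A torus of `E2` centralises the factor group by the Frattini part outside `E2`. -/
theorem torus_fix (hP : D.Pair E1 E2) {N : Subgroup G} {τ : MulAut G} {g z z' : G} {φ : MulAut E2}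
    (T : D.Torus E2 E2 (fr p E2) N τ g z z' φ) {e : G} (he : e ∈ E1) :
    e⁻¹ * τ e ∈ fr p (⊤ : Subgroup G) := by
  set d := e⁻¹ * τ e
  have hd : d ∈ E1 ⊓ E2 := ⟨E1.mul_mem (E1.inv_mem he) (hP.glob1 τ T.glob e he), T.g_mod e⟩
  have h1 : d * τ d = 1 := by
    simp only [d, map_mul, map_inv, T.sq]
    group
  have h2 := torus_meet hP T hd
  refine mem_of_sq D.pgroup D.odd ?_
  rw [eq_inv_of_mul_eq_one_right h1, ← mul_inv_rev] at h2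
  simpa using inv_mem h2

variable (D) in
/-- The two tori and their signs. -/
structure Signs (E1 E2 N : Subgroup G) (σ1 σ2 : MulAut G) (e r : G) : Prop where
  pair : D.Pair E1 E2
  e1 : e ∈ E1
  e2 : e ∉ E2
  r2 : r ∈ E2
  r1 : r ∉ E1
  glob1 : σ1 ∈ D.glob
  glob2 : σ2 ∈ D.glob
  fix1 : ∀ x ∈ N, σ1 x = x
  fix2 : ∀ x ∈ N, σ2 x = x
  meet1 : ∀ x ∈ E1 ⊓ E2, x⁻¹ * σ1 x ∈ fr p (⊤ : Subgroup G)
  meet2 : ∀ x ∈ E1 ⊓ E2, x⁻¹ * σ2 x ∈ fr p (⊤ : Subgroup G)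
  inv1 : e * σ1 e ∈ fr p (⊤ : Subgroup G)
  inv2 : r * σ2 r ∈ fr p (⊤ : Subgroup G)
  fixr : r⁻¹ * σ1 r ∈ fr p (⊤ : Subgroup G)
  fixe : e⁻¹ * σ2 e ∈ fr p (⊤ : Subgroup G)

theorem signs_of_tori (hP : D.Pair E1 E2) {N : Subgroup G} {σ1 σ2 : MulAut G} {g1 z1 e g2 z2 r : G}
    {φ1 : MulAut E1} {φ2 : MulAut E2} (T1 : D.Torus E1 E1 (fr p E1) N σ1 g1 z1 e φ1)
    (T2 : D.Torus E2 E2 (fr p E2) N σ2 g2 z2 r φ2) : D.Signs E1 E2 N σ1 σ2 e r where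
  pair := hP
  e1 := T1.z'X
  e2 := moved_notMem hP.symm T1
  r2 := T2.z'X
  r1 := moved_notMem hP T2
  glob1 := T1.glob
  glob2 := T2.glob
  fix1 := T1.fixN
  fix2 := T2.fixN
  meet1 := fun x hx => torus_meet hP.symm T1 ⟨hx.2, hx.1⟩
  meet2 := fun x hx => torus_meet hP T2 hx
  inv1 := fr_mono le_top T1.z'inv
  inv2 := fr_mono le_top T2.z'inv
  fixr := torus_fix hP.symm T1 T2.z'X
  fixe := torus_fix hP T2 T1.z'X

variable {N : Subgroup G} {σ1 σ2 : MulAut G} {e r : G}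

theorem Signs.symm (h : D.Signs E1 E2 N σ1 σ2 e r) : D.Signs E2 E1 N σ2 σ1 r e :=
  ⟨h.pair.symm, h.r2, h.r1, h.e1, h.e2, h.glob2, h.glob1, h.fix2, h.fix1, fun x hx => h.meet2 x ⟨hx.2, hx.1⟩,
    fun x hx => h.meet1 x ⟨hx.2, hx.1⟩, h.inv2, h.inv1, h.fixe, h.fixr⟩

theorem Signs.decomp (h : D.Signs E1 E2 N σ1 σ2 e r) (a : G) :
    ∃ d ∈ E1 ⊓ E2, ∃ i j : ℤ, a = d * e ^ i * r ^ j := by
  obtain ⟨b, hb, j, rfl⟩ := exists_decomp h.pair.h1 h.r1 a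
  obtain ⟨d, hd, i, rfl⟩ := exists_decomp h.pair.h2 h.e2 b
  exact ⟨d, ⟨by simpa using mul_mem hb (inv_mem (Subgroup.zpow_mem _ h.e1 i)), hd⟩, i, j, rfl⟩

/-- The intersection is, modulo the Frattini part, generated by one element. -/
theorem Signs.meet_line (h : D.Signs E1 E2 N σ1 σ2 e r) : ∃ l ∈ E1 ⊓ E2, ∀ x ∈ E1 ⊓ E2,
    ∃ k : ℤ, (l ^ k)⁻¹ * x ∈ fr p (⊤ : Subgroup G) := by
  haveI := D.normal h.pair.h1
  haveI := D.normal h.pair.h2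
  set P := E1 ⊓ E2
  set Φ := fr p (⊤ : Subgroup G)
  haveI : Φ.Normal := normal_of_map fun a => by rw [map_fr, map_conj_eq]
  have hΦP : Φ ≤ P := le_inf
    (fr_le_of (fun x _ => pow_mem_E h.pair.h1 x) fun x _ y _ => comm_mem_E h.pair.h1 x y)
    (fr_le_of (fun x _ => pow_mem_E h.pair.h2 x) fun x _ y _ => comm_mem_E h.pair.h2 x y)
  have hc : Nat.card P ≤ Nat.card Φ * p := by
    refine Nat.le_of_mul_le_mul_right ?_ (pow_pos hp.out.pos 2)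
    rw [sq, ← mul_assoc, h.pair.card_meet, card_E_mul h.pair.h2, mul_assoc, show p * (p * p) = p ^ 3 by ring,
      ← Subgroup.card_top (G := G)]
    exact card_le_of_rank D.pgroup D.rank (K := Φ) (H := ⊤)
      ⟨le_top, fun _ ha _ hb => comm_mem_fr ha hb, fun _ ha => pow_mem_fr ha⟩
  by_cases hPΦ : P ≤ Φ
  · exact ⟨1, one_mem _, fun x hx => ⟨0, by simpa using hPΦ hx⟩⟩
  obtain ⟨l, hl, hlΦ⟩ := SetLike.not_le_iff_exists.1 hPΦ
  refine ⟨l, hl, fun x hx => ?_⟩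
  obtain ⟨k, hk, i, rfl⟩ := exists_of_mem_sup ((eq_sup_zpowers D.pgroup hΦP hc hl hlΦ).le hx)
  exact ⟨i, by simpa [mul_assoc] using (inferInstance : Φ.Normal).conj_mem k hk (l ^ i)⁻¹⟩

variable {K : Subgroup G} [K.Normal]

/-- The moved element of a torus kills the form, when the form vanishes at the intersection. -/
theorem step (hP : D.Pair E1 E2) (hT : Tri p K) {τ : MulAut G} {g z z' : G} {φ : MulAut E2}
    (T : D.Torus E2 E2 (fr p E2) N τ g z z' φ)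
    (hφK : ∀ x : E2, (x : G) ∈ K → (φ x : G) ∈ K)
    (hvan : ∀ a b : G, ∀ l ∈ E1 ⊓ E2, Tri.val K a b l = 1) {x : G} (hx : x ∈ E1 ⊓ E2) :
    Tri.val K z' x z' = 1 := by
  set Φ := fr p (⊤ : Subgroup G)
  haveI : Φ.Normal := normal_of_map fun a => by rw [map_fr, map_conj_eq]
  have hΦ : fr p E2 ≤ Φ := fr_mono le_top
  obtain ⟨x0, -, hz⟩ := T.z_eq
  have hzΦ : z ∈ Φ := by rw [hz]; exact comm_mem_fr (Subgroup.mem_top _) (Subgroup.mem_top _)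
  obtain ⟨i, l, hlP, -, -, hφl, hd⟩ := meet_form hP T hx
  have hzl : ⁅z, l⁆ ∈ K := by
    rw [← mk'_eq_one, hz]
    exact hvan g x0 l hlP
  have hxl : x⁻¹ * l ∈ Φ ⊔ K := by
    refine Subgroup.mem_sup_left ?_
    have h1 : l⁻¹ * (z ^ i)⁻¹ * l ∈ Φ := by
      simpa using (inferInstance : Φ.Normal).conj_mem _ (inv_mem (Subgroup.zpow_mem _ hzΦ i)) l⁻¹
    have h2 := mul_mem (hΦ hd) h1
    rwa [show x⁻¹ * (z ^ i * l) * (l⁻¹ * (z ^ i)⁻¹ * l) = x⁻¹ * l by group] at h2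
  rw [hT.congr₂ hxl]
  have hφzl : ⁅(φ ⟨z, T.zX⟩ : G), (φ ⟨l, hlP.2⟩ : G)⁆ ∈ K := by
    have h := hφK ⁅(⟨z, T.zX⟩ : E2), (⟨l, hlP.2⟩ : E2)⁆ hzl
    rwa [map_commutatorElement φ] at h
  have hone : Tri.val K (φ ⟨z, T.zX⟩ : G) (φ ⟨l, hlP.2⟩ : G) z' = 1 := by
    rw [Tri.val, map_commutatorElement, mk'_eq_one.2 hφzl, commutatorElement_one_left]
  obtain ⟨b, hb, hbz⟩ := T.φ_z
  have hu1 : (z' ^ b)⁻¹ * (φ ⟨z, T.zX⟩ : G) ∈ Φ ⊔ K := by
    refine Subgroup.mem_sup_left ?_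
    have h1 : (z' ^ b)⁻¹ * z * z' ^ b ∈ Φ := by
      simpa using (inferInstance : Φ.Normal).conj_mem _ hzΦ (z' ^ b)⁻¹
    have h2 := mul_mem h1 (hΦ (hbz ⟨z, T.zX⟩ rfl))
    rwa [show (z' ^ b)⁻¹ * z * z' ^ b * ((z * z' ^ b)⁻¹ * (φ ⟨z, T.zX⟩ : G)) =
      (z' ^ b)⁻¹ * (φ ⟨z, T.zX⟩ : G) by group] at h2
  rw [← hT.congr₁ hu1, ← hT.congr₂ (Subgroup.mem_sup_left (hΦ (hφl ⟨l, hlP.2⟩ rfl))), hT.zpow₁] at hone
  by_contra hne
  exact hb (cast_zero_of_zpow (hT.pow_one' _ _ _) hne hone)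

/-- The form changes sign with an odd number of inverted arguments. -/
theorem odd_one (hT : Tri p K) {σ : MulAut G} (hσ : ∀ a b c, Tri.val K (σ a) (σ b) (σ c) = Tri.val K a b c)
    (hp2 : p ≠ 2) {a b c : G}
    (h : Tri.val K (σ a) (σ b) (σ c) = (Tri.val K a b c)⁻¹) : Tri.val K a b c = 1 :=
  eq_one_of_eq_inv hp2 (hT.pow_one' _ _ _) ((hσ a b c).symm.trans h)

/-- With both tori keeping the values, the form vanishes. -/
theorem val_eq_one (hP : D.Pair E1 E2) (hT : Tri p K) {g1 z1 g2 z2 : G} {φ1 : MulAut E1} {φ2 : MulAut E2}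
    (T1 : D.Torus E1 E1 (fr p E1) N σ1 g1 z1 e φ1) (T2 : D.Torus E2 E2 (fr p E2) N σ2 g2 z2 r φ2)
    (hσ1 : ∀ a b c, Tri.val K (σ1 a) (σ1 b) (σ1 c) = Tri.val K a b c)
    (hσ2 : ∀ a b c, Tri.val K (σ2 a) (σ2 b) (σ2 c) = Tri.val K a b c)
    (hφ1 : ∀ x : E1, (x : G) ∈ K → (φ1 x : G) ∈ K) (hφ2 : ∀ x : E2, (x : G) ∈ K → (φ2 x : G) ∈ K)
    (a b c : G) : Tri.val K a b c = 1 := by
  have h := signs_of_tori hP T1 T2
  have hΦ : ∀ {x y : G}, x⁻¹ * y ∈ fr p (⊤ : Subgroup G) → x⁻¹ * y ∈ fr p (⊤ : Subgroup G) ⊔ K :=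
    fun h => Subgroup.mem_sup_left h
  -- expansion on generators
  have hgen : ∀ f : G → (G ⧸ K), (∀ x y, f (x * y) = f x * f y) → (∀ x i, f (x ^ (i : ℤ)) = f x ^ i) →
      (∀ d ∈ E1 ⊓ E2, f d = 1) → f e = 1 → f r = 1 → ∀ x, f x = 1 := by
    intro f hm hz hd he hr x
    obtain ⟨d, hd', i, j, rfl⟩ := h.decomp x
    rw [hm, hm, hz, hz, hd d hd', he, hr, one_zpow, one_zpow, one_mul, one_mul]
  obtain ⟨l0, hl0, hline⟩ := h.meet_line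
  have hdd : ∀ d ∈ E1 ⊓ E2, ∀ d' ∈ E1 ⊓ E2, ∀ w, Tri.val K d d' w = 1 := by
    intro d hd d' hd' w
    obtain ⟨i, hi⟩ := hline d hd
    obtain ⟨j, hj⟩ := hline d' hd'
    rw [← hT.congr₁ (hΦ hi), ← hT.congr₂ (hΦ hj), hT.zpow₁, hT.zpow₂, hT.refl, one_zpow, one_zpow]
  have f1r := hΦ h.fixr
  have f2e := hΦ h.fixe
  have i1e : (e⁻¹)⁻¹ * σ1 e ∈ fr p (⊤ : Subgroup G) ⊔ K := by rw [inv_inv]; exact Subgroup.mem_sup_left h.inv1
  have i2r : (r⁻¹)⁻¹ * σ2 r ∈ fr p (⊤ : Subgroup G) ⊔ K := by rw [inv_inv]; exact Subgroup.mem_sup_left h.inv2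
  have hre : ∀ l ∈ E1 ⊓ E2, Tri.val K r e l = 1 := fun l hl => odd_one hT hσ1 D.odd (by
    rw [← hT.congr₁ f1r, ← hT.congr₂ i1e, ← hT.congr₃ (hΦ (h.meet1 l hl)), hT.inv₂])
  have hed : ∀ d ∈ E1 ⊓ E2, ∀ l ∈ E1 ⊓ E2, Tri.val K e d l = 1 := fun d hd l hl => odd_one hT hσ1 D.odd (by
    rw [← hT.congr₁ i1e, ← hT.congr₂ (hΦ (h.meet1 d hd)), ← hT.congr₃ (hΦ (h.meet1 l hl)), hT.inv₁])
  have hrd : ∀ d ∈ E1 ⊓ E2, ∀ l ∈ E1 ⊓ E2, Tri.val K r d l = 1 := fun d hd l hl => odd_one hT hσ2 D.odd (by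
    rw [← hT.congr₁ i2r, ← hT.congr₂ (hΦ (h.meet2 d hd)), ← hT.congr₃ (hΦ (h.meet2 l hl)), hT.inv₁])
  have hsw : ∀ {x y w : G}, Tri.val K x y w = 1 → Tri.val K y x w = 1 := fun {x y w} h' => by
    rw [hT.swap, h', inv_one]
  have hvan : ∀ x y : G, ∀ l ∈ E1 ⊓ E2, Tri.val K x y l = 1 := by
    intro x y l hl
    refine hgen (fun x => Tri.val K x y l) (fun _ _ => hT.mul₁ ..) (fun _ _ => hT.zpow₁ ..) ?_ ?_ ?_ x
    all_goals
      intros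
      refine hgen (fun y => Tri.val K _ y l) (fun _ _ => hT.mul₂ ..) (fun _ _ => hT.zpow₂ ..) ?_ ?_ ?_ y
    exacts [fun d hd => hdd _ (by assumption) d hd l, hsw (hed _ (by assumption) l hl),
      hsw (hrd _ (by assumption) l hl), fun d hd => hed d hd l hl, hT.refl .., hsw (hre l hl),
      fun d hd => hrd d hd l hl, hre l hl, hT.refl ..]
  have hede : ∀ d ∈ E1 ⊓ E2, Tri.val K e d e = 1 := fun d hd =>
    step hP.symm hT T1 hφ1 (fun x y l hl => hvan x y l ⟨hl.2, hl.1⟩) ⟨hd.2, hd.1⟩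
  have hrdr : ∀ d ∈ E1 ⊓ E2, Tri.val K r d r = 1 := fun d hd => step hP hT T2 hφ2 hvan hd
  have hrde : ∀ d ∈ E1 ⊓ E2, Tri.val K r d e = 1 := fun d hd => odd_one hT hσ2 D.odd (by
    rw [← hT.congr₁ i2r, ← hT.congr₂ (hΦ (h.meet2 d hd)), ← hT.congr₃ f2e, hT.inv₁])
  have hedr : ∀ d ∈ E1 ⊓ E2, Tri.val K e d r = 1 := fun d hd => odd_one hT hσ1 D.odd (by
    rw [← hT.congr₁ i1e, ← hT.congr₂ (hΦ (h.meet1 d hd)), ← hT.congr₃ f1r, hT.inv₁])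
  have here : Tri.val K r e e = 1 := odd_one hT hσ2 D.odd (by
    rw [← hT.congr₁ i2r, ← hT.congr₂ f2e, ← hT.congr₃ f2e, hT.inv₁])
  have herr : Tri.val K r e r = 1 := odd_one hT hσ1 D.odd (by
    rw [← hT.congr₁ f1r, ← hT.congr₂ i1e, ← hT.congr₃ f1r, hT.inv₂])
  refine hgen (fun c => Tri.val K a b c) (fun _ _ => hT.mul₃ ..) (fun _ _ => hT.zpow₃ ..)
    (fun d hd => hvan a b d hd) ?_ ?_ c
  all_goals
    refine hgen (fun x => Tri.val K x b _) (fun _ _ => hT.mul₁ ..) (fun _ _ => hT.zpow₁ ..) ?_ ?_ ?_ a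
  all_goals
    intros
    refine hgen (fun y => Tri.val K _ y _) (fun _ _ => hT.mul₂ ..) (fun _ _ => hT.zpow₂ ..) ?_ ?_ ?_ b
  exacts [fun d hd => hdd _ (by assumption) d hd e, hsw (hede _ (by assumption)), hsw (hrde _ (by assumption)),
    hede, hT.refl .., hsw here, hrde, here, hT.refl ..,
    fun d hd => hdd _ (by assumption) d hd r, hsw (hedr _ (by assumption)), hsw (hrdr _ (by assumption)),
    hedr, hT.refl .., hsw herr, hrdr, herr, hT.refl ..]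

end NormalSys

end Cfsg.Agent.Lib.RankThreeNormal61
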