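import Mathlib
import Cfsg.Agent.Lib.RankThreeNormal61.Signs
import Cfsg.Agent.Lib.RankThreeNormal61.Min

/-!
A central common subgroup containing the triple commutators: the class is at most two.
-/

set_option autoImplicit false
set_option linter.unusedSectionVars false

namespace Cfsg.Agent.Lib.RankThreeNormal61

open Cfsg Cfsg.Agent.Lib Cfsg.Agent.Lib.RankThreeEss69
open scoped commutatorElement

universe u

variable {G : Type u} [Group G] [Finite G] {p : ℕ} [hp : Fact p.Prime]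

namespace NormalSys

variable {D : NormalSys p G} {E : Subgroup G} (hE : D.IsEss E)
include hE

/-- The double commutator with `g` on `E` modulo the Frattini part. -/
noncomputable def dbl [(fr p E).Normal] (g : G) : E →* G ⧸ fr p E :=
  MonoidHom.mk' (fun x => QuotientGroup.mk' (fr p E) ⁅g, ⁅g, (x : G)⁆⁆) fun x y => by
    have key : ∀ a b : G, a ∈ E → b ∈ E → QuotientGroup.mk' (fr p E) ⁅g, a * b⁆ =
        QuotientGroup.mk' (fr p E) ⁅g, a⁆ * QuotientGroup.mk' (fr p E) ⁅g, b⁆ := by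
      intro a b ha hb
      rw [show ⁅g, a * b⁆ = ⁅g, a⁆ * (a * ⁅g, b⁆ * a⁻¹) by simp only [commutatorElement_def]; group]
      simp only [map_mul, map_inv]
      rw [(commute_mk' (comm_mem_fr ha (comm_mem_E hE g b))).eq, mul_inv_cancel_right]
    calc QuotientGroup.mk' (fr p E) ⁅g, ⁅g, ((x * y : E) : G)⁆⁆
        = ⁅QuotientGroup.mk' (fr p E) g, QuotientGroup.mk' (fr p E) (⁅g, (x : G)⁆ * ⁅g, (y : G)⁆)⁆ := by
          rw [map_commutatorElement, Subgroup.coe_mul, key _ _ x.2 y.2, map_mul]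
      _ = _ := by
          rw [← map_commutatorElement]
          exact key _ _ (comm_mem_E hE g x) (comm_mem_E hE g y)

theorem dbl_eq_one [(fr p E).Normal] {g : G} {x : E} : dbl hE g x = 1 ↔ ⁅g, ⁅g, (x : G)⁆⁆ ∈ fr p E := by
  exact mk'_eq_one

/-- One element outside `E` acting quadratically suffices. -/
theorem quad_of {g : G} (hg : g ∉ E) (h : ∀ x ∈ E, ⁅g, ⁅g, x⁆⁆ ∈ fr p E) (g' : G) :
    ∀ x ∈ E, ⁅g', ⁅g', x⁆⁆ ∈ fr p E := by
  intro x hx
  haveI := fr_normal hE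
  obtain ⟨e, he, i, rfl⟩ := exists_decomp hE hg g'
  set π := QuotientGroup.mk' (fr p E)
  set c := π ⁅g, x⁆ with hc
  have hgc : Commute (π g) c := commute_mk' (h x hx)
  have hec : ∀ y ∈ E, Commute (π e) (π y) := fun y hy => commute_mk' (comm_mem_fr he hy)
  have hcx : Commute c (π x) := commute_mk' (comm_mem_fr (comm_mem_E hE g x) hx)
  have hs : SemiconjBy (π x) (c * π g) (π g) := by
    show π x * (c * π g) = π g * π x
    rw [← mul_assoc, ← hcx.eq, hc, commutatorElement_def]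
    simp only [map_mul, map_inv]
    group
  have hconj : π g ^ i * π x * (π g ^ i)⁻¹ = π x * c ^ i := by
    rw [← (hs.zpow_right i).eq, hgc.symm.mul_zpow, ← mul_assoc, mul_inv_cancel_right]
  have hin : π ⁅e * g ^ i, x⁆ = c ^ i := by
    rw [show ⁅e * g ^ i, x⁆ = e * (g ^ i * x * (g ^ i)⁻¹) * e⁻¹ * x⁻¹ by
      rw [commutatorElement_def]; group]
    simp only [map_mul, map_inv, map_zpow]
    rw [hconj, hc, ← map_zpow, ← map_mul,
      (hec _ (mul_mem hx (E.zpow_mem (comm_mem_E hE g x) i))).eq, mul_inv_cancel_right, map_mul, map_zpow,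
      ← hc, (hcx.zpow_left i).symm.eq, mul_inv_cancel_right]
  rw [← mk'_eq_one, map_commutatorElement, commutatorElement_eq_one_iff_commute, hin, map_mul, map_zpow]
  refine Commute.mul_left ?_ (hgc.zpow_zpow i i)
  rw [hc, ← map_zpow]
  exact hec _ (E.zpow_mem (comm_mem_E hE g x) i)

/-- A section on which a torus is inverting does not spoil a quadratic action. -/
theorem quad_of_section {U : Subgroup G} (hUE : U ≤ E) (hfU : fr p E ≤ U) (hU : D.Inv E U)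
    (hUf : ∀ (g : G), ∀ x ∈ U, ⁅g, x⁆ ∈ fr p E) (hquad : ∀ (g : G), ∀ x ∈ E, ⁅g, ⁅g, x⁆⁆ ∈ U) :
    ∀ (g : G), ∀ x ∈ E, ⁅g, ⁅g, x⁆⁆ ∈ fr p E := by
  haveI := D.normal hE
  haveI hFn := fr_normal hE
  set F := fr p E
  obtain ⟨τ, g, z, z', φ, T⟩ := D.exists_torus_section hE le_rfl hUE hfU self_inv hU
    (N := ⊥) bot_inv bot_le (fun g x _ => comm_mem_E hE g x) hUf hquad
  intro g'
  refine quad_of hE T.hg (fun x hx => ?_) g'
  set π := QuotientGroup.mk' F
  have hU1 : ∀ u : E, (u : G) ∈ U → dbl hE g u = 1 := fun u hu =>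
    (dbl_eq_one hE).2 (comm_fr hE g (hUf g u hu))
  have hU2 : ∀ u : E, ⁅g, (u : G)⁆ ∈ U → dbl hE g u = 1 := fun u hu => (dbl_eq_one hE).2 (hUf g _ hu)
  set zE : E := ⟨z, T.zX⟩
  set zE' : E := ⟨z', T.z'X⟩
  set d := ⁅g, ⁅g, z'⁆⁆
  have hd : dbl hE g zE' = 1 := by
    set w : E := ⟨τ z', T.keep _ T.z'X⟩
    have h1 : dbl hE g zE' * dbl hE g w = 1 := by
      rw [← map_mul]
      exact hU1 _ (by rw [Subgroup.coe_mul]; exact T.z'inv)
    have h2 : dbl hE g w = dbl hE g zE' := by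
      show π ⁅g, ⁅g, τ z'⁆⁆ = π d
      rw [show ⁅g, ⁅g, τ z'⁆⁆ = τ d by simp only [d, map_commutatorElement, T.gfix]]
      exact (QuotientGroup.eq.2 (T.u_mod d (hquad g z' T.z'X))).symm
    rw [h2] at h1
    refine (dbl_eq_one hE).2 (mem_of_sq D.pgroup D.odd ?_)
    rwa [show dbl hE g zE' = π d from rfl, ← map_mul, mk'_eq_one] at h1
  obtain ⟨i, j, l, hl, hgl, -, -, hx'⟩ := T.dec x hx
  set lE : E := ⟨l, hl⟩
  set xE : E := ⟨x, hx⟩
  refine (dbl_eq_one hE (x := xE)).1 ?_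
  have h := hU1 (xE⁻¹ * (zE ^ i * zE' ^ j * lE)) (by
    simpa only [Subgroup.coe_mul, Subgroup.coe_inv, SubgroupClass.coe_zpow] using hx')
  rw [map_mul, map_mul, map_mul, map_zpow, map_zpow, map_inv, hd, hU2 zE T.gz, hU2 lE hgl, one_zpow,
    one_zpow, mul_one, mul_one, mul_one, inv_eq_one] at h
  exact h

/-- A central subgroup does not spoil a quadratic action. -/
theorem quad_lift {N : Subgroup G} (hNE : N ≤ E) (hN : D.Inv E N) (hNc : N ≤ Subgroup.center G)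
    (hquad : ∀ (g : G), ∀ x ∈ E, ⁅g, ⁅g, x⁆⁆ ∈ fr p E ⊔ N) :
    ∀ (g : G), ∀ x ∈ E, ⁅g, ⁅g, x⁆⁆ ∈ fr p E := by
  haveI := fr_normal hE
  refine quad_of_section hE (sup_le fr_le hNE) le_sup_left (sup_inv fr_le hNE fr_inv hN) (fun g x hx => ?_) hquad
  obtain ⟨f, hf, n, hn, rfl⟩ : ∃ f ∈ fr p E, ∃ n ∈ N, f * n = x := Subgroup.mem_sup_of_normal_left.1 hx
  rw [show ⁅g, f * n⁆ = ⁅g, f⁆ * (f * ⁅g, n⁆ * f⁻¹) by simp only [commutatorElement_def]; group,
    commutatorElement_eq_one_iff_commute.2 (Subgroup.mem_center_iff.1 (hNc hn) g), mul_one,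
    mul_inv_cancel, mul_one]
  exact comm_fr hE g hf

omit hE in
/-- A central common subgroup containing the triple commutators. -/
theorem class_two_of_common {E1 E2 N : Subgroup G} (hP : D.Pair E1 E2) (hN : Common D E1 E2 N)
    (hNc : N ≤ Subgroup.center G) (hNp : ∀ x ∈ N, x ^ p = 1)
    (h3 : ∀ a b c : G, ⁅⁅a, b⁆, c⁆ ∈ N) (a b c : G) : ⁅⁅a, b⁆, c⁆ = 1 := by
  have hq : ∀ {E : Subgroup G}, D.IsEss E → N ≤ E → D.Inv E N →
      ∀ (g : G), ∀ x ∈ E, ⁅g, ⁅g, x⁆⁆ ∈ fr p E := fun {E} hE hNE hNi =>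
    quad_lift hE hNE hNi hNc fun g x _ => Subgroup.mem_sup_right (by
      rw [← commutatorElement_inv]; exact inv_mem (h3 g x g))
  obtain ⟨σ1, g1, z1, e, φ1, T1⟩ := D.exists_torus_section hP.h1 le_rfl fr_le le_rfl self_inv fr_inv
    hN.inv1 hNc (fun g x _ => comm_mem_E hP.h1 g x) (fun g x hx => comm_fr hP.h1 g hx)
    (hq hP.h1 hN.le1 hN.inv1)
  obtain ⟨σ2, g2, z2, r, φ2, T2⟩ := D.exists_torus_section hP.h2 le_rfl fr_le le_rfl self_inv fr_inv
    hN.inv2 hNc (fun g x _ => comm_mem_E hP.h2 g x) (fun g x hx => comm_fr hP.h2 g hx)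
    (hq hP.h2 hN.le2 hN.inv2)
  have hT : Tri p (⊥ : Subgroup G) := ⟨fun a b c q => Subgroup.mem_bot.2
    (commutatorElement_eq_one_iff_commute.2 ((Subgroup.mem_center_iff.1 (hNc (h3 a b c)) q).symm)),
    fun a b c => Subgroup.mem_bot.2 (hNp _ (h3 a b c))⟩
  have hσ : ∀ σ : MulAut G, (∀ x ∈ N, σ x = x) → ∀ a b c,
      Tri.val (⊥ : Subgroup G) (σ a) (σ b) (σ c) = Tri.val ⊥ a b c := fun σ hσ a b c => by
    simp only [Tri.val]
    rw [show ⁅⁅σ a, σ b⁆, σ c⁆ = σ ⁅⁅a, b⁆, c⁆ by simp only [map_commutatorElement], hσ _ (h3 a b c)]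
  exact Subgroup.mem_bot.1 (mk'_eq_one.1 (val_eq_one hP hT T1 T2 (hσ σ1 T1.fixN) (hσ σ2 T2.fixN)
    (fun x hx => bot_inv φ1 T1.φ_mem x hx) (fun x hx => bot_inv φ2 T2.φ_mem x hx) a b c))

end NormalSys

end Cfsg.Agent.Lib.RankThreeNormal61
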