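import Mathlib
import Cfsg.Agent.Lib.RankThreeNormal61.Lift

/-!
A central common subgroup with a quotient of order at most `p ^ 4` and class three is trivial, and one
of the distinguished subgroups is then elementary abelian of order `p ^ 3`.
-/

set_option autoImplicit false
set_option linter.unusedSectionVars false

namespace Cfsg.Agent.Lib.RankThreeNormal61

open Cfsg Cfsg.Agent.Lib Cfsg.Agent.Lib.RankThreeEss69
open scoped commutatorElement

universe u

variable {G : Type u} [Group G] [Finite G] {p : ℕ} [hp : Fact p.Prime]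

/-- The action on a section of order at most `p ^ 2` is quadratic. -/
theorem quad_of_small (hG : IsPGroup p G) {X U : Subgroup G} [X.Normal] [U.Normal] (hUX : U ≤ X)
    (hc : Nat.card X ≤ Nat.card U * p ^ 2) (g : G) : ∀ x ∈ X, ⁅g, ⁅g, x⁆⁆ ∈ U := by
  intro x hx
  set C := ⁅X, (⊤ : Subgroup G)⁆ ⊔ U
  haveI : C.Normal := by infer_instance
  rw [← commutatorElement_inv]
  refine inv_mem ?_
  by_cases hXC : X ≤ C
  · have hXU : X ≤ U := le_of_le_comm_sup hG hXC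
    have h1 : ⁅g, x⁆ ∈ U := by
      rw [commutatorElement_def]
      exact mul_mem ((inferInstance : U.Normal).conj_mem x (hXU hx) g) (inv_mem (hXU hx))
    rw [show ⁅⁅g, x⁆, g⁆ = ⁅g, x⁆ * (g * ⁅g, x⁆⁻¹ * g⁻¹) by simp only [commutatorElement_def]; group]
    exact mul_mem h1 ((inferInstance : U.Normal).conj_mem _ (inv_mem h1) g)
  · have hlt : C < X := lt_of_le_of_ne (sup_le (Subgroup.commutator_le_left _ _) hUX) fun e => hXC e.ge
    have hCc : Nat.card C ≤ Nat.card U * p := Nat.le_of_mul_le_mul_right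
      ((card_mul_le' hG hlt).trans (by rw [mul_assoc, ← sq]; exact hc)) hp.out.pos
    refine comm_le_of_card_le hG le_sup_right hCc (Subgroup.commutator_mem_commutator ?_ (Subgroup.mem_top g))
    rw [← commutatorElement_inv]
    exact inv_mem (Subgroup.mem_sup_left (Subgroup.commutator_mem_commutator hx (Subgroup.mem_top g)))

namespace NormalSys

variable {D : NormalSys p G} {E : Subgroup G} (hE : D.IsEss E)
include hE

/-- An invariant subgroup strictly between the Frattini part and `E` makes the action quadratic. -/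
theorem quad_of_between {W : Subgroup G} (hfW : fr p E < W) (hWE : W < E) (hW : D.Inv E W)
    (hEc : Nat.card E = Nat.card (fr p E) * p ^ 3) :
    ∀ (g : G), ∀ x ∈ E, ⁅g, ⁅g, x⁆⁆ ∈ fr p E := by
  haveI := D.normal hE
  haveI hFn := fr_normal hE
  haveI := normal_of_inv hE hWE.le hW
  set F := fr p E
  obtain ⟨f, hf⟩ := IsPGroup.iff_card.1 (D.pgroup.to_subgroup F)
  obtain ⟨w, hw⟩ := IsPGroup.iff_card.1 (D.pgroup.to_subgroup W)
  have h1 := card_mul_le' D.pgroup hfW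
  have h2 := card_mul_le' D.pgroup hWE
  rw [hEc] at h2
  rw [hf, hw, ← pow_succ, ← pow_add] at h2
  rw [hf, hw, ← pow_succ] at h1
  have h1' := (Nat.pow_le_pow_iff_right hp.out.one_lt).1 h1
  have h2' := (Nat.pow_le_pow_iff_right hp.out.one_lt).1 h2
  rcases (show w = f + 1 ∨ w = f + 2 by omega) with rfl | rfl
  · refine quad_of_section hE hWE.le hfW.le hW (fun g x hx => ?_) fun g => quad_of_small D.pgroup hWE.le ?_ g
    · exact comm_le_of_card_le D.pgroup hfW.le (by rw [hw, hf, pow_succ])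
        (by rw [Subgroup.commutator_comm]; exact Subgroup.commutator_mem_commutator (Subgroup.mem_top g) hx)
    · rw [hEc, hw, hf, ← pow_add, ← pow_add]
  have hWc : Nat.card W ≤ Nat.card F * p ^ 2 := by rw [hw, hf, ← pow_add]
  have hEX : ∀ (g : G), ∀ x ∈ E, ⁅g, x⁆ ∈ W := fun g x hx =>
    comm_le_of_card_le D.pgroup hWE.le (by rw [hEc, hw, hf, ← pow_add, ← pow_succ])
      (by rw [Subgroup.commutator_comm]; exact Subgroup.commutator_mem_commutator (Subgroup.mem_top g) hx)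
  obtain ⟨τ, g, z, z', φ, T⟩ := D.exists_torus_section hE hWE.le hfW.le le_rfl hW fr_inv
    (N := ⊥) bot_inv bot_le hEX (fun g x hx => comm_fr hE g hx) fun g => quad_of_small D.pgroup hfW.le hWc g
  intro g'
  refine quad_of hE T.hg (fun y hy => ?_) g'
  set π := QuotientGroup.mk' F
  haveI hzn : (F ⊔ Subgroup.zpowers z).Normal := by
    refine sup_zpowers_normal fun a => ?_
    obtain ⟨e, he, i, rfl⟩ := exists_decomp hE T.hg a
    rw [comm_mem_iff, map_mul, map_zpow]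
    exact (commute_mk' (comm_mem_fr (hWE.le T.zX) he)).mul_right ((commute_mk' T.gz).symm.zpow_right i)
  have hzc := card_mul_le' D.pgroup (lt_of_le_of_ne (le_sup_left : F ≤ F ⊔ Subgroup.zpowers z)
    fun e => T.z_notMem hFn (e.ge (Subgroup.mem_sup_right (Subgroup.mem_zpowers z))))
  have hzc' := card_mul_le' D.pgroup (lt_of_le_of_ne (le_sup_left : _ ≤ F ⊔ Subgroup.zpowers z ⊔
    Subgroup.zpowers z') fun e => T.z'_notMem hFn (e.ge (Subgroup.mem_sup_right (Subgroup.mem_zpowers z'))))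
  have hWeq : F ⊔ Subgroup.zpowers z ⊔ Subgroup.zpowers z' = W := Subgroup.eq_of_le_of_card_ge
    (sup_le (sup_le hfW.le (Subgroup.zpowers_le.2 T.zX)) (Subgroup.zpowers_le.2 T.z'X))
    (hWc.trans (by rw [sq, ← mul_assoc]; exact (Nat.mul_le_mul_right p hzc).trans hzc'))
  have hzz : Commute (π z) (π z') := commute_mk' (comm_mem_fr (hWE.le T.zX) (hWE.le T.z'X))
  have hτπ : ∀ a b : G, π a = π b → π (τ a) = π (τ b) := fun a b h => by
    refine QuotientGroup.eq.2 ?_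
    rw [← map_inv, ← map_mul]
    have h' := mul_mem (QuotientGroup.eq.1 h) (T.u_mod _ (QuotientGroup.eq.1 h))
    rwa [mul_inv_cancel_left] at h' 
  have hinv1 : ∀ {a : G}, a * τ a ∈ F → π (τ a) = (π a)⁻¹ := fun {a} h => by
    rw [eq_inv_iff_mul_eq_one, ← map_mul, mk'_eq_one]
    simpa [mul_assoc] using hFn.conj_mem _ h a⁻¹
  have hinv : ∀ x ∈ W, π (τ x) = (π x)⁻¹ := by
    intro x hx
    rw [← hWeq] at hx
    obtain ⟨k, hk, j, rfl⟩ := exists_of_mem_sup hx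
    obtain ⟨u, hu, i, rfl⟩ := exists_of_mem_sup hk
    have hu' : π (τ u) = 1 := by rw [hτπ u 1 (by rw [map_one]; exact mk'_eq_one.2 hu), map_one, map_one]
    simp only [map_mul, map_zpow]
    rw [hu', hinv1 T.zinv, hinv1 T.z'inv, mk'_eq_one.2 hu, one_mul, one_mul, inv_zpow, inv_zpow,
      ← mul_inv_rev, (hzz.symm.zpow_zpow j i).eq]
  -- the commutator with `g`
  set w := ⁅g, y⁆
  set w0 := y⁻¹ * τ y with hw0
  have hwW : w ∈ W := hEX g y hy
  have hw0W : w0 ∈ W := T.e_mod y hy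
  obtain ⟨i, hi⟩ := T.move w0 hw0W
  have h3 : π (τ w) = π w * π z ^ i := by
    have e : τ w = ⁅g, y⁆ * (y * ⁅g, w0⁆ * y⁻¹) := by
      rw [show τ w = ⁅g, τ y⁆ by simp only [w, map_commutatorElement, T.gfix],
        show τ y = y * w0 by rw [hw0, mul_inv_cancel_left]]
      simp only [commutatorElement_def]; group
    have hzi : π ⁅g, w0⁆ = π z ^ i := by rw [← map_zpow]; exact (QuotientGroup.eq.2 hi).symm
    rw [e]
    simp only [map_mul, map_inv]
    rw [hzi, ← map_zpow, (commute_mk' (comm_mem_fr hy (E.zpow_mem (hWE.le T.zX) i))).eq, mul_inv_cancel_right,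
      map_zpow]
  set K := (Subgroup.centralizer {π g}).comap π
  have hK : w ∈ K := by
    refine mem_of_sq D.pgroup D.odd ?_
    rw [Subgroup.mem_comap, map_mul, Subgroup.mem_centralizer_singleton_iff]
    have h4 : π w * π w = (π z ^ i)⁻¹ := by
      rw [hinv w hwW] at h3
      rw [eq_inv_iff_mul_eq_one, mul_assoc, ← h3, mul_inv_cancel]
    rw [h4]
    exact ((commute_mk' T.gz).zpow_right i).inv_right.symm.eq
  rw [Subgroup.mem_comap, Subgroup.mem_centralizer_singleton_iff] at hK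
  exact comm_mem_iff.2 hK.symm

/-- The type of a subgroup with a non-quadratic action. -/
theorem type_of_regular {N : Subgroup G} (hNE : N ≤ E) (hN : D.Inv E N) (hNc : N ≤ Subgroup.center G)
    (hNp : ∀ x ∈ N, x ^ p = 1) (hG4 : Nat.card G ≤ Nat.card N * p ^ 4)
    (hreg : ¬ ∀ (g : G), ∀ x ∈ E, ⁅g, ⁅g, x⁆⁆ ∈ fr p E) :
    N = ⊥ ∧ IsElementaryAbelian p E ∧ Nat.card E = p ^ 3 := by
  haveI := D.normal hE
  haveI hFn := fr_normal hE
  set F := fr p E
  have hbig : ¬ Nat.card E ≤ Nat.card F * p ^ 2 := fun h =>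
    hreg fun g => quad_of_small D.pgroup fr_le h g
  obtain ⟨f, hf⟩ := IsPGroup.iff_card.1 (D.pgroup.to_subgroup F)
  obtain ⟨c, hc⟩ := IsPGroup.iff_card.1 (D.pgroup.to_subgroup E)
  have hle := card_le_fr hE
  rw [hf, hc, ← pow_add] at hle hbig
  have hle' := (Nat.pow_le_pow_iff_right hp.out.one_lt).1 hle
  have hbig' : ¬ c ≤ f + 2 := fun h => hbig (Nat.pow_le_pow_right hp.out.pos h)
  obtain rfl : c = f + 3 := by omega
  have hEc : Nat.card E = Nat.card F * p ^ 3 := by rw [hc, hf, pow_add]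
  have hNF : N ≤ F := by
    by_contra hNF
    refine hreg (quad_lift hE hNE hN hNc fun g => ?_)
    haveI := normal_of_inv hE hNE hN
    refine quad_of_small D.pgroup (sup_le fr_le hNE) ?_ g
    have h := card_mul_le' D.pgroup (lt_of_le_of_ne (le_sup_left : F ≤ F ⊔ N) fun e =>
      hNF (le_sup_right.trans e.ge))
    rw [hEc, pow_succ' p 2, ← mul_assoc]
    exact Nat.mul_le_mul_right _ h
  have hFN : F = N := by
    refine (Subgroup.eq_of_le_of_card_ge hNF (Nat.le_of_mul_le_mul_right ?_ (pow_pos hp.out.pos 4))).symm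
    refine le_trans ?_ hG4
    rw [← card_E_mul hE, hEc, pow_succ p 3, mul_assoc]
  have hN2 : ∀ {W : Subgroup G}, N ≤ W → W ≤ E → D.Inv E W → (∃ x ∈ W, x ∉ N) → W = E := by
    intro W hNW hWE hW ⟨x, hx, hxN⟩
    by_contra hne
    exact hreg (quad_of_between hE (lt_of_le_of_ne (hFN.le.trans hNW) fun e => hxN (hFN.le (e.ge hx)))
      (lt_of_le_of_ne hWE hne) hW hEc)
  push Not at hreg
  obtain ⟨g, y, hy, hd⟩ := hreg
  set w := ⁅g, y⁆
  set d := ⁅g, w⁆
  have hw : w ∈ E := comm_mem_E hE g y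
  have hdE : d ∈ E := comm_mem_E hE g w
  rw [hFN] at hd
  have hgd : ⁅g, d⁆ ∈ N := by
    -- two steps below the first commutator
    set C := ⁅E, (⊤ : Subgroup G)⁆ ⊔ F
    haveI : C.Normal := by infer_instance
    have hlt : C < E := lt_of_le_of_ne (sup_le (Subgroup.commutator_le_left _ _) fr_le) fun e => by
      have := Subgroup.card_le_of_le (le_of_le_comm_sup D.pgroup e.ge)
      rw [hEc] at this
      exact absurd this (not_le.2 (lt_mul_of_one_lt_right Nat.card_pos (Nat.one_lt_pow (by norm_num) hp.out.one_lt)))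
    have hwC : w ∈ C := by
      rw [show w = ⁅y, g⁆⁻¹ from (commutatorElement_inv y g).symm]
      exact inv_mem (Subgroup.mem_sup_left (Subgroup.commutator_mem_commutator hy (Subgroup.mem_top g)))
    rw [← hFN]
    refine quad_of_small D.pgroup le_sup_right ?_ g w hwC
    refine Nat.le_of_mul_le_mul_right ?_ hp.out.pos
    rw [mul_assoc, ← pow_succ, ← hEc]
    exact card_mul_le' D.pgroup hlt
  -- the conjugates
  have hcen : ∀ n ∈ N, ∀ a : G, Commute a n := fun n hn a => Subgroup.mem_center_iff.1 (hNc hn) a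
  have hcomm : ∀ a ∈ E, ∀ b ∈ E, ⁅a, b⁆ ∈ N := fun a ha b hb => hFN.le (comm_mem_fr ha hb)
  have hgy : g * y * g⁻¹ = w * y := conj_eq_comm_mul
  have hgw : g * w * g⁻¹ = d * w := conj_eq_comm_mul
  have hinvar : ∀ a ∈ E, ∀ b ∈ E, ⁅g * a * g⁻¹, g * b * g⁻¹⁆ = ⁅a, b⁆ := fun a ha b hb => by
    rw [show ⁅g * a * g⁻¹, g * b * g⁻¹⁆ = g * ⁅a, b⁆ * g⁻¹ by simp only [commutatorElement_def]; group,
      (hcen _ (hcomm a ha b hb) g).eq, mul_inv_cancel_right]
  have hmul : ∀ a b c : G, ⁅b, c⁆ ∈ N → ⁅a * b, c⁆ = ⁅b, c⁆ * ⁅a, c⁆ := fun a b c h => by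
    rw [show ⁅a * b, c⁆ = a * ⁅b, c⁆ * a⁻¹ * ⁅a, c⁆ by simp only [commutatorElement_def]; group,
      (hcen _ h a).eq, mul_inv_cancel_right]
  have hmul2 : ∀ a b c : G, ⁅a, c⁆ ∈ N → ⁅a, b * c⁆ = ⁅a, b⁆ * ⁅a, c⁆ := fun a b c h => by
    rw [show ⁅a, b * c⁆ = ⁅a, b⁆ * (b * ⁅a, c⁆ * b⁻¹) by simp only [commutatorElement_def]; group,
      (hcen _ h b).eq, mul_inv_cancel_right]
  have hgdd : g * d * g⁻¹ = ⁅g, d⁆ * d := conj_eq_comm_mul
  have hwd : ⁅w, d⁆ = 1 := by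
    have h := hinvar y hy d hdE
    rw [hgy, hgdd, hmul2 _ _ _ (hcomm _ (mul_mem hw hy) _ hdE),
      commutatorElement_eq_one_iff_commute.2 (hcen _ hgd (w * y)), one_mul,
      hmul _ _ _ (hcomm y hy d hdE), mul_eq_left] at h
    exact h
  have hyd : ⁅y, d⁆ = 1 := by
    have h := hinvar y hy w hw
    rw [hgy, hgw, hmul _ _ _ (hcomm _ hy _ (mul_mem hdE hw)), hmul2 _ _ _ (hcomm y hy w hw),
      hmul2 _ _ _ (hcomm w hw w hw), hwd, commutatorElement_self, one_mul, mul_one] at h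
    exact mul_eq_right.1 h
  -- `E` is generated
  have hdN : d ∉ N := hd
  have hwN : w ∉ N := fun h => hd (by
    show d ∈ N
    rw [show d = 1 from commutatorElement_eq_one_iff_commute.2 (hcen w h g)]; exact one_mem _)
  haveI hNn : N.Normal := normal_of_inv hE hNE hN
  set C := Subgroup.centralizer (E : Set G) ⊓ E
  have hdC : d ∈ C := by
    refine ⟨Subgroup.mem_centralizer_iff.2 fun a ha => ?_, hdE⟩
    set L := N ⊔ Subgroup.closure {d, w, y}
    have hL : E ≤ L := by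
      haveI h1 : (N ⊔ Subgroup.zpowers d).Normal := sup_zpowers_normal fun a => by
        obtain ⟨e, he, i, rfl⟩ := exists_decomp hE (show g ∉ E from fun h => hd (by
          exact hcomm g h w hw)) a
        rw [comm_mem_iff, map_mul, map_zpow]
        exact (commute_mk' (hcomm d hdE e he)).mul_right ((commute_mk' hgd).symm.zpow_right i)
      have e1 := card_mul_le' D.pgroup (lt_of_le_of_ne (le_sup_left : N ≤ N ⊔ Subgroup.zpowers d)
        fun e => hdN (e.ge (Subgroup.mem_sup_right (Subgroup.mem_zpowers d))))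
      have hw2 : w ∉ N ⊔ Subgroup.zpowers d := fun h => by
        obtain ⟨k, hk, i, hki⟩ := exists_of_mem_sup h
        refine hd (comm_mem_iff.2 ?_)
        rw [hki, map_mul, map_zpow, mk'_eq_one.2 hk, one_mul]
        exact (commute_mk' hgd).zpow_right i
      have e2 := card_mul_le' D.pgroup (lt_of_le_of_ne (le_sup_left : _ ≤ N ⊔ Subgroup.zpowers d ⊔
        Subgroup.zpowers w) fun e => hw2 (e.ge (Subgroup.mem_sup_right (Subgroup.mem_zpowers w))))
      have hy2 : y ∉ N ⊔ Subgroup.zpowers d ⊔ Subgroup.zpowers w := fun h => by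
        obtain ⟨k, hk, i, hki⟩ := exists_of_mem_sup h
        have h' : ⁅g, y⁆ ∈ N ⊔ Subgroup.zpowers d := by
          refine comm_mem_iff.2 ?_
          rw [hki, map_mul, map_zpow, mk'_eq_one.2 hk, one_mul]
          exact (commute_mk' (Subgroup.mem_sup_right (Subgroup.mem_zpowers _) : ⁅g, w⁆ ∈ _)).zpow_right i
        exact hw2 h'
      have e3 := card_mul_le' D.pgroup (lt_of_le_of_ne (le_sup_left : _ ≤ N ⊔ Subgroup.zpowers d ⊔
        Subgroup.zpowers w ⊔ Subgroup.zpowers y) fun e => hy2 (e.ge (Subgroup.mem_sup_right (Subgroup.mem_zpowers y))))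
      have heq := Subgroup.eq_of_le_of_card_ge (sup_le (sup_le (sup_le hNE (Subgroup.zpowers_le.2 hdE))
        (Subgroup.zpowers_le.2 hw)) (Subgroup.zpowers_le.2 hy)) (by
          rw [hEc, hFN, show Nat.card N * p ^ 3 = Nat.card N * p * p * p by ring]
          exact (Nat.mul_le_mul_right p ((Nat.mul_le_mul_right p e1).trans e2)).trans e3)
      rw [← heq]
      refine sup_le (sup_le (sup_le le_sup_left ?_) ?_) ?_ <;>
        exact Subgroup.zpowers_le.2 (Subgroup.mem_sup_right (Subgroup.subset_closure (by simp)))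
    refine (Subgroup.mem_centralizer_singleton_iff.1 (?_ : a ∈ Subgroup.centralizer {d}) : _)
    refine (sup_le (fun n hn => ?_) ((Subgroup.closure_le _).2 ?_) : L ≤ _) (hL ha)
    · exact Subgroup.mem_centralizer_singleton_iff.2 (hcen n hn d).symm.eq
    · rintro x (rfl | rfl | rfl) <;> rw [SetLike.mem_coe, Subgroup.mem_centralizer_singleton_iff]
      exacts [(commutatorElement_eq_one_iff_commute.1 hwd).eq, (commutatorElement_eq_one_iff_commute.1 hyd).eq]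
  have hCE : C = E := hN2 (le_inf (fun n hn => Subgroup.mem_centralizer_iff.2 fun a _ => (hcen n hn a).eq) hNE)
    inf_le_right (inf_inv (cent_inv le_rfl self_inv) self_inv) ⟨d, hdC, hdN⟩
  have hab : ∀ a ∈ E, ∀ b ∈ E, a * b = b * a := fun a ha b hb =>
    (Subgroup.mem_centralizer_iff.1 (hCE.ge hb).1 a ha)
  let K : Subgroup G :=
    { carrier := {x | x ∈ E ∧ x ^ p = 1}
      one_mem' := ⟨one_mem _, one_pow p⟩
      mul_mem' := fun {a b} ha hb => ⟨mul_mem ha.1 hb.1, by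
        rw [(show Commute a b from hab a ha.1 b hb.1).mul_pow, ha.2, hb.2, one_mul]⟩
      inv_mem' := fun {a} ha => ⟨inv_mem ha.1, by rw [inv_pow, ha.2, inv_one]⟩ }
  have hconjp : ∀ a ∈ E, (g * a * g⁻¹) ^ p = a ^ p := fun a ha => by
    rw [conj_pow, (hcen _ (hFN ▸ pow_mem_fr ha) g).eq, mul_inv_cancel_right]
  have hwp : w ^ p = 1 := by
    have h := hconjp y hy
    rw [hgy, (show Commute w y from hab w hw y hy).mul_pow, mul_eq_right] at h
    exact h
  have hdp : d ^ p = 1 := by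
    have h := hconjp w hw
    rw [hgw, (show Commute d w from hab d hdE w hw).mul_pow, mul_eq_right] at h
    exact h
  have hKE : K = E := hN2 (fun n hn => ⟨hNE hn, hNp n hn⟩) (fun x hx => hx.1)
    (fun α _ x hx => ⟨(α x).2, by
      rw [← SubmonoidClass.coe_pow, ← map_pow, show x ^ p = 1 from Subtype.ext (by
        rw [SubmonoidClass.coe_pow, hx.2, OneMemClass.coe_one]), map_one, OneMemClass.coe_one]⟩)
    ⟨d, ⟨hdE, hdp⟩, hdN⟩
  have hel : IsElementaryAbelian p E := ElemAbelian.of_comm_of_pow hab fun a ha => (hKE.ge ha).2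
  have h5 := card_elem_le D hel
  rw [hEc, hFN] at h5
  have hN1 : Nat.card N = 1 := le_antisymm
    (Nat.le_of_mul_le_mul_right (by rwa [one_mul]) (pow_pos hp.out.pos 3)) Nat.card_pos
  exact ⟨Subgroup.card_eq_one.1 hN1, hel, by rw [hEc, hFN, hN1, one_mul]⟩

omit hE in
/-- The intersection modulo a central common subgroup with a small quotient. -/
theorem meet_block {E1 E2 N : Subgroup G} [N.Normal] (hP : D.Pair E1 E2) (hN : Common D E1 E2 N)
    (hNc : N ≤ Subgroup.center G) (hG4 : Nat.card G ≤ Nat.card N * p ^ 4)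
    (h3 : ∃ a b c : G, ⁅⁅a, b⁆, c⁆ ∉ N) :
    ∃ L : Subgroup G, L.Normal ∧ N < L ∧ L < E1 ⊓ E2 ∧ Nat.card (E1 ⊓ E2 : Subgroup G) ≤ Nat.card L * p ∧
      Nat.card L ≤ Nat.card N * p ∧ (∀ x ∈ E1 ⊓ E2, ∀ a : G, ⁅x, a⁆ ∈ L) ∧
      (∀ x ∈ L, ∀ a : G, ⁅x, a⁆ ∈ N) ∧ (∀ x ∈ L, x ^ p ∈ N) ∧
      (∀ x ∈ E1 ⊓ E2, ∀ y ∈ E1 ⊓ E2,
        Commute (QuotientGroup.mk' N x) (QuotientGroup.mk' N y)) ∧ Tri p N := by
  haveI := D.normal hP.h1
  haveI := D.normal hP.h2
  set P := E1 ⊓ E2 with hPdef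
  haveI hPn : P.Normal := by rw [hPdef]; infer_instance
  set π := QuotientGroup.mk' N
  have hπ : Function.Surjective π := QuotientGroup.mk'_surjective N
  have hNP : N ≤ P := le_inf hN.le1 hN.le2
  have hPc : Nat.card P ≤ Nat.card N * p ^ 2 := by
    refine Nat.le_of_mul_le_mul_right ?_ (pow_pos hp.out.pos 2)
    rw [sq, ← mul_assoc, hP.card_meet, card_E_mul hP.h2, mul_assoc, show p * p * (p * p) = p ^ 4 by ring]
    exact hG4
  have hcommP : ∀ a b : G, ⁅a, b⁆ ∈ P := fun a b => ⟨comm_mem_E hP.h1 a b, comm_mem_E hP.h2 a b⟩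
  set L := ⁅P, (⊤ : Subgroup G)⁆ ⊔ N
  haveI : L.Normal := by infer_instance
  have hLlt : L < P := by
    refine lt_of_le_of_ne (sup_le (Subgroup.commutator_le_left _ _) hNP) fun h => ?_
    have hle := le_of_le_comm_sup D.pgroup h.ge
    obtain ⟨a, b, c, habc⟩ := h3
    refine habc ?_
    have : ⁅a, b⁆ ∈ N := hle (hcommP a b)
    rw [commutatorElement_eq_one_iff_commute.2 (Subgroup.mem_center_iff.1 (hNc this) c).symm]
    exact one_mem _
  have hLc : Nat.card L ≤ Nat.card N * p := Nat.le_of_mul_le_mul_right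
    ((card_mul_le' D.pgroup hLlt).trans (by rw [mul_assoc, ← sq]; exact hPc)) hp.out.pos
  have hLP : ∀ x ∈ P, ∀ a : G, ⁅x, a⁆ ∈ L := fun x hx a =>
    Subgroup.mem_sup_left (Subgroup.commutator_mem_commutator hx (Subgroup.mem_top a))
  have hLN : ∀ x ∈ L, ∀ a : G, ⁅x, a⁆ ∈ N := fun x hx a =>
    comm_le_of_card_le D.pgroup le_sup_right hLc (Subgroup.commutator_mem_commutator hx (Subgroup.mem_top a))
  have hLpow : ∀ x ∈ L, x ^ p ∈ N := fun x hx => pow_mem_of_card_le D.pgroup le_sup_right hLc hx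
  have hLcomm : ∀ x ∈ L, ∀ a, Commute (π x) (π a) := fun x hx a => commute_mk' (hLN x hx a)
  have hPL : Nat.card P ≤ Nat.card L * p := by
    refine hPc.trans ?_
    rw [sq, ← mul_assoc]
    refine Nat.mul_le_mul_right p (card_mul_le' D.pgroup (lt_of_le_of_ne (le_sup_right : N ≤ L)
      fun e' => ?_))
    obtain ⟨a, b, c, habc⟩ := h3
    exact habc (e'.ge (hLP _ (hcommP a b) c))
  have hPab : ∀ x ∈ P, ∀ y ∈ P, Commute (π x) (π y) := by
    intro x hx y hy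
    obtain ⟨w, hw, hwL⟩ := SetLike.exists_of_lt hLlt
    have hPeq := eq_sup_zpowers D.pgroup hLlt.le hPL hw hwL
    rw [hPeq] at hx hy
    obtain ⟨k, hk, i, rfl⟩ := exists_of_mem_sup hx
    obtain ⟨m, hm, j, rfl⟩ := exists_of_mem_sup hy
    simp only [map_mul, map_zpow]
    exact ((hLcomm k hk m).mul_right ((hLcomm k hk w).zpow_right j)).mul_left
      ((((hLcomm m hm w).symm).zpow_left i).mul_right ((Commute.refl _).zpow_zpow i j))
  have hT : Tri p N := ⟨fun a b c q => hLN _ (hLP _ (hcommP a b) c) q,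
    fun a b c => hLpow _ (hLP _ (hcommP a b) c)⟩
  refine ⟨L, inferInstance, lt_of_le_of_ne le_sup_right fun e => ?_, hLlt, hPL, hLc, hLP, hLN, hLpow, hPab, hT⟩
  obtain ⟨a, b, c, habc⟩ := h3
  exact habc (e.ge (hLP _ (hcommP a b) c))

omit hE in
/-- A triple commutator of the generators forces the double commutator into the Frattini part. -/
theorem false_of_val {E1 E2 N : Subgroup G} [N.Normal] (hP : D.Pair E1 E2) (hN : Common D E1 E2 N)
    (hNc : N ≤ Subgroup.center G) (hG4 : Nat.card G ≤ Nat.card N * p ^ 4)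
    (h3 : ∃ a b c : G, ⁅⁅a, b⁆, c⁆ ∉ N) {σ1 σ2 : MulAut G} {g1 z1 e g2 z2 r : G} {φ1 : MulAut E1}
    {φ2 : MulAut E2} (T1 : D.Torus E1 E1 (fr p E1) N σ1 g1 z1 e φ1)
    (T2 : D.Torus E2 E2 (fr p E2) N σ2 g2 z2 r φ2)
    (hq2 : ∀ (g : G), ∀ x ∈ E2, ⁅g, ⁅g, x⁆⁆ ∈ fr p E2)
    (hne1 : Tri.val N e r e ≠ 1) : False := by
  haveI := D.normal hP.h1
  haveI := D.normal hP.h2
  obtain ⟨L, hLn, hNL, hLlt, hPL, hLc, hLP, hLN, hLpow, hPab, hT⟩ := meet_block hP hN hNc hG4 h3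
  haveI := hLn
  set P := E1 ⊓ E2 with hPdef
  haveI hPn : P.Normal := by rw [hPdef]; infer_instance
  set π := QuotientGroup.mk' N
  have hcommP : ∀ a b : G, ⁅a, b⁆ ∈ P := fun a b => ⟨comm_mem_E hP.h1 a b, comm_mem_E hP.h2 a b⟩
  have hLcomm : ∀ x ∈ L, ∀ a, Commute (π x) (π a) := fun x hx a => commute_mk' (hLN x hx a)
  have hS := signs_of_tori hP T1 T2
  set c := ⁅e, r⁆
  set n := ⁅c, e⁆
  have hnN : n ∉ N := fun h => hne1 (mk'_eq_one.2 h)
  have hcP : c ∈ P := hcommP e r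
  have hnL : n ∈ L := hLP c hcP e
  have hΦP : fr p (⊤ : Subgroup G) ≤ P := le_inf
    (fr_le_of (fun x _ => pow_mem_E hP.h1 x) fun x _ y _ => comm_mem_E hP.h1 x y)
    (fr_le_of (fun x _ => pow_mem_E hP.h2 x) fun x _ y _ => comm_mem_E hP.h2 x y)
  have hLeq : L = N ⊔ Subgroup.zpowers n := eq_sup_zpowers D.pgroup hNL.le hLc hnL hnN
  have hval : ∀ {σ : MulAut G}, (∀ x ∈ N, σ x = x) → ∀ {a a' : G}, π a = π a' → π (σ a) = π (σ a') := by
    intro σ hσ a a' h
    refine QuotientGroup.eq.2 ?_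
    rw [← map_inv, ← map_mul, hσ _ (QuotientGroup.eq.1 h)]
    exact QuotientGroup.eq.1 h
  have hΦ : ∀ {x y : G}, x⁻¹ * y ∈ fr p (⊤ : Subgroup G) → x⁻¹ * y ∈ fr p (⊤ : Subgroup G) ⊔ N :=
    fun h => Subgroup.mem_sup_left h
  have f1r := hΦ hS.fixr
  have i1e : (e⁻¹)⁻¹ * σ1 e ∈ fr p (⊤ : Subgroup G) ⊔ N := by rw [inv_inv]; exact Subgroup.mem_sup_left hS.inv1
  have hσn : π (σ1 n) = π n := by
    show π (σ1 ⁅⁅e, r⁆, e⁆) = Tri.val N e r e
    simp only [map_commutatorElement σ1]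
    show Tri.val N (σ1 e) (σ1 r) (σ1 e) = _
    rw [← hT.congr₁ i1e, ← hT.congr₂ f1r, ← hT.congr₃ i1e, hT.inv₁, hT.inv₃, inv_inv]
  have hm : Tri.val N e r r = 1 := by
    refine eq_one_of_eq_inv D.odd (hT.pow_one' _ _ _) ?_
    have hmL : ⁅c, r⁆ ∈ N ⊔ Subgroup.zpowers n := hLeq ▸ hLP c hcP r
    obtain ⟨k, hk, i, hki⟩ := exists_of_mem_sup hmL
    have h1 : π (σ1 ⁅c, r⁆) = π ⁅c, r⁆ := by
      rw [hki, map_mul σ1, map_zpow σ1, map_mul, map_mul, map_zpow, map_zpow, hσn, T1.fixN k hk]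
    refine h1.symm.trans ?_
    show π (σ1 ⁅⁅e, r⁆, r⁆) = _
    simp only [map_commutatorElement σ1]
    show Tri.val N (σ1 e) (σ1 r) (σ1 r) = _
    rw [← hT.congr₁ i1e, ← hT.congr₂ f1r, ← hT.congr₃ f1r, hT.inv₁]
  -- the commutator of the generators has order `p`
  have hcL : c ∉ L := fun h => hnN (hLN c h e)
  have hPeq : P = L ⊔ Subgroup.zpowers c := by
    exact eq_sup_zpowers D.pgroup hLlt.le hPL hcP hcL
  have hσc : c * σ1 c ∈ L := by
    set ρ := QuotientGroup.mk' L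
    have hPcen : ∀ x ∈ P, ∀ a, Commute (ρ x) a := fun x hx a => QuotientGroup.induction_on a fun a =>
      commute_mk' (hLP x hx a)
    have e1 : ρ (σ1 e) = (ρ e)⁻¹ * ρ (e * σ1 e) := by rw [map_mul, inv_mul_cancel_left]
    have e2 : ρ (σ1 r) = ρ r * ρ (r⁻¹ * σ1 r) := by rw [map_mul, map_inv, mul_inv_cancel_left]
    rw [← mk'_eq_one, map_mul, ← eq_inv_iff_mul_eq_one]
    simp only [c, map_commutatorElement σ1]
    rw [map_commutatorElement ρ (σ1 e), map_commutatorElement ρ e, e1, e2]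
    have q1 := hPcen _ (hΦP hS.inv1)
    have q2 := hPcen _ (hΦP hS.fixr)
    have q3 : Commute ⁅(ρ e)⁻¹, ρ r⁆ (ρ e) := by
      rw [← map_inv, ← map_commutatorElement]; exact hPcen _ (hcommP _ _) _
    have e3 : ⁅(ρ e)⁻¹ * ρ (e * σ1 e), ρ r * ρ (r⁻¹ * σ1 r)⁆ = ⁅(ρ e)⁻¹, ρ r⁆ := by
      rw [show ⁅(ρ e)⁻¹ * ρ (e * σ1 e), ρ r * ρ (r⁻¹ * σ1 r)⁆ =
        (ρ e)⁻¹ * ⁅ρ (e * σ1 e), ρ r * ρ (r⁻¹ * σ1 r)⁆ * ρ e *
          ⁅(ρ e)⁻¹, ρ r * ρ (r⁻¹ * σ1 r)⁆ by simp only [commutatorElement_def]; group,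
        commutatorElement_eq_one_iff_commute.2 (q1 _), mul_one, inv_mul_cancel, one_mul,
        show ⁅(ρ e)⁻¹, ρ r * ρ (r⁻¹ * σ1 r)⁆ = ⁅(ρ e)⁻¹, ρ r⁆ * (ρ r * ⁅(ρ e)⁻¹, ρ (r⁻¹ * σ1 r)⁆ * (ρ r)⁻¹) by
          simp only [commutatorElement_def]; group,
        commutatorElement_eq_one_iff_commute.2 (q2 _).symm, mul_one, mul_inv_cancel, mul_one]
    rw [e3, eq_inv_iff_mul_eq_one]
    have e4 : (ρ e)⁻¹ * ⁅ρ e, ρ r⁆ * ρ e = ⁅ρ e, ρ r⁆ := by
      rw [← map_commutatorElement, mul_assoc, (hPcen _ (hcommP e r) _).eq, inv_mul_cancel_left]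
    rw [← e4, show (ρ e)⁻¹ * ⁅ρ e, ρ r⁆ * ρ e = ⁅(ρ e)⁻¹, ρ r⁆⁻¹ by simp only [commutatorElement_def]; group,
      inv_mul_cancel]
  have hcp : c ^ p ∈ N := by
    have hcpL : c ^ p ∈ L := pow_mem_of_card_le D.pgroup hLlt.le hPL hcP
    obtain ⟨k, hk, i, hki⟩ := exists_of_mem_sup (hLeq ▸ hcpL : c ^ p ∈ N ⊔ Subgroup.zpowers n)
    have h1 : π (σ1 (c ^ p)) = π (c ^ p) := by
      rw [hki, map_mul σ1, map_zpow σ1, map_mul, map_mul, map_zpow, map_zpow, hσn, T1.fixN k hk]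
    refine mem_of_sq D.pgroup D.odd (mk'_eq_one.1 ?_)
    rw [map_mul π]
    calc π (c ^ p) * π (c ^ p) = π (c ^ p) * π (σ1 (c ^ p)) := by rw [h1]
      _ = (π c * π (σ1 c)) ^ p := by
        rw [map_pow σ1, map_pow, map_pow, (Commute.mul_pow (hPab _ hcP _ ?_) p)]
        exact ⟨hP.glob1 _ T1.glob c hcP.1, hP.glob2 _ T1.glob c hcP.2⟩
      _ = 1 := by rw [← map_mul π, ← map_pow, mk'_eq_one]; exact hLpow _ hσc
  have hPp : ∀ x ∈ P, π x ^ p = 1 := by
    intro x hx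
    rw [hPeq] at hx
    obtain ⟨k, hk, i, rfl⟩ := exists_of_mem_sup hx
    rw [map_mul, map_zpow, Commute.mul_pow ((hLcomm k hk c).zpow_right i), ← zpow_natCast (π c ^ i),
      ← zpow_mul, mul_comm, zpow_mul, zpow_natCast, ← map_pow, ← map_pow, mk'_eq_one.2 hcp,
      mk'_eq_one.2 (hLpow k hk), one_zpow, one_mul]
  have hPr : ∀ x ∈ P, Commute (π x) (π r) := by
    intro x hx
    rw [hPeq] at hx
    obtain ⟨k, hk, i, rfl⟩ := exists_of_mem_sup hx
    rw [map_mul, map_zpow]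
    exact (hLcomm k hk r).mul_left ((commute_mk' (mk'_eq_one.1 hm)).zpow_left i)
  have hdec : ∀ x ∈ E2, ∃ d ∈ P, ∃ i : ℤ, x = d * r ^ i := fun x hx => by
    obtain ⟨d, hd, i, rfl⟩ := exists_decomp hP.h1 hS.r1 x
    exact ⟨d, ⟨hd, by simpa using mul_mem hx (inv_mem (E2.zpow_mem hS.r2 i))⟩, i, rfl⟩
  have hE2ab : ∀ x ∈ E2, ∀ y ∈ E2, Commute (π x) (π y) := by
    intro x hx y hy
    obtain ⟨d, hd, i, rfl⟩ := hdec x hx
    obtain ⟨d', hd', j, rfl⟩ := hdec y hy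
    simp only [map_mul, map_zpow]
    exact ((hPab d hd d' hd').mul_right ((hPr d hd).zpow_right j)).mul_left
      (((hPr d' hd').symm.zpow_left i).mul_right ((Commute.refl _).zpow_zpow i j))
  have hrp : r ^ p ∈ N := by
    obtain ⟨x0, -, hz⟩ := T2.z_eq
    have hzP : z2 ∈ P := hz ▸ hcommP g2 x0
    obtain ⟨b, hb, hbz⟩ := T2.φ_z
    set zE : E2 := ⟨z2, T2.zX⟩
    set u := (z2 * r ^ b)⁻¹ * (φ2 zE : G)
    have hu : u ∈ P := fr_le_meet hP (Or.inr rfl) (hbz zE rfl)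
    have h1 : (φ2 zE : G) ^ p ∈ N := by
      rw [← SubmonoidClass.coe_pow, ← map_pow]
      refine hN.inv2 φ2 T2.φ_mem _ ?_
      rw [SubmonoidClass.coe_pow, ← mk'_eq_one, map_pow]
      exact hPp _ hzP
    rw [← mk'_eq_one, map_pow, show (φ2 zE : G) = z2 * r ^ b * u by rw [mul_inv_cancel_left]] at h1
    rw [map_mul, (hE2ab _ (mul_mem hzP.2 (E2.zpow_mem hS.r2 b)) _ hu.2).mul_pow, hPp _ hu, mul_one,
      map_mul, (hE2ab _ hzP.2 _ (E2.zpow_mem hS.r2 b)).mul_pow, hPp _ hzP, one_mul, map_zpow,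
      ← zpow_natCast, ← zpow_mul, mul_comm, zpow_mul, zpow_natCast, ← map_pow, ← map_zpow, mk'_eq_one] at h1
    refine mem_of_zpow (p := p) ?_ (i := b) hb h1
    obtain ⟨d, hd, i, hdi⟩ := hdec (r ^ p) (pow_mem hS.r2 p)
    have hrP : r ^ p ∈ P := ⟨pow_mem_E hP.h1 r, pow_mem_E hP.h2 r⟩
    rw [← mk'_eq_one, map_pow]
    exact hPp _ hrP
  have hfN : fr p E2 ≤ N := by
    refine fr_le_of (fun x hx => ?_) fun x hx y hy => ?_
    · obtain ⟨d, hd, i, rfl⟩ := hdec x hx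
      rw [← mk'_eq_one, map_pow, map_mul, map_zpow, Commute.mul_pow ((hPr d hd).zpow_right i), hPp d hd,
        one_mul, ← zpow_natCast, ← zpow_mul, mul_comm, zpow_mul, zpow_natCast, ← map_pow,
        mk'_eq_one.2 hrp, one_zpow]
    · exact comm_mem_iff.2 (hE2ab x hx y hy)
  refine hnN ?_
  rw [show n = ⁅e, ⁅e, r⁆⁆⁻¹ from (commutatorElement_inv _ _).symm]
  exact inv_mem (hfN (hq2 e r hS.r2))

omit hE in
/-- Quadratic actions of both subgroups are impossible. -/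
theorem false_of_quad {E1 E2 N : Subgroup G} (hP : D.Pair E1 E2) (hN : Common D E1 E2 N)
    (hNc : N ≤ Subgroup.center G) (hG4 : Nat.card G ≤ Nat.card N * p ^ 4)
    (h3 : ∃ a b c : G, ⁅⁅a, b⁆, c⁆ ∉ N)
    (hq1 : ∀ (g : G), ∀ x ∈ E1, ⁅g, ⁅g, x⁆⁆ ∈ fr p E1)
    (hq2 : ∀ (g : G), ∀ x ∈ E2, ⁅g, ⁅g, x⁆⁆ ∈ fr p E2) : False := by
  haveI := hN.normal
  obtain ⟨σ1, g1, z1, e, φ1, T1⟩ := D.exists_torus_section hP.h1 le_rfl fr_le le_rfl self_inv fr_inv
    hN.inv1 hNc (fun g x _ => comm_mem_E hP.h1 g x) (fun g x hx => comm_fr hP.h1 g hx) hq1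
  obtain ⟨σ2, g2, z2, r, φ2, T2⟩ := D.exists_torus_section hP.h2 le_rfl fr_le le_rfl self_inv fr_inv
    hN.inv2 hNc (fun g x _ => comm_mem_E hP.h2 g x) (fun g x hx => comm_fr hP.h2 g hx) hq2
  obtain ⟨L, -, -, -, -, -, hLP, hLN, -, hPab, hT⟩ := meet_block hP hN hNc hG4 h3
  set P := E1 ⊓ E2
  set π := QuotientGroup.mk' N
  have hcommP : ∀ a b : G, ⁅a, b⁆ ∈ P := fun a b => ⟨comm_mem_E hP.h1 a b, comm_mem_E hP.h2 a b⟩
  have hS := signs_of_tori hP T1 T2
  -- one of the two values is not trivial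
  have hne : Tri.val N e r e ≠ 1 ∨ Tri.val N r e r ≠ 1 := by
    by_contra hcon
    push Not at hcon
    obtain ⟨he1, hr1⟩ := hcon
    have hz : ∀ d ∈ P, ∀ a c, Tri.val N d a c = 1 := fun d hd a c => mk'_eq_one.2 (hLN _ (hLP d hd a) c)
    have h3' : ∀ a b, ∀ d ∈ P, Tri.val N a b d = 1 := fun a b d hd => by
      rw [Tri.val, map_commutatorElement, commutatorElement_eq_one_iff_commute]
      exact hPab _ (hcommP a b) d hd
    have hgen : ∀ f : G → (G ⧸ N), (∀ x y, f (x * y) = f x * f y) → (∀ x i, f (x ^ (i : ℤ)) = f x ^ i) →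
        (∀ d ∈ P, f d = 1) → f e = 1 → f r = 1 → ∀ x, f x = 1 := by
      intro f hm hzp hd he hr x
      obtain ⟨d, hd', i, j, rfl⟩ := hS.decomp x
      rw [hm, hm, hzp, hzp, hd d hd', he, hr, one_zpow, one_zpow, one_mul, one_mul]
    have hrer : Tri.val N e r r = 1 := by rw [hT.swap, hr1, inv_one]
    have here : Tri.val N r e e = 1 := by rw [hT.swap, he1, inv_one]
    obtain ⟨a, b, c, habc⟩ := h3
    refine habc (mk'_eq_one.1 ?_)
    show Tri.val N a b c = 1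
    refine hgen (fun a => Tri.val N a b c) (fun _ _ => hT.mul₁ ..) (fun _ _ => hT.zpow₁ ..)
      (fun d hd => hz d hd b c) ?_ ?_ a
    all_goals
      refine hgen (fun y => Tri.val N _ y c) (fun _ _ => hT.mul₂ ..) (fun _ _ => hT.zpow₂ ..)
        (fun d hd => by rw [hT.swap, hz d hd, inv_one]) ?_ ?_ b
    all_goals
      refine hgen (fun y => Tri.val N _ _ y) (fun _ _ => hT.mul₃ ..) (fun _ _ => hT.zpow₃ ..)
        (h3' _ _) ?_ ?_ c
    exacts [hT.refl .., hT.refl .., he1, hrer, here, hr1, hT.refl .., hT.refl ..]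
  rcases hne with h | h
  · exact false_of_val hP hN hNc hG4 h3 T1 T2 hq2 h
  · exact false_of_val hP.symm hN.symm hNc hG4 h3 T2 T1 hq1 h

omit hE in
/-- The block with a central common subgroup. -/
theorem block_type {E1 E2 N : Subgroup G} (hP : D.Pair E1 E2) (hN : Common D E1 E2 N)
    (hNc : N ≤ Subgroup.center G) (hNp : ∀ x ∈ N, x ^ p = 1) (hG4 : Nat.card G ≤ Nat.card N * p ^ 4)
    (h3 : ∃ a b c : G, ⁅⁅a, b⁆, c⁆ ∉ N) :
    N = ⊥ ∧ ((IsElementaryAbelian p E1 ∧ Nat.card E1 = p ^ 3) ∨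
      (IsElementaryAbelian p E2 ∧ Nat.card E2 = p ^ 3)) := by
  by_cases hq1 : ∀ (g : G), ∀ x ∈ E1, ⁅g, ⁅g, x⁆⁆ ∈ fr p E1
  · by_cases hq2 : ∀ (g : G), ∀ x ∈ E2, ⁅g, ⁅g, x⁆⁆ ∈ fr p E2
    · exact (false_of_quad hP hN hNc hG4 h3 hq1 hq2).elim
    · obtain ⟨h, h'⟩ := type_of_regular hP.h2 hN.le2 hN.inv2 hNc hNp hG4 hq2
      exact ⟨h, Or.inr h'⟩
  · obtain ⟨h, h'⟩ := type_of_regular hP.h1 hN.le1 hN.inv1 hNc hNp hG4 hq1
    exact ⟨h, Or.inl h'⟩

end NormalSys

end Cfsg.Agent.Lib.RankThreeNormal61
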