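import Mathlib
import Cfsg.Agent.Lib.RankThreeNormal61.Quot
import Cfsg.Agent.Lib.RankThreeNormal61.TypeBlock
import Cfsg.Agent.Lib.RankThreeNormal61.Main
import Cfsg.Agent.Lib.RankThreeNormal61.Block

/-!
Two distinguished subgroups in a group of class at least three: there is no common subgroup.
-/

set_option autoImplicit false
set_option linter.unusedSectionVars false

namespace Cfsg.Agent.Lib.RankThreeNormal61

open Cfsg Cfsg.Agent.Lib Cfsg.Agent.Lib.RankThreeEss69
open scoped commutatorElement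

universe u

variable {G : Type u} [Group G] [Finite G] {p : ℕ} [hp : Fact p.Prime]

/-- A group with the relations and order `p ^ 4` has class three. -/
theorem BlockRel.triple_ne_one (hp2 : p ≠ 2) {e v u z : G} (h : BlockRel p e v u z)
    (hc : Nat.card G = p ^ 4) : ⁅⁅e, v⁆, e⁆ ≠ 1 := by
  have hf : Function.Bijective (blockForm (p := p) e v u z) := (Nat.bijective_iff_surjective_and_card _).2
    ⟨h.form_surjective hp2, by rw [hc]; simp only [Nat.card_prod, Nat.card_zmod]; ring⟩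
  have hz : z ≠ 1 := fun hz => by
    have h0 := hf.1 (a₁ := (0, 0, 0, 1)) (a₂ := (0, 0, 0, 0)) (by
      simp only [blockForm, pz, hz, one_pow, pow_zero, ZMod.val_zero, one_mul])
    simp only [Prod.mk.injEq, true_and] at h0
    exact one_ne_zero h0
  intro h1
  have h2 : ⁅e, v⁆ = u := by
    rw [commutatorElement_def, h.ev, h.vu.eq, mul_inv_cancel_right]
  rw [h2, commutatorElement_eq_one_iff_commute] at h1
  have h3 := h.eu
  rw [← h1.eq, mul_inv_cancel_right, eq_comm, mul_eq_left] at h3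
  exact hz h3

namespace NormalSys

/-- A minimal common subgroup. -/
theorem exists_minimal_common {D : NormalSys p G} {E1 E2 K : Subgroup G} (hK : Common D E1 E2 K)
    (hK1 : K ≠ ⊥) : ∃ N, Common D E1 E2 N ∧ N ≠ ⊥ ∧ IsElementaryAbelian p N ∧
      ∀ M ≤ N, M ≠ ⊥ → Common D E1 E2 M → M = N := by
  classical
  have hex : ∃ n, ∃ N, Common D E1 E2 N ∧ N ≠ ⊥ ∧ Nat.card N = n := ⟨_, K, hK, hK1, rfl⟩
  obtain ⟨N, hN, hN1, hNc⟩ := Nat.find_spec hex
  have hmin : ∀ M ≤ N, M ≠ ⊥ → Common D E1 E2 M → M = N := fun M hM hM1 hMC =>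
    Subgroup.eq_of_le_of_card_ge hM (by rw [hNc]; exact Nat.find_min' hex ⟨M, hMC, hM1, rfl⟩)
  haveI := hN.normal
  let Z : Subgroup G :=
    { carrier := {x | x ∈ N ∧ (∀ y ∈ N, Commute x y) ∧ x ^ p = 1}
      one_mem' := ⟨one_mem _, fun y _ => Commute.one_left y, one_pow p⟩
      mul_mem' := fun {a b} ha hb => ⟨mul_mem ha.1 hb.1, fun y hy => (ha.2.1 y hy).mul_left (hb.2.1 y hy),
        by rw [(ha.2.1 b hb.1).mul_pow, ha.2.2, hb.2.2, one_mul]⟩
      inv_mem' := fun {a} ha => ⟨inv_mem ha.1, fun y hy => (ha.2.1 y hy).inv_left,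
        by rw [inv_pow, ha.2.2, inv_one]⟩ }
  have hinv : ∀ {E : Subgroup G}, N ≤ E → D.Inv E N → D.Inv E Z := by
    intro E hNE hNi α hα x hx
    refine ⟨hNi α hα x hx.1, fun y hy => ?_, ?_⟩
    · obtain ⟨w, hw⟩ := α.surjective ⟨y, hNE hy⟩
      have hwN : (w : G) ∈ N := by
        have h := hNi _ (inv_mem hα) (α w) (by rw [hw]; exact hy)
        rwa [MulAut.inv_apply_self] at h
      rw [show y = ((α w : E) : G) from (congrArg Subtype.val hw).symm]
      show ((α x : E) : G) * (α w : E) = (α w : E) * (α x : E)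
      rw [← Subgroup.coe_mul, ← Subgroup.coe_mul, ← map_mul, ← map_mul]
      exact congrArg Subtype.val (congrArg α (Subtype.ext (hx.2.1 _ hwN).eq))
    · rw [← SubmonoidClass.coe_pow, ← map_pow, show x ^ p = 1 from Subtype.ext (by
        rw [SubmonoidClass.coe_pow, hx.2.2, OneMemClass.coe_one]), map_one, OneMemClass.coe_one]
  have hZ : Common D E1 E2 Z := ⟨fun x hx => hN.le1 hx.1, fun x hx => hN.le2 hx.1,
    fun γ hγ x hx => ⟨hN.glob γ hγ x hx.1, fun y hy => by
      obtain ⟨w, rfl⟩ := γ.surjective y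
      have hw : w ∈ N := by
        have h := hN.glob _ (inv_mem hγ) _ hy
        rwa [MulAut.inv_apply_self] at h
      exact (hx.2.1 w hw).map γ, by rw [← map_pow, hx.2.2, map_one]⟩,
    hinv hN.le1 hN.inv1, hinv hN.le2 hN.inv2⟩
  have hZ1 : Z ≠ ⊥ := fun h => by
    obtain ⟨z, hz, hzc, hz1⟩ := exists_mem_zOne D.pgroup hN1
    exact hz1 (Subgroup.mem_bot.1 (h.le ⟨hz, fun y _ => (zOne_commute hzc y).symm, hzc.2⟩))
  have hZN : Z = N := hmin Z (fun x hx => hx.1) hZ1 hZ
  exact ⟨N, hN, hN1, ElemAbelian.of_comm_of_pow (fun a ha b hb => ((hZN.ge ha).2.1 b hb).eq)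
    fun a ha => (hZN.ge ha).2.2, hmin⟩

/-- In class at least three there is no common subgroup. -/
theorem coreFree_of_class : ∀ (n : ℕ) {G : Type u} [Group G] [Finite G] (D : NormalSys p G)
    (E1 E2 : Subgroup G), D.Pair E1 E2 → GlobInner D → Nat.card G = n →
    (∃ a b c : G, ⁅⁅a, b⁆, c⁆ ≠ 1) → D.CoreFree := by
  intro n
  induction n using Nat.strong_induction_on with
  | _ n ih =>
  intro G _ _ D E1 E2 hP hgi hn h3 K hK1 hKg hKe
  obtain ⟨N, hN, hN1, hel, hmin⟩ := exists_minimal_common (D := D) (E1 := E1) (E2 := E2)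
    ⟨(hKe E1 hP.h1).1, (hKe E2 hP.h2).1, hKg, (hKe E1 hP.h1).2, (hKe E2 hP.h2).2⟩ hK1
  haveI := hN.normal
  have hNc := le_center_of_minimal hP hN hN1 hel hmin
  by_cases hq : ∀ a b c : G, ⁅⁅a, b⁆, c⁆ ∈ N
  · obtain ⟨a, b, c, habc⟩ := h3
    exact habc (class_two_of_common hP hN hNc hel.2 hq a b c)
  push Not at hq
  obtain ⟨D', hP', hgi'⟩ := exists_quot hP hN hNc hel.2 hgi hq
  have hlt : Nat.card (G ⧸ N) < n := by
    rw [← hn, Subgroup.card_eq_card_quotient_mul_card_subgroup N]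
    refine lt_mul_of_one_lt_right Nat.card_pos ?_
    haveI : Nontrivial N := N.nontrivial_iff_ne_bot.2 hN1
    exact Finite.one_lt_card
  have h3' : ∃ a b c : G ⧸ N, ⁅⁅a, b⁆, c⁆ ≠ 1 := by
    obtain ⟨a, b, c, habc⟩ := hq
    refine ⟨QuotientGroup.mk' N a, QuotientGroup.mk' N b, QuotientGroup.mk' N c, fun h => habc ?_⟩
    rw [← map_commutatorElement, ← map_commutatorElement, mk'_eq_one] at h
    exact h
  obtain ⟨-, hc⟩ := exists_block D' (ih _ hlt D' _ _ hP' hgi' rfl h3')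
  have hG4 : Nat.card G ≤ Nat.card N * p ^ 4 := by
    rw [Subgroup.card_eq_card_quotient_mul_card_subgroup N, hc, mul_comm]
  exact hN1 (block_type hP hN hNc hel.2 hG4 hq).1

end NormalSys

end Cfsg.Agent.Lib.RankThreeNormal61
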